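import Mathlib
import Cfsg.Agent.Lib.Chev.TopCentralizer
import Cfsg.Agent.Lib.Chev.FullAll

/-!
Kernel-checked facts about the root tables used for the finite overgroups of subfield groups.
-/

set_option autoImplicit false

namespace Cfsg.Lib.Chev.Ovg

open Cfsg.Lie

/-- The pairing with the highest root. -/
def pr (T : Tbl) (r : ℕ) : ℤ := corPair T (T.nroots - 1) r

/-- A long root, read from a bit mask. -/
def lg (L r : ℕ) : Bool := L.testBit r

/-- Two root groups that commute by the commutator formula. -/
def cm (T : Tbl) (r s : ℕ) : Bool := Nat.beq s r || (!Nat.beq s (T.neg r) && (tTerms T r s).isEmpty)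

/-- A pair to which the commutator formula applies. -/
def nc (T : Tbl) (r s : ℕ) : Bool := !Nat.beq s r && !Nat.beq s (T.neg r)

/-- The coefficient is a sign. -/
def sgnB (c : ℤ) : Bool := decide (c = 1) || decide (c = -1)

/-- A linear term with unit coefficient. -/
def unit1 (x : ℕ × ℤ × ℕ × ℕ) : Bool := sgnB x.2.1 && (Nat.beq x.2.2.1 1 && Nat.beq x.2.2.2 1)

/-- The commutator is a single root element for the root `k`. -/
def oneRoot (T : Tbl) (r s k : ℕ) : Bool :=
  nc T r s && match tTerms T r s with
  | [x] => Nat.beq x.1 k && unit1 x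
  | _ => false

/-- The commutator is a single root element for some long root of level one. -/
def oneLong (T : Tbl) (L r s : ℕ) : Bool :=
  nc T r s && match tTerms T r s with
  | [x] => unit1 x && (lg L x.1 && decide (pr T x.1 = 1)) && cm T x.1 s && decide (corPair T x.1 s = 1 ∨ pr T s ≠ 0)
  | _ => false

/-- The general facts. -/
noncomputable def chkBase (T : Tbl) (L : ℕ) : Bool :=
  lg L (T.nroots - 1) &&
  allBelow (fun r =>
    decide (-2 ≤ pr T r ∧ pr T r ≤ 2 ∧ (pr T r = 2 → r = T.nroots - 1) ∧
      (pr T r = -2 → r = T.neg (T.nroots - 1)) ∧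
      (1 ≤ pr T r → T.nroots ≤ 2 * r) ∧ (T.nroots ≤ 2 * r → 0 ≤ pr T r)) &&
    (allBelow (fun i => lg L r == lg L (T.refl' i r)) T.rank &&
    ((!lg L r || (Nat.beq r (T.nroots - 1) || anyBelow (fun i => Nat.blt r (T.refl' i r)) T.rank)) &&
    ((!lg L r || (Nat.beq r (T.nroots - 1) || anyBelow (fun s => lg L s &&
      ((Nat.beq s (T.nroots - 1) || decide (pr T r < pr T s)) && (!Nat.beq s r && cm T r s))) T.nroots)) &&
    (anyBelow (fun s => lg L s && (!Nat.beq s r && cm T r s)) T.nroots &&
    (lg L r || anyBelow (fun s => lg L s &&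
      decide (corPair T s r = 1 ∨ corPair T s r = -1)) T.nroots)))))) T.nroots &&
  allBelow (fun i => lg L (T.simp' i) || anyBelow (fun r => lg L r && anyBelow (fun d => nc T r d &&
    ((tTerms T r d).all (fun c => Nat.ble T.nroots (2 * c.1)) &&
    match (tTerms T r d).filter (fun c => Nat.beq c.1 (T.simp' i)) with
      | [x] => sgnB x.2.1
      | _ => false)) T.nroots) T.nroots) T.rank

/-- A root commuting with the conjugate of a leading part. -/
noncomputable def okC (T : Tbl) (δ g s μ c : ℕ) : Bool :=
  decide (1 ≤ pr T c) && ((Nat.beq c s || cm T c g) &&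
    allBelow (fun k => !Nat.blt μ k || (decide (pr T k < 1) || cm T c (T.refl' δ k))) T.nroots)

/-- The detection of the power `j` of the parameter on the simple root `δ`. -/
noncomputable def findJ (T : Tbl) (δ g s μ i j : ℕ) : Bool :=
  anyBelow (fun η => nc T (T.simp' δ) η && (okC T δ g s μ η &&
    ((tTerms T (T.simp' δ) η).all (fun c => okC T δ g s μ c.1) &&
    match j, (tTerms T (T.simp' δ) η).filter (fun c => Nat.beq c.1 s) with
      | 0, [] => Nat.beq η s
      | j + 1, [x] => !Nat.beq η s && (Nat.beq x.2.2.1 (j + 1) && (Nat.beq x.2.2.2 1 &&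
          (sgnB x.2.1 || (Nat.beq j 0 && Nat.beq x.2.1.natAbs i))))
      | _, _ => false))) T.nroots

/-- The facts for the induction on roots of level one. -/
noncomputable def chkStep (T : Tbl) (L : ℕ) : Bool :=
  allBelow (fun g => !(lg L g && decide (pr T g = 1)) || (Nat.beq g (T.nroots - 2) ||
    anyBelow (fun s => decide (pr T s = 1) && (oneRoot T s g (T.nroots - 1) &&
      anyBelow (fun δ => Nat.beq (T.refl' δ (T.nroots - 1)) (T.nroots - 1) && (Nat.blt g (T.refl' δ g) &&
        ([1, 2, 3].any fun i => decide (T.cartan δ g = -(i : ℕ)) &&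
          (findJ T δ g s (T.refl' δ g) i 0 && (findJ T δ g s (T.refl' δ g) i 1 &&
            findJ T δ g s (T.refl' δ g) i i))))) T.rank)) T.nroots)) T.nroots

/-- The facts for the roots of level zero and minus one. -/
noncomputable def chkZero (T : Tbl) (L : ℕ) : Bool :=
  allBelow (fun g => !lg L g ||
    ((!decide (pr T g = -1) || oneLong T L (T.nroots - 1) g) &&
    (!decide (pr T g = 0) ||
      (cm T (T.nroots - 1) g &&
      (allBelow (fun r => !decide (pr T r = 1) || (cm T r g || (nc T r g && match tTerms T r g with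
          | x :: l => unit1 x && (decide (pr T x.1 = 1) && l.all (fun c => Nat.beq c.1 (T.nroots - 1)))
          | [] => false))) T.nroots &&
      (anyBelow (fun r => decide (pr T r = 1) && !cm T r g) T.nroots &&
      ((cm T (T.nroots - 2) g || oneLong T L (T.nroots - 2) g) &&
      allBelow (fun r => !decide (pr T r = 1) || (lg L r ||
        anyBelow (fun e => lg L e && (decide (pr T e = 1) && anyBelow (fun d => decide (pr T d = 0) && (nc T d e &&
          ((tTerms T d e).all (fun c => (lg L c.1 && decide (1 ≤ pr T c.1)) || (Nat.beq c.1 r && sgnB c.2.1)) &&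
          Nat.beq ((tTerms T d e).filter fun c => Nat.beq c.1 r).length 1))) T.nroots)) T.nroots)) T.nroots))))))) T.nroots

/-- The facts at the top of the order; `d` is the node adjacent to the highest root. -/
noncomputable def chkTop (T : Tbl) (L d : ℕ) : Bool :=
  let θ := T.nroots - 1
  let β := T.nroots - 2
  let f := T.neg (T.simp' d)
  let ρ := T.nroots - 3
  Nat.blt d T.rank && (Nat.ble T.nroots (2 * ρ) && (lg L β && (decide (pr T β = 1) && (decide (pr T ρ = 1) &&
    (lg L (T.simp' d) && (Nat.beq (T.refl' d β) θ && (oneRoot T (T.simp' d) β θ &&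
    (oneRoot T f θ β && (oneRoot T β (T.neg θ) f && (cm T f (T.neg θ) && (cm T f β && (cm T f ρ && (cm T β ρ &&
    (cm T θ ρ && cm T β θ))))))))))))))

/-- The facts used for all types but `B₂`. -/
noncomputable def chkGen (T : Tbl) (L d : ℕ) : Bool :=
  chkTop T L d && (chkStep T L && chkZero T L)

theorem base_G2 : chkBase tblG2 0xc63 = true := by decide +kernel

theorem base_B2 : chkBase tblB2 0x99 = true := by decide +kernel

theorem base_D4 : chkBase tblD4 0xffffff = true := by decide +kernel

theorem base_F4 : chkBase tblF4 0xee01c7e38077 = true := by decide +kernel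

theorem base_E6 : chkBase tblE6 (2 ^ 72 - 1) = true := by decide +kernel

theorem base_E7 : chkBase tblE7 (2 ^ 126 - 1) = true := by decide +kernel

theorem base_E8 : chkBase tblE8 (2 ^ 240 - 1) = true := by decide +kernel

theorem gen_G2 : chkGen tblG2 0xc63 1 = true := by decide +kernel

theorem gen_D4 : chkGen tblD4 0xffffff 1 = true := by decide +kernel

theorem gen_F4 : chkGen tblF4 0xee01c7e38077 3 = true := by decide +kernel

theorem gen_E6 : chkGen tblE6 (2 ^ 72 - 1) 1 = true := by decide +kernel

theorem gen_E7 : chkGen tblE7 (2 ^ 126 - 1) 0 = true := by decide +kernel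

theorem gen_E8 : chkGen tblE8 (2 ^ 240 - 1) 7 = true := by decide +kernel

end Cfsg.Lib.Chev.Ovg
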