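import Mathlib
import Cfsg.Agent.Lib.Chev.Overgroup.Facts
import Cfsg.Agent.Lib.Chev.DescentNormal
import Cfsg.Agent.Lib.Chev.RootCent

/-!
The Heisenberg group of the highest root and root elements of long roots.
-/

set_option autoImplicit false
set_option linter.unusedSectionVars false
set_option linter.unusedVariables false

namespace Cfsg.Lib.Chev.Ovg

open Cfsg.Lie

variable {D : ChevalleyDatum} {T : Tbl} {F : Type*} [Field F] (C : Cert D T)
include C

theorem isLin_corPair (r : ℕ) : IsLin D T (corPair T r) := by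
  intro a b q i j h
  have key : ∀ l : List ℕ, (∀ m ∈ l, m < D.rank) → (l.map fun m => T.coroot r m * T.cartan m q).sum =
      i * (l.map fun m => T.coroot r m * T.cartan m a).sum + j * (l.map fun m => T.coroot r m * T.cartan m b).sum := by
    intro l
    induction l with
    | nil => simp
    | cons m l ih =>
      intro hl
      simp only [List.map_cons, List.sum_cons, h m (hl m (List.mem_cons_self ..)),
        ih fun x hx => hl x (List.mem_cons_of_mem _ hx)]
      ring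
  exact key _ fun m hm => by
    have := List.mem_range.1 hm
    rwa [C.spec.shape.rank_eq] at this

theorem isLin_pr : IsLin D T (pr T) := isLin_corPair C _

theorem isLin_fun : IsLin D T (fun' C) := fval_isLin C _

theorem pr_neg {r : ℕ} (hr : r < D.nroots) : pr T (T.neg r) = -pr T r := isLin_neg C (isLin_pr C) hr

theorem cm_commute (K : FullCert D T) {r s : ℕ} (hr : r < D.nroots) (hs : s < D.nroots) (h : cm T r s = true)
    (t u : F) : Commute (xg C r t) (xg C s u) := by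
  simp only [cm, Bool.or_eq_true, Bool.and_eq_true, Bool.not_eq_true', Nat.beq_eq, List.isEmpty_iff] at h
  by_cases hne : s = r
  · subst hne
    show _ = _
    rw [xg_add, xg_add, add_comm]
  · obtain ⟨h2, h3⟩ := h.resolve_left hne
    have e := comm_xg_prod C K.comm hr hs hne (ne_of_beq_false h2) t u
    rw [h3, List.map_nil, List.prod_nil, commutatorElement_eq_one_iff_commute] at e
    exact e.inv_inv.symm

theorem conj_prod (K : FullCert D T) {r s : ℕ} (hr : r < D.nroots) (hs : s < D.nroots) (h : nc T r s = true)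
    (t u : F) : xg C r t * xg C s u * (xg C r t)⁻¹ =
      xg C s u * ((tTerms T r s).map fun c => xg C c.1 ((c.2.1 : F) * t ^ c.2.2.1 * u ^ c.2.2.2)).prod := by
  simp only [nc, Bool.and_eq_true, Bool.not_eq_true'] at h
  have e := comm_xg_prod C K.comm hr hs (ne_of_beq_false h.1) (ne_of_beq_false h.2) (-t) u
  simp only [neg_neg] at e
  rw [← e, commutatorElement_def, inv_inv, inv_inv, ← xg_inv, inv_inv]
  group

theorem comm_oneRoot (K : FullCert D T) {r s k : ℕ} (hr : r < D.nroots) (hs : s < D.nroots)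
    (h : oneRoot T r s k = true) :
    ∃ κ : F, κ * κ = 1 ∧ ∀ t u : F, xg C r t * xg C s u * (xg C r t)⁻¹ = xg C s u * xg C k (κ * t * u) := by
  simp only [oneRoot, Bool.and_eq_true] at h
  obtain ⟨hn, h⟩ := h
  have e := conj_prod C (F := F) K hr hs hn
  split at h
  · rename_i x hx
    simp only [unit1, sgnB, Bool.and_eq_true, Bool.or_eq_true, decide_eq_true_eq, Nat.beq_eq] at h
    obtain ⟨hk, hc, h1, h2⟩ := h
    refine ⟨(x.2.1 : F), by rcases hc with hc | hc <;> simp [hc], fun t u => ?_⟩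
    rw [e t u, hx]
    simp only [List.map_cons, List.map_nil, List.prod_cons, List.prod_nil, mul_one, h1, h2, hk, pow_one]
  · exact absurd h Bool.false_ne_true

variable (K : FullCert D T) {L : ℕ} (hB : chkBase T L = true)
include K hB

theorem base (r : ℕ) (hr : r < D.nroots) :
    (-2 ≤ pr T r ∧ pr T r ≤ 2 ∧ (pr T r = 2 → r = D.nroots - 1) ∧
      (pr T r = -2 → r = T.neg (D.nroots - 1)) ∧
      (1 ≤ pr T r → D.nroots ≤ 2 * r) ∧ (D.nroots ≤ 2 * r → 0 ≤ pr T r)) ∧
    (∀ i < D.rank, lg L r = lg L (T.refl' i r)) ∧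
    (lg L r = true → r ≠ D.nroots - 1 → ∃ i < D.rank, r < T.refl' i r) ∧
    (lg L r = true → r ≠ D.nroots - 1 → ∃ s < D.nroots, lg L s = true ∧
      (s = D.nroots - 1 ∨ pr T r < pr T s) ∧ cm T r s = true) ∧
    (∃ s < D.nroots, lg L s = true ∧ cm T r s = true) ∧
    (lg L r = false → ∃ s < D.nroots, lg L s = true ∧ (corPair T s r = 1 ∨ corPair T s r = -1)) := by
  simp only [chkBase, Bool.and_eq_true, allBelow_iff, C.spec.shape.rank_eq, C.spec.shape.nroots_eq,
    decide_eq_true_eq, beq_iff_eq] at hB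
  obtain ⟨⟨-, h⟩, -⟩ := hB
  obtain ⟨h1, h2, h3, h4, h5, h6⟩ := h r hr
  refine ⟨h1, h2, fun hl hne => ?_, fun hl hne => ?_, ?_, fun hl => ?_⟩
  · rw [hl, Bool.not_true, Bool.false_or, Bool.or_eq_true, Nat.beq_eq] at h3
    obtain ⟨i, hi, h⟩ := exists_of_anyBelow (h3.resolve_left hne)
    exact ⟨i, hi, by simpa only [Nat.blt_eq] using h⟩
  · rw [hl, Bool.not_true, Bool.false_or, Bool.or_eq_true, Nat.beq_eq] at h4
    obtain ⟨s, hs, h⟩ := exists_of_anyBelow (h4.resolve_left hne)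
    simp only [Bool.and_eq_true, Bool.or_eq_true, Nat.beq_eq, decide_eq_true_eq] at h
    exact ⟨s, hs, h.1, h.2.1, h.2.2.2⟩
  · obtain ⟨s, hs, h⟩ := exists_of_anyBelow h5
    simp only [Bool.and_eq_true] at h
    exact ⟨s, hs, h.1, h.2.2⟩
  · rw [hl, Bool.false_or] at h6
    obtain ⟨s, hs, h⟩ := exists_of_anyBelow h6
    simp only [Bool.and_eq_true, decide_eq_true_eq] at h
    exact ⟨s, hs, h⟩

theorem lg_top : lg L (D.nroots - 1) = true := by
  simp only [chkBase, Bool.and_eq_true, C.spec.shape.nroots_eq] at hB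
  exact hB.1.1

theorem lg_wperm {w : List ℕ} (hw : IsWord D w) {r : ℕ} (hr : r < D.nroots) : lg L (wperm T w r) = lg L r := by
  induction w with
  | nil => rfl
  | cons i w ih =>
    show lg L (T.refl' i (wperm T w r)) = _
    rw [← (base C K hB _ (wperm_lt C hw.tail.2 hr)).2.1 i hw.tail.1, ih hw.tail.2]

theorem long_to_top {r : ℕ} (hr : r < D.nroots) (hl : lg L r = true) :
    ∃ w, IsWord D w ∧ wperm T w r = D.nroots - 1 := by
  suffices h : ∀ (N r : ℕ), r < D.nroots → lg L r = true → D.nroots - r = N →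
      ∃ w, IsWord D w ∧ wperm T w r = D.nroots - 1 from h _ r hr hl rfl
  clear hr hl r
  intro N
  induction N using Nat.strong_induction_on with
  | _ N ih =>
    intro r hr hl hN
    by_cases he : r = D.nroots - 1
    · exact ⟨[], fun i hi => absurd hi List.not_mem_nil, he⟩
    · obtain ⟨i, hi, hlt⟩ := (base C K hB r hr).2.2.1 hl he
      have hr' := C.spec.refl_lt i hi r hr
      obtain ⟨w, hw, hwr⟩ := ih (D.nroots - T.refl' i r) (by omega) _ hr'
        (((base C K hB r hr).2.1 i hi).symm.trans hl) rfl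
      exact ⟨w ++ [i], hw.append (IsWord.cons hi fun j hj => absurd hj List.not_mem_nil),
        by rw [wperm_append]; exact hwr⟩

omit hB in
theorem coroot_self {r : ℕ} (hr : r < D.nroots) : corPair T r r = 2 := by
  refine C.root_induction (P := fun r => corPair T r r = 2) (fun i hi => ?_)
    (fun i hi r hr h => (corPair_refl C hi hr hr).trans h) r hr
  have hs := C.spec.simp_lt i hi
  simp only [corPair, C.spec.shape.rank_eq]
  have : ∀ l : List ℕ, l.Nodup → (∀ j ∈ l, j < D.rank) →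
      (l.map fun j => T.coroot (T.simp' i) j * T.cartan j (T.simp' i)).sum = if i ∈ l then 2 else 0 := by
    intro l
    induction l with
    | nil => simp
    | cons j l ih =>
      intro hnd hl
      rw [List.nodup_cons] at hnd
      rw [List.map_cons, List.sum_cons, ih hnd.2 fun x hx => hl x (List.mem_cons_of_mem _ hx),
        C.spec.cor_simple i hi j (hl j (List.mem_cons_self ..))]
      by_cases h : j = i
      · subst h; simp [hnd.1, C.spec.cart_simple j hi]
      · simp [h, Ne.symm h]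
  rw [this _ List.nodup_range fun j hj => List.mem_range.1 hj, if_pos (List.mem_range.2 hi)]

theorem top_pr (hn : 0 < D.nroots) : pr T (D.nroots - 1) = 2 := by
  have hθ : D.nroots - 1 < D.nroots := by omega
  have e := coroot_self C K hθ
  simpa only [pr, corPair, C.spec.shape.nroots_eq] using e

theorem pr_term {r s : ℕ} (hr : r < D.nroots) (hs : s < D.nroots) {c : ℕ × ℤ × ℕ × ℕ} (hc : c ∈ tTerms T r s) :
    c.1 < D.nroots ∧ 1 ≤ c.2.2.1 ∧ 1 ≤ c.2.2.2 ∧
      pr T c.1 = (c.2.2.1 : ℤ) * pr T r + (c.2.2.2 : ℤ) * pr T s ∧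
      fun' C c.1 = (c.2.2.1 : ℤ) * fun' C r + (c.2.2.2 : ℤ) * fun' C s := by
  obtain ⟨h1, h2, h3, h4⟩ := tTerms_lt C hr hs c hc
  exact ⟨h1, h2, h3, isLin_pr C r s _ _ _ h4, isLin_fun C r s _ _ _ h4⟩

omit hB

/-- The group of the root elements of level at least one and index at least `k`. -/
noncomputable def qup (F : Type*) [Field F] (k : ℕ) : Subgroup (GL D.Idx F) :=
  Subgroup.closure {g | ∃ (r : ℕ) (t : F), r < D.nroots ∧ 1 ≤ pr T r ∧ k ≤ r ∧ g = xg C r t}

omit K

theorem xg_mem_qup {r k : ℕ} (hr : r < D.nroots) (h1 : 1 ≤ pr T r) (h : k ≤ r) (t : F) : xg C r t ∈ qup C F k :=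
  Subgroup.subset_closure ⟨r, t, hr, h1, h, rfl⟩

theorem qup_anti {k l : ℕ} (h : k ≤ l) : qup C F l ≤ qup C F k :=
  (Subgroup.closure_le _).2 fun g ⟨r, t, h1, h2, h3, e⟩ => e ▸ xg_mem_qup C h1 h2 (h.trans h3) t

theorem qup_le_upper (k : ℕ) : qup C F k ≤ upper C F k :=
  (Subgroup.closure_le _).2 fun g ⟨_, t, _, _, h3, e⟩ => e ▸ xg_mem_upper C h3 t

include K hB

theorem qup_le_pos (k : ℕ) : qup C F k ≤ D.posUnipotent F :=
  (Subgroup.closure_le _).2 fun g ⟨r, t, h1, h2, _, e⟩ =>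
    e ▸ xg_mem_pos C h1 ((base C K hB r h1).1.2.2.2.2.1 h2) t

theorem conj_gen {d r : ℕ} (hd : d < D.nroots) (hdp : D.nroots ≤ 2 * d) (hr : r < D.nroots) (h1 : 1 ≤ pr T r)
    (t u : F) : ∃ v ∈ qup C F (r + 1), xg C d t * xg C r u * (xg C d t)⁻¹ = xg C r u * v := by
  have hrp := (base C K hB r hr).1.2.2.2.2.1 h1
  by_cases hne : r = d
  · subst hne
    exact ⟨1, one_mem _, by rw [xg_inv, xg_add, xg_add, mul_one]; congr 1; ring⟩
  have hneg : r ≠ T.neg d := by rw [C.neg_eq hd]; omega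
  refine ⟨_, list_prod_mem fun x hx => ?_, conj_prod C K hd hr (by
    simp only [nc, Bool.and_eq_true, Bool.not_eq_true', ← Bool.not_eq_true, Nat.beq_eq]
    exact ⟨hne, hneg⟩) t u⟩
  obtain ⟨c, hc, rfl⟩ := List.mem_map.1 hx
  obtain ⟨c1, c2, c3, c4, c5⟩ := pr_term C K hB hd hr hc
  have hd0 := (base C K hB d hd).1.2.2.2.2.2 hdp
  refine xg_mem_qup C c1 (by nlinarith) ((fun'_lt_iff C hr c1).1 ?_) _
  have := fun'_pos C hd hdp
  have := fun'_pos C hr hrp
  nlinarith

/-- The positive unipotent group normalises the groups `qup k`. -/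
theorem pos_normalizes_qup (k : ℕ) :
    D.posUnipotent F ≤ Subgroup.normalizer (qup C F k : Set (GL D.Idx F)) := by
  have key : ∀ (d : ℕ) (t : F), d < D.nroots → D.nroots ≤ 2 * d →
      ∀ x ∈ qup C F k, xg C d t * x * (xg C d t)⁻¹ ∈ qup C F k := fun d t hd hdp x hx => by
    refine conj_mem_closure ?_ hx
    rintro y ⟨r, u, hr, h1, hk, rfl⟩
    obtain ⟨v, hv, e⟩ := conj_gen C K hB hd hdp hr h1 t u
    rw [e]
    exact mul_mem (xg_mem_qup C hr h1 hk u) (qup_anti C (by omega) hv)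
  refine (Subgroup.closure_le _).2 ?_
  rintro g ⟨d, t, hd, e⟩
  rw [eq_xg C e]
  have hdp := (C.isPos_iff hd.1).1 hd
  refine Subgroup.mem_normalizer_iff.2 fun x => ⟨key d t hd.1 hdp x, fun hx => ?_⟩
  have := key d (-t) hd.1 hdp _ hx
  rw [← xg_inv] at this
  simpa [mul_assoc] using this

theorem conj_qup {u : GL D.Idx F} (hu : u ∈ D.posUnipotent F) {k : ℕ} {x : GL D.Idx F} (hx : x ∈ qup C F k) :
    u * x * u⁻¹ ∈ qup C F k :=
  (Subgroup.mem_normalizer_iff.1 (pos_normalizes_qup C K hB k hu) x).1 hx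

theorem conj_qup_root {u : GL D.Idx F} (hu : u ∈ D.posUnipotent F) {r : ℕ} (hr : r < D.nroots) (h1 : 1 ≤ pr T r)
    (t : F) : ∃ v ∈ qup C F (r + 1), u * xg C r t * u⁻¹ = xg C r t * v := by
  induction hu using Subgroup.closure_induction with
  | mem g hg =>
    obtain ⟨d, s, hd, e⟩ := hg
    rw [eq_xg C e]
    exact conj_gen C K hB hd.1 ((C.isPos_iff hd.1).1 hd) hr h1 s t
  | one => exact ⟨1, one_mem _, by simp⟩
  | mul a b ha hb iha ihb =>
    obtain ⟨va, hva, ea⟩ := iha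
    obtain ⟨vb, hvb, eb⟩ := ihb
    refine ⟨va * (a * vb * a⁻¹), mul_mem hva (conj_qup C K hB ha hvb), ?_⟩
    calc a * b * xg C r t * (a * b)⁻¹ = a * (b * xg C r t * b⁻¹) * a⁻¹ := by group
      _ = a * xg C r t * a⁻¹ * (a * vb * a⁻¹) := by rw [eb]; group
      _ = _ := by rw [ea, mul_assoc]
  | inv a ha iha =>
    obtain ⟨va, hva, ea⟩ := iha
    refine ⟨(a⁻¹ * va * a)⁻¹, inv_mem (by simpa using conj_qup C K hB (inv_mem ha) hva), ?_⟩
    calc a⁻¹ * xg C r t * a⁻¹⁻¹ = a⁻¹ * (a * xg C r t * a⁻¹ * va⁻¹) * a := by rw [ea]; group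
      _ = xg C r t * (a⁻¹ * va * a)⁻¹ := by group

theorem diag_normalizes_qup {h : GL D.Idx F} (hh : h ∈ D.diagonalSubgroup F) {k : ℕ} {x : GL D.Idx F}
    (hx : x ∈ qup C F k) : h * x * h⁻¹ ∈ qup C F k := by
  obtain ⟨χ, hχ⟩ := diag_conj_xg C hh
  refine conj_mem_closure ?_ hx
  rintro y ⟨r, u, hr, h1, hk, rfl⟩
  rw [(hχ r hr).2]
  exact xg_mem_qup C hr h1 hk _

theorem qup_step {k : ℕ} {q : GL D.Idx F} (hq : q ∈ qup C F k) :
    ∃ t, ∃ b ∈ qup C F (k + 1), (pr T k < 1 → t = 0) ∧ q = xg C k t * b := by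
  have hpos : ∀ s : F, k < D.nroots → 1 ≤ pr T k → xg C k s ∈ D.posUnipotent F :=
    fun s hk h1 => xg_mem_pos C hk ((base C K hB k hk).1.2.2.2.2.1 h1) s
  induction hq using Subgroup.closure_induction with
  | mem g hg =>
    obtain ⟨r, t, hr, h1, hk, rfl⟩ := hg
    rcases hk.eq_or_lt with rfl | hk
    · exact ⟨t, 1, one_mem _, fun h => by omega, (mul_one _).symm⟩
    · exact ⟨0, _, xg_mem_qup C hr h1 hk t, fun _ => rfl, by rw [xg_zero, one_mul]⟩
  | one => exact ⟨0, 1, one_mem _, fun _ => rfl, by rw [xg_zero, one_mul]⟩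
  | mul a b _ _ ha hb =>
    obtain ⟨t, a', ha', ht, rfl⟩ := ha
    obtain ⟨u, b', hb', hu, rfl⟩ := hb
    refine ⟨t + u, xg C k (-u) * a' * (xg C k (-u))⁻¹ * b', mul_mem ?_ hb', fun h => by rw [ht h, hu h, add_zero], ?_⟩
    · by_cases h : k < D.nroots ∧ 1 ≤ pr T k
      · exact conj_qup C K hB (hpos _ h.1 h.2) ha'
      · by_cases hk : k < D.nroots
        · rw [hu (by have := fun e => h ⟨hk, e⟩; omega), neg_zero, xg_zero]; simpa using ha'
        · rw [xg_out C hk]; simpa using ha'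
    · rw [← xg_add, ← xg_inv]; group
  | inv a _ ha =>
    obtain ⟨t, a', ha', ht, rfl⟩ := ha
    refine ⟨-t, xg C k t * a'⁻¹ * (xg C k t)⁻¹, ?_, fun h => by rw [ht h, neg_zero], by rw [← xg_inv]; group⟩
    by_cases h : k < D.nroots ∧ 1 ≤ pr T k
    · exact conj_qup C K hB (hpos _ h.1 h.2) (inv_mem ha')
    · by_cases hk : k < D.nroots
      · rw [ht (by have := fun e => h ⟨hk, e⟩; omega), xg_zero]; simpa using ha'
      · rw [xg_out C hk]; simpa using ha'

theorem qup_top {x : GL D.Idx F} (hx : x ∈ qup C F (D.nroots - 1)) : ∃ t, x = xg C (D.nroots - 1) t := by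
  obtain ⟨t, b, hb, -, rfl⟩ := qup_step C K hB hx
  have hb' := qup_le_upper C _ hb
  rw [upper_top C (by omega), Subgroup.mem_bot] at hb'
  exact ⟨t, by rw [hb', mul_one]⟩

omit hB

theorem top_comm (hn : 0 < D.nroots) {u : GL D.Idx F} (hu : u ∈ D.posUnipotent F) (t : F) :
    Commute u (xg C (D.nroots - 1) t) := by
  have hev := nroots_even C
  have h := upper_conj_root C K (r := D.nroots - 1) (by omega) (by omega) hu t
  rw [upper_top C (by omega), Subgroup.mem_bot, inv_mul_eq_one] at h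
  show u * _ = _
  calc u * xg C (D.nroots - 1) t = u * (u⁻¹ * xg C (D.nroots - 1) t * u) := by rw [← h]
    _ = _ := by group

/-- A conjugate of a root element of the root `γ`, by a positive unipotent element. -/
def RootEl (_C : Cert D T) (γ : ℕ) (y : GL D.Idx F) : Prop :=
  ∃ u ∈ D.posUnipotent F, ∃ ν : F, ν ≠ 0 ∧ y = u * xg _C γ ν * u⁻¹

/-- A root element of a long root. -/
def IsLR (_C : Cert D T) (L : ℕ) (y : GL D.Idx F) : Prop :=
  ∃ γ, γ < D.nroots ∧ lg L γ = true ∧ RootEl _C γ y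

/-- A rational root element of a long root. -/
def Good (_C : Cert D T) (σ : F →+* F) (y : GL D.Idx F) : Prop :=
  ∃ l ∈ fixedRoots _C σ, ∃ t : F, σ t = t ∧ t ≠ 0 ∧ y = l * xg _C (D.nroots - 1) t * l⁻¹

omit K

theorem isLR_root {γ : ℕ} (hγ : γ < D.nroots) (hl : lg L γ = true) {ν : F} (hν : ν ≠ 0) :
    IsLR C L (xg C γ ν) :=
  ⟨γ, hγ, hl, 1, one_mem _, ν, hν, by simp⟩

variable (σ : F →+* F)

theorem Good.conj {l y : GL D.Idx F} (hl : l ∈ fixedRoots C σ) (h : Good C σ y) : Good C σ (l * y * l⁻¹) := by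
  obtain ⟨m, hm, t, ht, ht0, rfl⟩ := h
  exact ⟨l * m, mul_mem hl hm, t, ht, ht0, by group⟩

theorem Good.of_conj {l y : GL D.Idx F} (hl : l ∈ fixedRoots C σ) (h : Good C σ (l * y * l⁻¹)) : Good C σ y := by
  have := h.conj C σ (inv_mem hl)
  simpa [mul_assoc] using this

theorem Good.mem {y : GL D.Idx F} (h : Good C σ y) : y ∈ fixedRoots C σ := by
  obtain ⟨m, hm, t, ht, -, rfl⟩ := h
  exact mul_mem (mul_mem hm (xg_mem_fixedRoots C σ ht)) (inv_mem hm)

theorem good_top {t : F} (ht : σ t = t) (ht0 : t ≠ 0) : Good C σ (xg C (D.nroots - 1) t) :=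
  ⟨1, one_mem _, t, ht, ht0, by simp⟩

theorem sq_one_fixed {c : F} (hc : c * c = 1) : σ c = c := by
  rcases mul_self_eq_one_iff.1 hc with rfl | rfl <;> simp

theorem sq_one_ne {c : F} (hc : c * c = 1) : c ≠ 0 := left_ne_zero_of_mul_eq_one hc

include K hB

theorem good_root {r : ℕ} (hr : r < D.nroots) (hl : lg L r = true) {t : F} (ht : σ t = t) (ht0 : t ≠ 0) :
    Good C σ (xg C r t) := by
  obtain ⟨w, hw, hwr⟩ := long_to_top C K hB hr hl
  obtain ⟨c, hc, hct⟩ := wnu_conj_xg C (F := F) hw hr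
  refine Good.of_conj C σ (wnu_mem_fixedRoots C σ w) ?_
  rw [hct t, hwr]
  exact good_top C σ (by rw [map_mul, sq_one_fixed C σ hc, ht]) (mul_ne_zero (sq_one_ne C hc) ht0)

theorem IsLR.conj (hn : 0 < D.nroots) {g y : GL D.Idx F} (hg : g ∈ D.group F) (h : IsLR C L y) :
    IsLR C L (g * y * g⁻¹) := by
  obtain ⟨γ, hγ, hl, u, hu, ν, hν, rfl⟩ := h
  obtain ⟨v, hv, hvγ⟩ := long_to_top C K hB hγ hl
  obtain ⟨c, hc, hct⟩ := wnu_conj_xg C (F := F) hv hγ
  have hG : g * u * (wnu C F v)⁻¹ ∈ D.group F :=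
    mul_mem (mul_mem hg (pos_le_group C hu)) (inv_mem (wnu_mem_group C hv))
  obtain ⟨w, hw, b, hb, e, he, hGe⟩ := bruhat_normal C K hG
  obtain ⟨u', hu', h, hh, rfl⟩ := (mem_borel C).1 hb
  have hθn : D.nroots - 1 < D.nroots := by omega
  obtain ⟨d, hd, hdt⟩ := wnu_conj_xg C (F := F) hw hθn
  obtain ⟨χ, hχ⟩ := diag_conj_xg C hh
  have hwn := wperm_lt C hw hθn
  have hep : e ∈ D.posUnipotent F := (posUnipotent_eq C (F := F)) ▸ signPart_le_upper C K w true _ he
  refine ⟨wperm T w (D.nroots - 1), hwn, (lg_wperm C K hB hw hθn).trans (lg_top C K hB),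
    u', hu', χ (wperm T w (D.nroots - 1)) * (d * (c * ν)),
    mul_ne_zero (hχ _ hwn).1 (mul_ne_zero (sq_one_ne C hd) (mul_ne_zero (sq_one_ne C hc) hν)), ?_⟩
  rw [← (hχ _ hwn).2, ← hdt, ← hvγ, ← hct ν]
  have hce := top_comm C K hn hep (c * ν)
  rw [← hvγ, ← hct ν] at hce
  calc g * (u * xg C γ ν * u⁻¹) * g⁻¹
      = g * u * (wnu C F v)⁻¹ * (wnu C F v * xg C γ ν * (wnu C F v)⁻¹) * (g * u * (wnu C F v)⁻¹)⁻¹ := by group
    _ = u' * h * wnu C F w * (e * (wnu C F v * xg C γ ν * (wnu C F v)⁻¹) * e⁻¹) * (wnu C F w)⁻¹ * h⁻¹ * u'⁻¹ := by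
        rw [hGe]; group
    _ = _ := by rw [hce.eq]; group

theorem Good.isLR (hn : 0 < D.nroots) {y : GL D.Idx F} (h : Good C σ y) : IsLR C L y := by
  obtain ⟨m, hm, t, -, ht0, rfl⟩ := h
  exact (isLR_root C (L := L) (by omega) (lg_top C K hB) ht0).conj C K hB hn (fixedRoots_le_group C σ hm)

omit hB K

/-- The scalar by which a torus element of a root acts. -/
theorem hg_conj {r s : ℕ} (hr : r < D.nroots) (hs : s < D.nroots) {v : F} (hv : v ≠ 0) (t : F) :
    hg C r v * xg C s t * (hg C r v)⁻¹ = xg C s (v ^ corPair T r s * t) := by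
  classical
  have e : chr T D (fun k => v ^ T.coroot r k) s = v ^ corPair T r s := by
    have hc : corPair T r s = ∑ j ∈ Finset.range D.rank, T.coroot r j * T.cartan j s := by
      simp only [corPair, C.spec.shape.rank_eq]; rfl
    rw [hc, chr]
    induction Finset.range D.rank using Finset.induction_on with
    | empty => simp
    | insert a S ha ih => rw [Finset.prod_insert ha, Finset.sum_insert ha, ih, zpow_add₀ hv, zpow_mul]
  rw [mul_inv_eq_iff_eq_mul]
  refine Units.ext ?_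
  rw [Units.val_mul, Units.val_mul, coe_hg_eq C hr hv, coDiag, coe_xg, coe_xg,
    scal_mul_x C.spec _ (fun j _ => zpow_ne_zero _ hv) hs, e]

/-- A finite group between the fixed root elements and the whole group, with rational part at the top root. -/
structure Over (_C : Cert D T) (σ : F →+* F) (H : Subgroup (GL D.Idx F)) : Prop where
  le : H ≤ D.group F
  fin : Finite H
  fixed : fixedRoots _C σ ≤ H
  top : ∀ t : F, xg _C (D.nroots - 1) t ∈ H → σ t = t
  pos : 0 < D.nroots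

end Cfsg.Lib.Chev.Ovg
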