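import Mathlib
import Cfsg.Agent.Lib.Chev.Overgroup.Basic

/-!
Root elements of positive level in a finite overgroup are rational.
-/

set_option autoImplicit false
set_option linter.unusedSectionVars false
set_option linter.unusedVariables false

namespace Cfsg.Lib.Chev.Ovg

open Cfsg.Lie

theorem conj_list_prod {G : Type*} [Group G] {A : Type*} [AddCommMonoid A] (z : A → G) (hz0 : z 0 = 1)
    (hz : ∀ a b, z a * z b = z (a + b)) (y : G) {ι : Type*} (g : ι → G) (φ : ι → A) :
    ∀ l : List ι, (∀ i ∈ l, g i * y * (g i)⁻¹ = y * z (φ i) ∧ ∀ a, Commute (g i) (z a)) →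
      (l.map g).prod * y * ((l.map g).prod)⁻¹ = y * z ((l.map φ).sum)
  | [], _ => by simp [hz0]
  | i :: l, h => by
    obtain ⟨h1, h2⟩ := h i (List.mem_cons_self ..)
    have ih := conj_list_prod z hz0 hz y g φ l fun j hj => h j (List.mem_cons_of_mem _ hj)
    rw [List.map_cons, List.prod_cons, List.map_cons, List.sum_cons, ← hz, ← mul_assoc, ← h1]
    calc g i * (l.map g).prod * y * (g i * (l.map g).prod)⁻¹
        = g i * ((l.map g).prod * y * ((l.map g).prod)⁻¹) * (g i)⁻¹ := by group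
      _ = g i * y * (g i)⁻¹ * (g i * z ((l.map φ).sum) * (g i)⁻¹) := by rw [ih]; group
      _ = _ := by rw [(h2 _).eq, mul_inv_cancel_right]

theorem sum_ite_filter {ι A : Type*} [AddCommMonoid A] (p : ι → Bool) (f : ι → A) :
    ∀ l : List ι, (l.map fun i => if p i then f i else 0).sum = ((l.filter p).map f).sum
  | [] => rfl
  | i :: l => by
    cases h : p i <;> simp [h, sum_ite_filter p f l]

variable {D : ChevalleyDatum} {T : Tbl} {F : Type*} [Field F] (C : Cert D T) (K : FullCert D T) {L : ℕ}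
  (hB : chkBase T L = true) (σ : F →+* F) {H : Subgroup (GL D.Idx F)} (hO : Over C σ H)
include C K hB hO

theorem good_of_top {γ : ℕ} (he : γ = D.nroots - 1) {y : GL D.Idx F} (hy : y ∈ H) (h : RootEl C γ y) :
    Good C σ y := by
  obtain ⟨u, hu, ν, hν, rfl⟩ := h
  subst he
  have e := (top_comm C K hO.pos hu ν).eq
  rw [e, mul_inv_cancel_right] at hy ⊢
  exact good_top C σ (hO.top _ hy) hν

theorem pr_refl {δ r : ℕ} (hδ : δ < D.rank) (hθ : T.refl' δ (D.nroots - 1) = D.nroots - 1) (hr : r < D.nroots) :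
    pr T (T.refl' δ r) = pr T r := by
  have := hO.pos
  have h := corPair_refl C hδ (r := D.nroots - 1) (by omega) hr
  rw [hθ] at h
  simpa only [pr, C.spec.shape.nroots_eq] using h

variable {d : ℕ} (hG : chkTop T L d = true) (hS : chkStep T L = true)
include hG hS

theorem top_facts : d < D.rank ∧ D.nroots ≤ 2 * (D.nroots - 3) ∧ lg L (D.nroots - 2) = true ∧
    pr T (D.nroots - 2) = 1 ∧ pr T (D.nroots - 3) = 1 ∧ lg L (T.simp' d) = true ∧
    T.refl' d (D.nroots - 2) = D.nroots - 1 ∧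
    oneRoot T (T.simp' d) (D.nroots - 2) (D.nroots - 1) = true ∧
    oneRoot T (T.neg (T.simp' d)) (D.nroots - 1) (D.nroots - 2) = true ∧
    oneRoot T (D.nroots - 2) (T.neg (D.nroots - 1)) (T.neg (T.simp' d)) = true ∧
    cm T (T.neg (T.simp' d)) (T.neg (D.nroots - 1)) = true ∧ cm T (T.neg (T.simp' d)) (D.nroots - 2) = true ∧
    cm T (T.neg (T.simp' d)) (D.nroots - 3) = true ∧ cm T (D.nroots - 2) (D.nroots - 3) = true ∧
    cm T (D.nroots - 1) (D.nroots - 3) = true ∧ cm T (D.nroots - 2) (D.nroots - 1) = true := by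
  simpa only [chkTop, Bool.and_eq_true, Nat.blt_eq, Nat.ble_eq, Nat.beq_eq, decide_eq_true_eq,
    C.spec.shape.nroots_eq, C.spec.shape.rank_eq, and_assoc] using hG

/-- A root element of the second highest root. -/
theorem good_of_second {γ : ℕ} (he : γ = D.nroots - 2) {y : GL D.Idx F} (hy : y ∈ H) (h : RootEl C γ y) :
    Good C σ y := by
  obtain ⟨hd, hρ, hlβ, hprβ, -, -, -, hone, -⟩ := top_facts C K hB σ hO hG hS
  obtain ⟨u, hu, ν, hν, rfl⟩ := h
  subst he
  have hn := hO.pos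
  obtain ⟨v, hv, ev⟩ := conj_qup_root C K hB hu (r := D.nroots - 2) (by omega) (by omega) ν
  obtain ⟨e, rfl⟩ := qup_top C K hB (qup_anti C (by omega) hv)
  rw [ev] at hy ⊢
  have hsd := C.spec.simp_lt d hd
  obtain ⟨κ, hκ, hc⟩ := comm_oneRoot C (F := F) K hsd (by omega : D.nroots - 2 < D.nroots) hone
  have htop : ∀ (r : ℕ), r < D.nroots → D.nroots ≤ 2 * r → ∀ a b : F,
      Commute (xg C r a) (xg C (D.nroots - 1) b) := fun r hr hp a b => top_comm C K hn (xg_mem_pos C hr hp a) b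
  have hsp := K.simple_pos hd
  have h1 : xg C (T.simp' d) (1 : F) * (xg C (D.nroots - 2) ν * xg C (D.nroots - 1) e) *
      (xg C (T.simp' d) (1 : F))⁻¹ =
      xg C (D.nroots - 2) ν * xg C (D.nroots - 1) e * xg C (D.nroots - 1) (κ * ν) := by
    calc _ = (xg C (T.simp' d) (1 : F) * xg C (D.nroots - 2) ν * (xg C (T.simp' d) (1 : F))⁻¹) *
          (xg C (T.simp' d) (1 : F) * xg C (D.nroots - 1) e * (xg C (T.simp' d) (1 : F))⁻¹) := by group
      _ = _ := by
        rw [hc, (htop _ hsd hsp 1 e).eq, mul_inv_cancel_right, mul_one, mul_assoc, mul_assoc,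
          xg_add, xg_add, add_comm]
  have h2 : xg C (D.nroots - 1) (κ * ν) ∈ H := by
    have hx := hO.fixed (xg_mem_fixedRoots C σ (r := T.simp' d) (map_one σ))
    have := mul_mem (inv_mem hy) (mul_mem (mul_mem hx hy) (inv_mem hx))
    rwa [h1, inv_mul_cancel_left] at this
  have hνf : σ ν = ν := by
    have := hO.top _ h2
    rw [map_mul, sq_one_fixed C σ hκ] at this
    exact mul_left_cancel₀ (sq_one_ne C hκ) this
  have hef : σ e = e := by
    refine hO.top _ ?_
    have := mul_mem (inv_mem (hO.fixed (xg_mem_fixedRoots C σ (r := D.nroots - 2) hνf))) hy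
    rwa [inv_mul_cancel_left] at this
  have hfix : σ (κ * e * ν⁻¹) = κ * e * ν⁻¹ := by
    rw [map_mul, map_mul, map_inv₀, sq_one_fixed C σ hκ, hef, hνf]
  have e2 : xg C (D.nroots - 2) ν * xg C (D.nroots - 1) e =
      xg C (T.simp' d) (κ * e * ν⁻¹) * xg C (D.nroots - 2) ν * (xg C (T.simp' d) (κ * e * ν⁻¹))⁻¹ := by
    rw [hc]; congr 2; field_simp; linear_combination -e * hκ
  rw [e2]
  exact (good_root C K hB σ (by omega) hlβ hνf hν).conj C σ (xg_mem_fixedRoots C σ hfix)

variable {p : ℕ} [Fact p.Prime] [CharP F p]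

include p in
/-- Root elements of positive level are rational. -/
theorem good_high {γ : ℕ} (hγ : γ < D.nroots) (hl : lg L γ = true) (hpr : 1 ≤ pr T γ) {y : GL D.Idx F}
    (hy : y ∈ H) (h : RootEl C γ y) : Good C σ y := by
  induction hN : D.nroots - γ using Nat.strong_induction_on generalizing γ y with
  | _ N ih =>
  have hn := hO.pos
  by_cases he : γ = D.nroots - 1
  · exact good_of_top C K hB σ hO he hy h
  by_cases he2 : γ = D.nroots - 2
  · exact good_of_second C K hB σ hO hG hS he2 hy h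
  have hp1 : pr T γ = 1 := by
    obtain ⟨-, h2, h3, -⟩ := (base C K hB γ hγ).1
    by_contra hne
    exact he (h3 (by omega))
  have hS' := hS
  simp only [chkStep, allBelow_iff, Bool.or_eq_true, Bool.not_eq_true', Nat.beq_eq,
    C.spec.shape.nroots_eq] at hS'
  rcases hS' γ hγ with h' | h' | h'
  · simp [hl, hp1] at h'
  · exact absurd h' he2
  obtain ⟨s, hs, hh⟩ := exists_of_anyBelow h'
  rw [Bool.and_eq_true, Bool.and_eq_true, decide_eq_true_eq] at hh
  obtain ⟨hs1, hone, hh⟩ := hh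
  obtain ⟨δ, hδ, hh⟩ := exists_of_anyBelow hh
  simp only [Bool.and_eq_true, Nat.beq_eq, Nat.blt_eq, List.any_eq_true, decide_eq_true_eq,
    C.spec.shape.rank_eq] at hh hδ
  obtain ⟨hfixθ, hlt, i, hi, hcart, hj0, hj1, hji⟩ := hh
  have hμ := C.spec.refl_lt δ hδ γ hγ
  have hsd := C.spec.simp_lt δ hδ
  have hsp := K.simple_pos hδ
  have hθp : D.nroots ≤ 2 * (D.nroots - 1) := by have := nroots_even C; omega
  obtain ⟨u, hu, ν, hν, rfl⟩ := h
  obtain ⟨w, hw, t, ew⟩ := pos_decomp C K hδ (inv_mem hu)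
  obtain ⟨v, rfl⟩ : ∃ v, t = -v := ⟨-t, (neg_neg t).symm⟩
  have eu : u = xg C (T.simp' δ) v * w⁻¹ := by
    rw [← inv_inv u, ew, mul_inv_rev, xg_inv, neg_neg]
  subst eu
  clear ew hu
  set xv := xg C (T.simp' δ) v with hxv
  set Y0 := w⁻¹ * xg C γ ν * w with hY0
  have hyY : xv * w⁻¹ * xg C γ ν * (xv * w⁻¹)⁻¹ = xv * Y0 * xv⁻¹ := by rw [hY0]; group
  rw [hyY] at hy ⊢
  -- after the reflection
  have hwn : nu C δ * w⁻¹ * (nu C δ)⁻¹ ∈ D.posUnipotent F := radical_le_pos C _
    ((Subgroup.mem_normalizer_iff.1 (levi_le_normalizer C K _ (nu_mem_levi C hδ (Set.mem_singleton δ))) _).1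
      (inv_mem hw))
  have eμ := nu_conj_xg C (F := F) hδ hγ ν
  set ν' : F := (T.eta' δ γ : ℤ) * ν with hν'
  have hν'0 : ν' ≠ 0 := mul_ne_zero (eta_ne_zero T δ γ) hν
  have en : nu C δ * Y0 * (nu C δ)⁻¹ =
      nu C δ * w⁻¹ * (nu C δ)⁻¹ * xg C (T.refl' δ γ) ν' * (nu C δ * w⁻¹ * (nu C δ)⁻¹)⁻¹ := by
    rw [hY0, ← eμ]; group
  have hpμ : pr T (T.refl' δ γ) = 1 := by rw [pr_refl C K hB σ hO hδ hfixθ hγ, hp1]
  obtain ⟨v0, hv0, ev0⟩ := conj_qup_root C K hB hwn hμ (by omega) ν'
  have eY : Y0 = xg C γ ν * ((nu C δ)⁻¹ * v0 * nu C δ) := by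
    have e : nu C δ * Y0 * (nu C δ)⁻¹ = nu C δ * xg C γ ν * (nu C δ)⁻¹ * v0 := by rw [en, ev0, eμ]
    calc Y0 = (nu C δ)⁻¹ * (nu C δ * Y0 * (nu C δ)⁻¹) * nu C δ := by group
      _ = _ := by rw [e]; group
  obtain ⟨κ, hκ, hcs⟩ := comm_oneRoot C (F := F) K hs hγ hone
  have htop : ∀ (r : ℕ), r < D.nroots → 1 ≤ pr T r → ∀ a b : F, Commute (xg C r a) (xg C (D.nroots - 1) b) :=
    fun r hr hp a b => top_comm C K hn (xg_mem_pos C hr ((base C K hB r hr).1.2.2.2.2.1 hp) a) b
  have hact : ∀ c < D.nroots, okC T δ γ s (T.refl' δ γ) c = true → ∀ a : F,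
      xg C c a * Y0 * (xg C c a)⁻¹ = Y0 * xg C (D.nroots - 1) (if Nat.beq c s then κ * a * ν else 0) := by
    intro c hc hok a
    simp only [okC, Bool.and_eq_true, Bool.or_eq_true, Bool.not_eq_true', decide_eq_true_eq, allBelow_iff,
      C.spec.shape.nroots_eq, Nat.beq_eq] at hok
    obtain ⟨hc1, hcg, hck⟩ := hok
    have hX : Commute (xg C c a) ((nu C δ)⁻¹ * v0 * nu C δ) := by
      suffices hh : qup C F (T.refl' δ γ + 1) ≤
          (Subgroup.centralizer {xg C c a}).comap (MulAut.conj (nu C δ)⁻¹).toMonoidHom by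
        have := Subgroup.mem_centralizer_iff.1 (hh hv0) _ rfl
        simpa [MulAut.conj_apply, mul_assoc, Commute, SemiconjBy] using this
      refine (Subgroup.closure_le _).2 ?_
      rintro x ⟨k, b, hk, hk1, hkμ, rfl⟩
      show (MulAut.conj (nu C δ)⁻¹) (xg C k b) ∈ Subgroup.centralizer {xg C c a}
      have hrk := C.spec.refl_lt δ hδ k hk
      have e := nu_conj_xg C (F := F) hδ hrk ((T.eta' δ (T.refl' δ k) : ℤ) * b)
      rw [← mul_assoc ((T.eta' δ (T.refl' δ k) : ℤ) : F), eta_sq, one_mul, C.spec.refl_refl δ hδ k hk] at e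
      rw [MulAut.conj_apply, ← e, Subgroup.mem_centralizer_iff]
      rintro _ rfl
      have hcm : cm T c (T.refl' δ k) = true := by
        rcases hck k hk with h | h | h
        · rw [← Bool.not_eq_true, Nat.blt_eq] at h; omega
        · omega
        · exact h
      have := (cm_commute C K hc hrk hcm a ((T.eta' δ (T.refl' δ k) : ℤ) * b : F)).eq
      simpa [mul_assoc] using this
    rw [eY]
    by_cases hcs' : c = s
    · subst hcs'
      rw [Nat.beq_refl, if_pos rfl]
      calc xg C c a * (xg C γ ν * ((nu C δ)⁻¹ * v0 * nu C δ)) * (xg C c a)⁻¹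
          = xg C c a * xg C γ ν * (xg C c a)⁻¹ * (xg C c a * ((nu C δ)⁻¹ * v0 * nu C δ) * (xg C c a)⁻¹) := by group
        _ = xg C γ ν * (xg C (D.nroots - 1) (κ * a * ν) * ((nu C δ)⁻¹ * v0 * nu C δ)) := by
          rw [hcs, hX.eq, mul_inv_cancel_right, mul_assoc]
        _ = _ := by
          have hz : Commute (xg C (D.nroots - 1) (κ * a * ν)) ((nu C δ)⁻¹ * v0 * nu C δ) := by
            have h0 : (T.eta' δ (D.nroots - 1) : F) * _ = _ := eta_sq T δ (D.nroots - 1)
            have e := nu_conj_xg C (F := F) hδ (by omega : D.nroots - 1 < D.nroots) (κ * a * ν)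
            rw [hfixθ] at e
            have h2 := (top_comm C K hn (qup_le_pos C K hB _ hv0)
              ((T.eta' δ (D.nroots - 1) : ℤ) * (κ * a * ν))).symm
            rw [← e] at h2
            have := (h2.map (MulAut.conj (nu C δ)⁻¹).toMonoidHom)
            simpa [MulAut.conj_apply, mul_assoc] using this
          rw [hz.eq, ← mul_assoc]
    · rw [show Nat.beq c s = false from Bool.not_eq_true _ ▸ fun e => hcs' (Nat.beq_eq.mp e),
        if_neg Bool.false_ne_true, xg_zero, mul_one]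
      exact ((cm_commute C K hc hγ (hcg.resolve_left hcs') a ν).mul_right hX).eq ▸ mul_inv_cancel_right _ _
  have hdet : ∀ j, findJ T δ γ s (T.refl' δ γ) i j = true → ∃ m : ℤ,
      ((j = 0 ∧ m = 1) ∨ (1 ≤ j ∧ (m = 1 ∨ m = -1 ∨ (j = 1 ∧ m.natAbs = i)))) ∧
      σ (κ * (m : F) * (-v) ^ j * ν) = κ * (m : F) * (-v) ^ j * ν := by
    intro j hj
    simp only [findJ] at hj
    obtain ⟨η, hη, hh⟩ := exists_of_anyBelow hj
    rw [C.spec.shape.nroots_eq] at hη
    simp only [Bool.and_eq_true, List.all_eq_true] at hh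
    obtain ⟨hncη, hokη, hall, hm⟩ := hh
    have e := conj_prod C (F := F) K hsd hη hncη (-v) 1
    let φ : ℕ × ℤ × ℕ × ℕ → F := fun c =>
      if Nat.beq c.1 s then κ * ((c.2.1 : F) * (-v) ^ c.2.2.1 * 1 ^ c.2.2.2) * ν else 0
    have e2 := conj_list_prod (fun a => xg C (D.nroots - 1) a) (xg_zero C _) (fun a b => xg_add C _ a b) Y0
      (fun c : ℕ × ℤ × ℕ × ℕ => xg C c.1 ((c.2.1 : F) * (-v) ^ c.2.2.1 * 1 ^ c.2.2.2)) φ
      (tTerms T (T.simp' δ) η) fun c hc => ⟨hact _ (pr_term C K hB hsd hη hc).1 (hall c hc) _, fun a => by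
        have hok := hall c hc
        simp only [okC, Bool.and_eq_true, decide_eq_true_eq] at hok
        exact htop _ (pr_term C K hB hsd hη hc).1 hok.1 _ a⟩
    rw [sum_ite_filter] at e2
    have e3 := hact η hη hokη 1
    set P := ((tTerms T (T.simp' δ) η).map
      fun c => xg C c.1 ((c.2.1 : F) * (-v) ^ c.2.2.1 * 1 ^ c.2.2.2)).prod with hP
    set z := (((tTerms T (T.simp' δ) η).filter fun c => Nat.beq c.1 s).map
      fun c => κ * ((c.2.1 : F) * (-v) ^ c.2.2.1 * 1 ^ c.2.2.2) * ν).sum with hz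
    have hη1 : 1 ≤ pr T η := by
      simp only [okC, Bool.and_eq_true, decide_eq_true_eq] at hokη; exact hokη.1
    have hxinv : xg C (T.simp' δ) (-v) = xv⁻¹ := by rw [hxv, xg_inv]
    rw [hxinv] at e
    have e4 : xg C η (1 : F) * (xv * Y0 * xv⁻¹) * (xg C η (1 : F))⁻¹ = xv * Y0 * xv⁻¹ *
        xg C (D.nroots - 1) (z + if Nat.beq η s then κ * 1 * ν else 0) := by
      calc _ = xv * ((xv⁻¹ * xg C η (1 : F) * xv⁻¹⁻¹) * Y0 * (xv⁻¹ * xg C η (1 : F) * xv⁻¹⁻¹)⁻¹) * xv⁻¹ := by
            group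
        _ = xv * (xg C η (1 : F) * (P * Y0 * P⁻¹) * (xg C η (1 : F))⁻¹) * xv⁻¹ := by rw [e]; group
        _ = xv * (xg C η (1 : F) * Y0 * (xg C η (1 : F))⁻¹ *
              (xg C η (1 : F) * xg C (D.nroots - 1) z * (xg C η (1 : F))⁻¹)) * xv⁻¹ := by rw [e2]; group
        _ = xv * Y0 * (xg C (D.nroots - 1) (z + if Nat.beq η s then κ * 1 * ν else 0) * xv⁻¹) := by
            rw [e3, (htop η hη hη1 1 z).eq, mul_inv_cancel_right, mul_assoc Y0, xg_add, add_comm]; group
        _ = _ := by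
            have hcx : Commute xv⁻¹ (xg C (D.nroots - 1) (z + if Nat.beq η s then κ * 1 * ν else 0)) :=
              (top_comm C K hn (xg_mem_pos C hsd hsp v) _).inv_left
            rw [← hcx.eq]; group
    have hfx := hO.top _ (show xg C (D.nroots - 1) (z + if Nat.beq η s then κ * 1 * ν else 0) ∈ H by
      have hx := hO.fixed (xg_mem_fixedRoots C σ (r := η) (map_one σ))
      have := mul_mem (inv_mem hy) (mul_mem (mul_mem hx hy) (inv_mem hx))
      rwa [e4, inv_mul_cancel_left] at this)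
    match j, hfl : (tTerms T (T.simp' δ) η).filter fun c => Nat.beq c.1 s with
    | 0, [] =>
      rw [hfl] at hm hz
      simp only [hm, hz, List.map_nil, List.sum_nil, if_pos, zero_add, mul_one] at hfx
      exact ⟨1, Or.inl ⟨rfl, rfl⟩, by simpa using hfx⟩
    | 0, _ :: _ => rw [hfl] at hm; simp at hm
    | j + 1, [] => rw [hfl] at hm; simp at hm
    | j + 1, [x] =>
      rw [hfl] at hm hz
      simp only [Bool.and_eq_true, Bool.or_eq_true, Bool.not_eq_true', Nat.beq_eq, sgnB, decide_eq_true_eq] at hm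
      obtain ⟨hne, hx1, hx2, hx⟩ := hm
      simp only [hne, Bool.false_eq_true, if_false, add_zero, hz, List.map_cons, List.map_nil, List.sum_cons,
        List.sum_nil, hx1, hx2, pow_one, mul_one] at hfx
      refine ⟨x.2.1, Or.inr ⟨by omega, ?_⟩, by simpa [mul_assoc] using hfx⟩
      rcases hx with (hx | hx) | ⟨hx, hx'⟩
      · exact Or.inl hx
      · exact Or.inr (Or.inl hx)
      · exact Or.inr (Or.inr ⟨by omega, hx'⟩)
    | j + 1, _ :: _ :: _ => rw [hfl] at hm; simp at hm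
  have hκf := sq_one_fixed C σ hκ
  have hκ0 := sq_one_ne C hκ
  have hνf : σ ν = ν := by
    obtain ⟨m, hm, e⟩ := hdet 0 hj0
    obtain ⟨-, rfl⟩ := hm.resolve_right fun h => absurd h.1 (by omega)
    simp only [Int.cast_one, pow_zero, mul_one, map_mul, hκf] at e
    exact mul_left_cancel₀ hκ0 e
  have cancel : ∀ (m : ℤ) (j : ℕ), σ (κ * (m : F) * (-v) ^ j * ν) = κ * (m : F) * (-v) ^ j * ν →
      (m : F) ≠ 0 → σ (-v) ^ j = (-v) ^ j := by
    intro m j e hm
    rw [map_mul, map_mul, map_mul, map_intCast, map_pow, hκf, hνf] at e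
    exact mul_left_cancel₀ (mul_ne_zero hκ0 hm) (mul_right_cancel₀ hν e)
  have hvf : σ v = v := by
    have hneg : σ (-v) = -v → σ v = v := fun h => by rw [map_neg, neg_inj] at h; exact h
    obtain ⟨m, hm, e⟩ := hdet 1 hj1
    obtain ⟨-, hm⟩ := hm.resolve_left fun h => absurd h.1 (by omega)
    by_cases hm0 : (m : F) = 0
    · rcases hm with rfl | rfl | ⟨-, hmi⟩
      · simp at hm0
      · simp at hm0
      have hi0 : (i : F) = 0 := by
        rcases Int.natAbs_eq m with h | h <;> rw [h, hmi] at hm0 <;> simpa using hm0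
      have hdvd := (CharP.cast_eq_zero_iff F p i).1 hi0
      have hip : i = p := by
        have hp2 := (Fact.out : p.Prime).two_le
        simp only [List.mem_cons, List.not_mem_nil, or_false] at hi
        rcases hi with rfl | rfl | rfl
        · simp at hdvd; omega
        · exact ((Nat.prime_dvd_prime_iff_eq Fact.out Nat.prime_two).1 hdvd).symm
        · exact ((Nat.prime_dvd_prime_iff_eq Fact.out Nat.prime_three).1 hdvd).symm
      obtain ⟨m', hm', e'⟩ := hdet i hji
      have hm'0 : (m' : F) ≠ 0 := by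
        rcases hm' with ⟨h, -⟩ | ⟨-, rfl | rfl | ⟨h, -⟩⟩
        · have := (Fact.out : p.Prime).pos; omega
        · simp
        · simp
        · have := (Fact.out : p.Prime).two_le; omega
      have e2 := cancel m' i e' hm'0
      rw [hip] at e2
      exact hneg (frobenius_inj F p (by simpa [frobenius_def] using e2))
    · exact hneg (by simpa using cancel m 1 e hm0)
  -- descend
  have hxvF : xv ∈ fixedRoots C σ := xg_mem_fixedRoots C σ hvf
  have hnF : (nu C δ : GL D.Idx F) ∈ fixedRoots C σ := ng_mem_fixedRoots C σ (map_one σ)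
  refine Good.of_conj C σ (mul_mem hnF (inv_mem hxvF)) ?_
  have e5 : nu C δ * xv⁻¹ * (xv * Y0 * xv⁻¹) * (nu C δ * xv⁻¹)⁻¹ = nu C δ * Y0 * (nu C δ)⁻¹ := by group
  rw [e5]
  refine ih (D.nroots - T.refl' δ γ) (by omega) hμ (((base C K hB γ hγ).2.1 δ hδ).symm.trans hl) (by omega) ?_
    ⟨_, hwn, ν', hν'0, en⟩ rfl
  rw [← e5]
  exact mul_mem (mul_mem (hO.fixed (mul_mem hnF (inv_mem hxvF))) hy)
    (inv_mem (hO.fixed (mul_mem hnF (inv_mem hxvF))))

end Cfsg.Lib.Chev.Ovg
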