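import Mathlib
import Cfsg.Agent.Lib.Chev.Overgroup.High

/-!
Root elements in a finite overgroup for the type `B₂`. The roots are `4 = b`, `5 = a`, `6 = a + b`, `7 = 2a + b`.
-/

set_option autoImplicit false
set_option linter.unusedSectionVars false
set_option linter.unusedVariables false

namespace Cfsg.Lib.Chev.Ovg

open Cfsg.Lie

variable {F : Type*} [Field F] (C : Cert chevB2 tblB2) (K : FullCert chevB2 tblB2)
include C K

theorem b2_n : chevB2.nroots = 8 := (C.spec.shape.nroots_eq).symm.trans rfl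

theorem b2_rank : chevB2.rank = 2 := (C.spec.shape.rank_eq).symm.trans rfl

theorem b2_prod (r s : ℕ) (hr : r < 8) (hs : s < 8) (h : nc tblB2 r s = true) (l : List (ℕ × ℤ × ℕ × ℕ))
    (hl : tTerms tblB2 r s = l) (t u : F) :
    xg C r t * xg C s u * (xg C r t)⁻¹ =
      xg C s u * (l.map fun c => xg C c.1 ((c.2.1 : F) * t ^ c.2.2.1 * u ^ c.2.2.2)).prod := by
  rw [conj_prod C K (by rw [b2_n C K]; exact hr) (by rw [b2_n C K]; exact hs) h, hl]

theorem b2_cm (r s : ℕ) (hr : r < 8) (hs : s < 8) (h : cm tblB2 r s = true) (t u : F) :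
    Commute (xg C r t) (xg C s u) :=
  cm_commute C K (by rw [b2_n C K]; exact hr) (by rw [b2_n C K]; exact hs) h t u

theorem b2_x5x4 (t u : F) : xg C 5 t * xg C 4 u * (xg C 5 t)⁻¹ =
    xg C 4 u * (xg C 6 (-(t * u)) * xg C 7 (-(t ^ 2 * u))) := by
  rw [b2_prod C K 5 4 (by norm_num) (by norm_num) (by decide +kernel) [(6, -1, 1, 1), (7, -1, 2, 1)]
    (by decide +kernel)]
  simp

theorem b2_x4x5 (t u : F) : xg C 4 t * xg C 5 u * (xg C 4 t)⁻¹ =
    xg C 5 u * (xg C 6 (t * u) * xg C 7 (-(t * u ^ 2))) := by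
  rw [b2_prod C K 4 5 (by norm_num) (by norm_num) (by decide +kernel) [(6, 1, 1, 1), (7, -1, 1, 2)]
    (by decide +kernel)]
  simp

theorem b2_x5x6 (t u : F) : xg C 5 t * xg C 6 u * (xg C 5 t)⁻¹ = xg C 6 u * xg C 7 (2 * t * u) := by
  rw [b2_prod C K 5 6 (by norm_num) (by norm_num) (by decide +kernel) [(7, 2, 1, 1)] (by decide +kernel)]
  simp

theorem b2_x6x5 (t u : F) : xg C 6 t * xg C 5 u * (xg C 6 t)⁻¹ = xg C 5 u * xg C 7 (-(2 * t * u)) := by
  rw [b2_prod C K 6 5 (by norm_num) (by norm_num) (by decide +kernel) [(7, -2, 1, 1)] (by decide +kernel)]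
  simp

theorem b2_x6x3 (t u : F) : xg C 6 t * xg C 3 u * (xg C 6 t)⁻¹ =
    xg C 3 u * (xg C 5 (-(t * u)) * xg C 7 (t ^ 2 * u)) := by
  rw [b2_prod C K 6 3 (by norm_num) (by norm_num) (by decide +kernel) [(5, -1, 1, 1), (7, 1, 2, 1)]
    (by decide +kernel)]
  simp

theorem b2_nu (i s k : ℕ) (z : ℤ) (hi : i < 2) (hs : s < 8) (hk : tblB2.refl' i s = k) (hz : tblB2.eta' i s = z)
    (t : F) : nu C i * xg C s t * (nu C i)⁻¹ = xg C k ((z : F) * t) := by
  rw [nu_conj_xg C (by rw [b2_rank C K]; exact hi) (by rw [b2_n C K]; exact hs), hk, hz]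

variable {σ : F →+* F} {H : Subgroup (GL chevB2.Idx F)} (hH : fixedRoots C σ ≤ H)
include hH

theorem b2_nu0 (x y : F) (h : xg C 6 x * xg C 7 y ∈ H) : xg C 4 y * xg C 6 x ∈ H := by
  have hn := hH (ng_mem_fixedRoots C σ (r := tblB2.simp' 0) (map_one σ))
  have e : nu C 0 * (xg C 6 x * xg C 7 y) * (nu C 0)⁻¹ = (xg C 4 y * xg C 6 x)⁻¹ := by
    calc _ = (nu C 0 * xg C 6 x * (nu C 0)⁻¹) * (nu C 0 * xg C 7 y * (nu C 0)⁻¹) := by group
      _ = _ := by
        rw [b2_nu C K 0 6 6 (-1) (by norm_num) (by norm_num) (by decide +kernel) (by decide +kernel),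
          b2_nu C K 0 7 4 (-1) (by norm_num) (by norm_num) (by decide +kernel) (by decide +kernel), mul_inv_rev,
          xg_inv, xg_inv]
        simp
  have := inv_mem (e ▸ mul_mem (mul_mem hn h) (inv_mem hn) : (xg C 4 y * xg C 6 x)⁻¹ ∈ H)
  rwa [inv_inv] at this

theorem b2_nu1 (x y : F) (h : xg C 6 x * xg C 7 y ∈ H) : xg C 5 (-x) * xg C 7 y ∈ H := by
  have hn := hH (ng_mem_fixedRoots C σ (r := tblB2.simp' 1) (map_one σ))
  have e : nu C 1 * (xg C 6 x * xg C 7 y) * (nu C 1)⁻¹ = xg C 5 (-x) * xg C 7 y := by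
    calc _ = (nu C 1 * xg C 6 x * (nu C 1)⁻¹) * (nu C 1 * xg C 7 y * (nu C 1)⁻¹) := by group
      _ = _ := by
        rw [b2_nu C K 1 6 5 (-1) (by norm_num) (by norm_num) (by decide +kernel) (by decide +kernel),
          b2_nu C K 1 7 7 1 (by norm_num) (by norm_num) (by decide +kernel) (by decide +kernel)]
        simp
  exact e ▸ mul_mem (mul_mem hn h) (inv_mem hn)

/-- The pair obtained with `x_a(1)`. -/
theorem b2_diag (x y : F) (h : xg C 6 x * xg C 7 y ∈ H) : xg C 6 (-y) * xg C 7 (-y + 2 * x) ∈ H := by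
  have h2 := b2_nu0 C K hH x y h
  have h1 := hH (xg_mem_fixedRoots C σ (r := 5) (map_one σ))
  have c67 : Commute (xg C 7 (-y)) (xg C 6 x) := b2_cm C K 7 6 (by norm_num) (by norm_num) (by decide +kernel) _ _
  have c46 : Commute (xg C 4 y) (xg C 6 x) := b2_cm C K 4 6 (by norm_num) (by norm_num) (by decide +kernel) _ _
  have e : (xg C 4 y * xg C 6 x)⁻¹ * (xg C 5 (1 : F) * (xg C 4 y * xg C 6 x) * (xg C 5 (1 : F))⁻¹) =
      xg C 6 (-y) * xg C 7 (-y + 2 * x) := by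
    have e1 := b2_x5x4 C K (1 : F) y
    have e2 := b2_x5x6 C K (1 : F) x
    simp only [one_mul, one_pow, mul_one] at e1 e2
    calc _ = (xg C 6 x)⁻¹ * (xg C 4 y)⁻¹ * ((xg C 5 (1 : F) * xg C 4 y * (xg C 5 (1 : F))⁻¹) *
          (xg C 5 (1 : F) * xg C 6 x * (xg C 5 (1 : F))⁻¹)) := by group
      _ = (xg C 6 x)⁻¹ * xg C 6 (-y) * (xg C 7 (-y) * xg C 6 x) * xg C 7 (2 * x) := by rw [e1, e2]; group
      _ = _ := by
        rw [c67.eq, xg_inv, ← mul_assoc, xg_add, xg_add, mul_assoc, xg_add]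
        congr 2; ring
  exact e ▸ mul_mem (inv_mem h2) (mul_mem (mul_mem h1 h2) (inv_mem h1))

/-- The pair obtained with `x_b(1)`. -/
theorem b2_sq (x y : F) (h : xg C 6 x * xg C 7 y ∈ H) : xg C 7 (y - x ^ 2) ∈ H := by
  have h2 := b2_nu1 C K hH x y h
  have h1 := hH (xg_mem_fixedRoots C σ (r := 4) (map_one σ))
  have c47 : Commute (xg C 4 (1 : F)) (xg C 7 y) := b2_cm C K 4 7 (by norm_num) (by norm_num) (by decide +kernel) _ _
  have e : (xg C 5 (-x) * xg C 7 y)⁻¹ * (xg C 4 (1 : F) * (xg C 5 (-x) * xg C 7 y) * (xg C 4 (1 : F))⁻¹) =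
      xg C 6 (-x) * xg C 7 (-(x ^ 2)) := by
    have e1 := b2_x4x5 C K (1 : F) (-x)
    simp only [one_mul, neg_sq] at e1
    have c7 : Commute (xg C 7 y) (xg C 6 (-x) * xg C 7 (-(x ^ 2))) :=
      (b2_cm C K 7 6 (by norm_num) (by norm_num) (by decide +kernel) _ _).mul_right
        (b2_cm C K 7 7 (by norm_num) (by norm_num) (by decide +kernel) _ _)
    calc _ = (xg C 7 y)⁻¹ * (xg C 5 (-x))⁻¹ * (xg C 4 (1 : F) * xg C 5 (-x) * (xg C 4 (1 : F))⁻¹) *
          (xg C 4 (1 : F) * xg C 7 y * (xg C 4 (1 : F))⁻¹) := by group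
      _ = (xg C 7 y)⁻¹ * ((xg C 6 (-x) * xg C 7 (-(x ^ 2))) * xg C 7 y) := by
        rw [e1, c47.eq, mul_inv_cancel_right]; group
      _ = _ := by rw [c7.symm.eq, inv_mul_cancel_left]
  have h3 : xg C 6 (-x) * xg C 7 (-(x ^ 2)) ∈ H := e ▸ mul_mem (inv_mem h2) (mul_mem (mul_mem h1 h2) (inv_mem h1))
  have e2 : xg C 6 x * xg C 7 y * (xg C 6 (-x) * xg C 7 (-(x ^ 2))) = xg C 7 (y - x ^ 2) := by
    calc _ = xg C 6 x * (xg C 7 y * xg C 6 (-x)) * xg C 7 (-(x ^ 2)) := by group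
      _ = _ := by
        rw [(b2_cm C K 7 6 (by norm_num) (by norm_num) (by decide +kernel) _ _).eq, ← mul_assoc, xg_add,
          add_neg_cancel, xg_zero, one_mul, xg_add, sub_eq_add_neg]
  exact e2 ▸ mul_mem h h3

theorem b2_long_short {t : F} (h : xg C 7 t ∈ H) : xg C 6 t ∈ H := by
  have h1 := b2_diag C K hH 0 t (by simpa [xg_zero] using h)
  have h2 := mul_mem h1 h
  rw [mul_assoc, xg_add] at h2
  simp only [mul_zero, add_zero, neg_add_cancel, xg_zero, mul_one] at h2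
  simpa [xg_inv] using inv_mem h2

variable {p : ℕ} [Fact p.Prime] [CharP F p]
include p

/-- Elements `x_{a+b}(w) x_h(c)` of a finite overgroup are rational. -/
theorem b2_pair (hA : ∀ t : F, xg C 7 t ∈ H → σ t = t) (w c : F) (h : xg C 6 w * xg C 7 c ∈ H) :
    σ w = w ∧ σ c = c := by
  have short : ∀ x : F, xg C 6 x ∈ H → σ (x ^ 2) = x ^ 2 := fun x hx => by
    have := hA _ (b2_sq C K hH x 0 (by simpa [xg_zero] using hx))
    rw [zero_sub, map_neg, neg_inj] at this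
    exact this
  by_cases h2 : (2 : F) = 0
  · haveI : CharP F 2 := by
      have hd := (CharP.cast_eq_zero_iff F p 2).1 (by exact_mod_cast h2)
      obtain rfl := (Nat.prime_dvd_prime_iff_eq Fact.out Nat.prime_two).1 hd
      infer_instance
    have hd := b2_diag C K hH w c h
    rw [h2, zero_mul, add_zero, CharTwo.neg_eq] at hd
    have a1 := hA _ (b2_sq C K hH c c hd)
    have hX := b2_nu1 C K hH c c hd
    have hY := b2_nu0 C K hH c c hd
    rw [CharTwo.neg_eq] at hX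
    have c74 : Commute (xg C 7 c) (xg C 4 c * xg C 6 c) :=
      (b2_cm C K 7 4 (by norm_num) (by norm_num) (by decide +kernel) _ _).mul_right
        (b2_cm C K 7 6 (by norm_num) (by norm_num) (by decide +kernel) _ _)
    have e : (xg C 4 c * xg C 6 c)⁻¹ * ((xg C 5 c * xg C 7 c) * (xg C 4 c * xg C 6 c) * (xg C 5 c * xg C 7 c)⁻¹) =
        xg C 6 (c ^ 2) * xg C 7 (c ^ 3) := by
      calc _ = (xg C 6 c)⁻¹ * (xg C 4 c)⁻¹ * (xg C 5 c *
            (xg C 7 c * (xg C 4 c * xg C 6 c) * (xg C 7 c)⁻¹) * (xg C 5 c)⁻¹) := by group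
        _ = (xg C 6 c)⁻¹ * (xg C 4 c)⁻¹ * ((xg C 5 c * xg C 4 c * (xg C 5 c)⁻¹) *
              (xg C 5 c * xg C 6 c * (xg C 5 c)⁻¹)) := by rw [c74.eq, mul_inv_cancel_right]; group
        _ = (xg C 6 c)⁻¹ * ((xg C 6 (c ^ 2) * xg C 7 (c ^ 3)) * xg C 6 c) := by
          rw [b2_x5x4 C K, b2_x5x6 C K, h2, zero_mul, zero_mul, xg_zero, mul_one, CharTwo.neg_eq, CharTwo.neg_eq]
          rw [show c * c = c ^ 2 by ring, show c ^ 2 * c = c ^ 3 by ring]
          group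
        _ = _ := by
          have : Commute (xg C 6 (c ^ 2) * xg C 7 (c ^ 3)) (xg C 6 c) :=
            (b2_cm C K 6 6 (by norm_num) (by norm_num) (by decide +kernel) _ _).mul_left
              (b2_cm C K 7 6 (by norm_num) (by norm_num) (by decide +kernel) _ _)
          rw [this.eq, inv_mul_cancel_left]
    have hP : xg C 6 (c ^ 2) * xg C 7 (c ^ 3) ∈ H := e ▸ mul_mem (inv_mem hY) (mul_mem (mul_mem hX hY) (inv_mem hX))
    have hQ := b2_diag C K hH _ _ hP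
    rw [h2, zero_mul, add_zero, CharTwo.neg_eq] at hQ
    have e2 : xg C 6 (c ^ 2) * xg C 7 (c ^ 3) * (xg C 6 (c ^ 3) * xg C 7 (c ^ 3))⁻¹ = xg C 6 (c ^ 2 + c ^ 3) := by
      rw [mul_inv_rev, xg_inv, xg_inv, CharTwo.neg_eq, ← mul_assoc, mul_assoc (xg C 6 _),
        xg_add, CharTwo.add_self_eq_zero, xg_zero, mul_one, xg_add]
    have a2 := short _ (e2 ▸ mul_mem hP (inv_mem hQ))
    have a3 : σ (c ^ 2 + c ^ 3) = c ^ 2 + c ^ 3 := by
      rw [map_pow] at a2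
      exact frobenius_inj F 2 (by simpa [frobenius_def] using a2)
    rw [CharTwo.sub_eq_add] at a1
    have hcf : σ c = c := by
      by_cases h0 : c + c ^ 2 = 0
      · have h01 : c * (1 + c) = 0 := by linear_combination h0
        rcases mul_eq_zero.1 h01 with hc | hc
        · rw [hc, map_zero]
        · rw [CharTwo.add_eq_zero] at hc; rw [← hc, map_one]
      · refine mul_right_cancel₀ h0 ?_
        calc σ c * (c + c ^ 2) = σ c * σ (c + c ^ 2) := by rw [a1]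
          _ = σ (c ^ 2 + c ^ 3) := by rw [← map_mul]; congr 1; ring
          _ = _ := by rw [a3]; ring
    refine ⟨?_, hcf⟩
    have hw := short w (by
      have := mul_mem h (inv_mem (hH (xg_mem_fixedRoots C σ (r := 7) hcf)))
      rwa [mul_inv_cancel_right] at this)
    rw [map_pow] at hw
    exact frobenius_inj F 2 (by simpa [frobenius_def] using hw)
  · have h1 := hH (xg_mem_fixedRoots C σ (r := 5) (map_one σ))
    have e : (xg C 6 w * xg C 7 c)⁻¹ * (xg C 5 (1 : F) * (xg C 6 w * xg C 7 c) * (xg C 5 (1 : F))⁻¹) =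
        xg C 7 (2 * w) := by
      have c57 : Commute (xg C 5 (1 : F)) (xg C 7 c) :=
        b2_cm C K 5 7 (by norm_num) (by norm_num) (by decide +kernel) _ _
      calc _ = (xg C 7 c)⁻¹ * (xg C 6 w)⁻¹ * ((xg C 5 (1 : F) * xg C 6 w * (xg C 5 (1 : F))⁻¹) *
            (xg C 5 (1 : F) * xg C 7 c * (xg C 5 (1 : F))⁻¹)) := by group
        _ = (xg C 7 c)⁻¹ * (xg C 7 (2 * 1 * w) * xg C 7 c) := by
          rw [b2_x5x6 C K, c57.eq, mul_inv_cancel_right]; group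
        _ = _ := by rw [xg_inv, xg_add, xg_add]; congr 1; ring
    have := hA _ (e ▸ mul_mem (inv_mem h) (mul_mem (mul_mem h1 h) (inv_mem h1)))
    rw [map_mul, map_ofNat] at this
    have hw := mul_left_cancel₀ h2 this
    refine ⟨hw, hA _ ?_⟩
    have := mul_mem (inv_mem (hH (xg_mem_fixedRoots C σ (r := 6) hw))) h
    rwa [inv_mul_cancel_left] at this

omit p hH
variable {L : ℕ} (hB : chkBase tblB2 0x99 = true) (hO : Over C σ H) [Fact p.Prime] [CharP F p]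
include hO hB p

theorem b2_good_four {y : GL chevB2.Idx F} (hy : y ∈ H) (h : RootEl C 4 y) : Good C σ y := by
  have hA : ∀ t : F, xg C 7 t ∈ H → σ t = t := fun t ht => hO.top t (by rw [show chevB2.nroots - 1 = 7 by rw [b2_n C K]]; exact ht)
  obtain ⟨u, hu, ν, hν, rfl⟩ := h
  rw [posUnipotent_eq C, show chevB2.nroots / 2 = 4 by rw [b2_n C K]] at hu
  obtain ⟨t, rfl⟩ := upper_normal_form C K.comm 4 (k := 4) (by rw [b2_n C K]) (by rw [b2_n C K]) hu
  obtain ⟨a, ea⟩ : ∃ a, t 4 = a := ⟨_, rfl⟩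
  obtain ⟨b, eb⟩ : ∃ b, t 5 = b := ⟨_, rfl⟩
  obtain ⟨c, ec⟩ : ∃ c, t 6 = c := ⟨_, rfl⟩
  obtain ⟨e, ee⟩ : ∃ e, t 7 = e := ⟨_, rfl⟩
  have eo : oprod C 4 4 t = xg C 4 a * xg C 5 b * (xg C 6 c * xg C 7 e) := by
    simp [oprod, List.range'_succ, ea, eb, ec, ee, mul_assoc]
  have c4 : ∀ x z : F, Commute (xg C 4 z) (xg C 6 x) := fun x z =>
    b2_cm C K 4 6 (by norm_num) (by norm_num) (by decide +kernel) _ _
  have c47 : ∀ x z : F, Commute (xg C 4 z) (xg C 7 x) := fun x z =>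
    b2_cm C K 4 7 (by norm_num) (by norm_num) (by decide +kernel) _ _
  have eY : oprod C 4 4 t * xg C 4 ν * (oprod C 4 4 t)⁻¹ =
      xg C 4 ν * (xg C 6 (-(b * ν)) * xg C 7 (-(b ^ 2 * ν))) := by
    rw [eo]
    have h1 : Commute (xg C 6 c * xg C 7 e) (xg C 4 ν) := ((c4 c ν).mul_right (c47 e ν)).symm
    have h2 : Commute (xg C 4 a) (xg C 4 ν * (xg C 6 (-(b * ν)) * xg C 7 (-(b ^ 2 * ν)))) :=
      (b2_cm C K 4 4 (by norm_num) (by norm_num) (by decide +kernel) _ _).mul_right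
        ((c4 _ _).mul_right (c47 _ _))
    calc _ = xg C 4 a * (xg C 5 b * ((xg C 6 c * xg C 7 e) * xg C 4 ν * (xg C 6 c * xg C 7 e)⁻¹) *
          (xg C 5 b)⁻¹) * (xg C 4 a)⁻¹ := by group
      _ = _ := by rw [h1.eq, mul_inv_cancel_right, b2_x5x4 C K, h2.eq, mul_inv_cancel_right]
  rw [eY] at hy ⊢
  set X := -(b * ν)
  set Y := -(b ^ 2 * ν)
  have h1 := hO.fixed (xg_mem_fixedRoots C σ (r := 5) (map_one σ))
  have e : (xg C 4 ν * (xg C 6 X * xg C 7 Y))⁻¹ *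
      (xg C 5 (1 : F) * (xg C 4 ν * (xg C 6 X * xg C 7 Y)) * (xg C 5 (1 : F))⁻¹) =
      xg C 6 (-ν) * xg C 7 (-ν + 2 * X) := by
    have c57 : Commute (xg C 5 (1 : F)) (xg C 7 Y) :=
      b2_cm C K 5 7 (by norm_num) (by norm_num) (by decide +kernel) _ _
    have c7 : ∀ x z : F, Commute (xg C 7 z) (xg C 6 x) := fun x z =>
      b2_cm C K 7 6 (by norm_num) (by norm_num) (by decide +kernel) _ _
    calc _ = (xg C 7 Y)⁻¹ * (xg C 6 X)⁻¹ * (xg C 4 ν)⁻¹ * ((xg C 5 (1 : F) * xg C 4 ν * (xg C 5 (1 : F))⁻¹) *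
          (xg C 5 (1 : F) * xg C 6 X * (xg C 5 (1 : F))⁻¹) *
          (xg C 5 (1 : F) * xg C 7 Y * (xg C 5 (1 : F))⁻¹)) := by group
      _ = (xg C 7 Y)⁻¹ * ((xg C 6 X)⁻¹ * (xg C 6 (-ν) * (xg C 7 (-ν) * xg C 6 X))) *
          (xg C 7 (2 * X) * xg C 7 Y) := by
        rw [b2_x5x4 C K, b2_x5x6 C K, c57.eq, mul_inv_cancel_right, one_mul, one_pow, one_mul, mul_one]; group
      _ = _ := by
        rw [(c7 X (-ν)).eq, xg_inv C 6 X, ← mul_assoc (xg C 6 (-ν)), xg_add, ← mul_assoc (xg C 6 (-X)), xg_add,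
          xg_inv, ← mul_assoc (xg C 7 (-Y)), (c7 _ (-Y)).eq, xg_add, mul_assoc, mul_assoc, xg_add, xg_add]
        congr 2 <;> ring
  obtain ⟨hνf, -⟩ := b2_pair C K hO.fixed (p := p) hA _ _ (e ▸ mul_mem (inv_mem hy) (mul_mem (mul_mem h1 hy) (inv_mem h1)))
  rw [map_neg, neg_inj] at hνf
  obtain ⟨hX, -⟩ := b2_pair C K hO.fixed (p := p) hA X Y (by
    have := mul_mem (inv_mem (hO.fixed (xg_mem_fixedRoots C σ (r := 4) hνf))) hy
    rwa [inv_mul_cancel_left] at this)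
  rw [map_neg, neg_inj, map_mul, hνf] at hX
  have hb := mul_right_cancel₀ hν hX
  rw [← b2_x5x4 C K]
  exact (good_root C K hB σ (by rw [b2_n C K]; norm_num) (by decide +kernel) hνf hν).conj C σ
    (xg_mem_fixedRoots C σ hb)

theorem b2_good_three {y : GL chevB2.Idx F} (hy : y ∈ H) (h : RootEl C 3 y) : Good C σ y := by
  have hA : ∀ t : F, xg C 7 t ∈ H → σ t = t := fun t ht => hO.top t (by rw [show chevB2.nroots - 1 = 7 by rw [b2_n C K]]; exact ht)
  obtain ⟨u, hu, ν, hν, rfl⟩ := h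
  rw [posUnipotent_eq C, show chevB2.nroots / 2 = 4 by rw [b2_n C K]] at hu
  obtain ⟨t, rfl⟩ := upper_normal_form C K.comm 4 (k := 4) (by rw [b2_n C K]) (by rw [b2_n C K]) hu
  obtain ⟨a, ea⟩ : ∃ a, t 4 = a := ⟨_, rfl⟩
  obtain ⟨b, eb⟩ : ∃ b, t 5 = b := ⟨_, rfl⟩
  obtain ⟨c, ec⟩ : ∃ c, t 6 = c := ⟨_, rfl⟩
  obtain ⟨e, ee⟩ : ∃ e, t 7 = e := ⟨_, rfl⟩
  have eo : oprod C 4 4 t = xg C 4 a * xg C 5 b * xg C 6 c * xg C 7 e := by
    simp [oprod, List.range'_succ, ea, eb, ec, ee, mul_assoc]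
  have c37 : ∀ x z : F, Commute (xg C 3 z) (xg C 7 x) := fun x z =>
    b2_cm C K 3 7 (by norm_num) (by norm_num) (by decide +kernel) _ _
  have c35 : ∀ x z : F, Commute (xg C 3 z) (xg C 5 x) := fun x z =>
    b2_cm C K 3 5 (by norm_num) (by norm_num) (by decide +kernel) _ _
  have c57 : ∀ x z : F, Commute (xg C 5 z) (xg C 7 x) := fun x z =>
    b2_cm C K 5 7 (by norm_num) (by norm_num) (by decide +kernel) _ _
  have c55 : ∀ x z : F, Commute (xg C 5 z) (xg C 5 x) := fun x z =>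
    b2_cm C K 5 5 (by norm_num) (by norm_num) (by decide +kernel) _ _
  set M := xg C 3 ν * (xg C 5 (-(c * ν)) * xg C 7 (c ^ 2 * ν)) with hM
  have eY : oprod C 4 4 t * xg C 3 ν * (oprod C 4 4 t)⁻¹ = xg C 4 a * M * (xg C 4 a)⁻¹ := by
    rw [eo]
    have h2 : Commute (xg C 5 b) M := (c35 b ν).symm.mul_right ((c55 _ _).mul_right (c57 _ _))
    calc _ = xg C 4 a * (xg C 5 b * (xg C 6 c * (xg C 7 e * xg C 3 ν * (xg C 7 e)⁻¹) * (xg C 6 c)⁻¹) *
          (xg C 5 b)⁻¹) * (xg C 4 a)⁻¹ := by group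
      _ = _ := by rw [(c37 e ν).symm.eq, mul_inv_cancel_right, b2_x6x3 C K, ← hM, h2.eq, mul_inv_cancel_right]
  rw [eY] at hy ⊢
  have h1 := hO.fixed (xg_mem_fixedRoots C σ (r := 6) (map_one σ))
  have hy1 := mul_mem (mul_mem (mul_mem h1 hy) (inv_mem h1)) (inv_mem hy)
  have e1 : xg C 6 (1 : F) * M * (xg C 6 (1 : F))⁻¹ * M⁻¹ = xg C 5 (-ν) * xg C 7 (ν + 2 * c * ν) := by
    have c67 : Commute (xg C 6 (1 : F)) (xg C 7 (c ^ 2 * ν)) :=
      b2_cm C K 6 7 (by norm_num) (by norm_num) (by decide +kernel) _ _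
    have hc : Commute (xg C 3 ν) (xg C 5 (-ν) * xg C 7 (ν + 2 * c * ν)) := (c35 _ _).mul_right (c37 _ _)
    calc _ = (xg C 6 (1 : F) * xg C 3 ν * (xg C 6 (1 : F))⁻¹) *
          (xg C 6 (1 : F) * xg C 5 (-(c * ν)) * (xg C 6 (1 : F))⁻¹) *
          (xg C 6 (1 : F) * xg C 7 (c ^ 2 * ν) * (xg C 6 (1 : F))⁻¹) * M⁻¹ := by rw [hM]; group
      _ = xg C 3 ν * xg C 5 (-ν) * (xg C 7 ν * xg C 5 (-(c * ν))) * xg C 7 (2 * c * ν) *
          (xg C 5 (-(c * ν)))⁻¹ * (xg C 3 ν)⁻¹ := by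
        rw [b2_x6x3 C K, b2_x6x5 C K, c67.eq, mul_inv_cancel_right, hM, one_mul, one_pow, one_mul,
          show -(2 * (1 : F) * -(c * ν)) = 2 * c * ν by ring]
        group
      _ = xg C 3 ν * (xg C 5 (-ν) * xg C 7 (ν + 2 * c * ν)) * (xg C 3 ν)⁻¹ := by
        rw [(c57 ν (-(c * ν))).symm.eq, ← mul_assoc, ← xg_add C 7 ν]
        have := (c57 (2 * c * ν) (-(c * ν))).inv_left.symm.eq
        calc _ = xg C 3 ν * xg C 5 (-ν) * xg C 5 (-(c * ν)) * (xg C 7 ν * xg C 7 (2 * c * ν)) *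
              (xg C 5 (-(c * ν)))⁻¹ * (xg C 3 ν)⁻¹ := by group
          _ = _ := by
            rw [xg_add]
            have h := (c57 (ν + 2 * c * ν) (-(c * ν))).inv_left.symm.eq
            rw [mul_assoc (xg C 3 ν * xg C 5 (-ν) * xg C 5 (-(c * ν))), h]; group
      _ = _ := by rw [hc.eq, mul_inv_cancel_right]
  have e2 : xg C 6 (1 : F) * (xg C 4 a * M * (xg C 4 a)⁻¹) * (xg C 6 (1 : F))⁻¹ *
      (xg C 4 a * M * (xg C 4 a)⁻¹)⁻¹ =
      xg C 5 (-ν) * (xg C 6 (a * -ν) * xg C 7 (-(a * (-ν) ^ 2) + (ν + 2 * c * ν))) := by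
    have c64 : Commute (xg C 6 (1 : F)) (xg C 4 a) :=
      b2_cm C K 6 4 (by norm_num) (by norm_num) (by decide +kernel) _ _
    have c47 : Commute (xg C 4 a) (xg C 7 (ν + 2 * c * ν)) :=
      b2_cm C K 4 7 (by norm_num) (by norm_num) (by decide +kernel) _ _
    calc _ = xg C 4 a * (xg C 6 (1 : F) * M * (xg C 6 (1 : F))⁻¹ * M⁻¹) * (xg C 4 a)⁻¹ := by
          rw [← mul_assoc, ← mul_assoc, c64.eq]
          have := c64.inv_inv.eq
          rw [mul_assoc _ (xg C 4 a)⁻¹ (xg C 6 (1 : F))⁻¹, ← this]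
          group
      _ = (xg C 4 a * xg C 5 (-ν) * (xg C 4 a)⁻¹) * (xg C 4 a * xg C 7 (ν + 2 * c * ν) * (xg C 4 a)⁻¹) := by
          rw [e1]; group
      _ = _ := by rw [b2_x4x5 C K, c47.eq, mul_inv_cancel_right, mul_assoc, mul_assoc, xg_add]
  rw [e2] at hy1
  set B := a * -ν
  set Cc := -(a * (-ν) ^ 2) + (ν + 2 * c * ν)
  have h4 := hO.fixed (xg_mem_fixedRoots C σ (r := 4) (map_one σ))
  have e3 : (xg C 5 (-ν) * (xg C 6 B * xg C 7 Cc))⁻¹ *
      (xg C 4 (1 : F) * (xg C 5 (-ν) * (xg C 6 B * xg C 7 Cc)) * (xg C 4 (1 : F))⁻¹) =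
      xg C 6 (-ν) * xg C 7 (-(ν ^ 2)) := by
    have hc4 : Commute (xg C 4 (1 : F)) (xg C 6 B * xg C 7 Cc) :=
      (b2_cm C K 4 6 (by norm_num) (by norm_num) (by decide +kernel) _ _).mul_right
        (b2_cm C K 4 7 (by norm_num) (by norm_num) (by decide +kernel) _ _)
    have hcc : Commute (xg C 6 (-ν) * xg C 7 (-(ν ^ 2))) (xg C 6 B * xg C 7 Cc) :=
      ((b2_cm C K 6 6 (by norm_num) (by norm_num) (by decide +kernel) _ _).mul_right
        (b2_cm C K 6 7 (by norm_num) (by norm_num) (by decide +kernel) _ _)).mul_left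
      ((b2_cm C K 7 6 (by norm_num) (by norm_num) (by decide +kernel) _ _).mul_right
        (b2_cm C K 7 7 (by norm_num) (by norm_num) (by decide +kernel) _ _))
    calc _ = (xg C 6 B * xg C 7 Cc)⁻¹ * (xg C 5 (-ν))⁻¹ * (xg C 4 (1 : F) * xg C 5 (-ν) * (xg C 4 (1 : F))⁻¹) *
          (xg C 4 (1 : F) * (xg C 6 B * xg C 7 Cc) * (xg C 4 (1 : F))⁻¹) := by group
      _ = (xg C 6 B * xg C 7 Cc)⁻¹ * ((xg C 6 (-ν) * xg C 7 (-(ν ^ 2))) * (xg C 6 B * xg C 7 Cc)) := by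
        rw [b2_x4x5 C K, hc4.eq, mul_inv_cancel_right, one_mul, one_mul, neg_sq]; group
      _ = _ := by rw [hcc.eq, inv_mul_cancel_left]
  obtain ⟨hνf, -⟩ := b2_pair C K hO.fixed (p := p) hA _ _
    (e3 ▸ mul_mem (inv_mem hy1) (mul_mem (mul_mem h4 hy1) (inv_mem h4)))
  obtain ⟨hB', -⟩ := b2_pair C K hO.fixed (p := p) hA B Cc (by
    have := mul_mem (inv_mem (hO.fixed (xg_mem_fixedRoots C σ (r := 5) hνf))) hy1
    rwa [inv_mul_cancel_left] at this)
  rw [map_mul, hνf] at hB'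
  have haf := mul_right_cancel₀ (neg_ne_zero.2 hν) hB'
  have h4a := xg_mem_fixedRoots C σ (r := 4) haf
  have hn := ng_mem_fixedRoots C σ (r := tblB2.simp' 1) (map_one σ)
  have hMH : M ∈ H := by
    have := mul_mem (mul_mem (inv_mem (hO.fixed h4a)) hy) (hO.fixed h4a)
    simpa [mul_assoc] using this
  have e4 : nu C 1 * M * (nu C 1)⁻¹ = xg C 5 (-c) * xg C 4 (-ν) * (xg C 5 (-c))⁻¹ := by
    rw [b2_x5x4 C K]
    calc _ = (nu C 1 * xg C 3 ν * (nu C 1)⁻¹) * ((nu C 1 * xg C 5 (-(c * ν)) * (nu C 1)⁻¹) *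
          (nu C 1 * xg C 7 (c ^ 2 * ν) * (nu C 1)⁻¹)) := by rw [hM]; group
      _ = _ := by
        rw [b2_nu C K 1 3 4 (-1) (by norm_num) (by norm_num) (by decide +kernel) (by decide +kernel),
          b2_nu C K 1 5 6 1 (by norm_num) (by norm_num) (by decide +kernel) (by decide +kernel),
          b2_nu C K 1 7 7 1 (by norm_num) (by norm_num) (by decide +kernel) (by decide +kernel)]
        simp
  refine Good.conj C σ h4a (Good.of_conj C σ hn ?_)
  refine b2_good_four C K (p := p) hB hO (mul_mem (mul_mem (hO.fixed hn) hMH) (inv_mem (hO.fixed hn)))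
    ⟨_, xg_mem_pos C (by rw [b2_n C K]; norm_num) (by rw [b2_n C K]; norm_num) (-c), -ν, neg_ne_zero.2 hν, e4⟩

/-- Root elements off the lowest root are rational. -/
theorem b2_good_rat {g : ℕ} (hg : g < chevB2.nroots) (hl : lg 0x99 g = true)
    (hne : g ≠ tblB2.neg (chevB2.nroots - 1)) {y : GL chevB2.Idx F} (hy : y ∈ H) (h : RootEl C g y) :
    Good C σ y := by
  rw [b2_n C K] at hg hne
  have e0 : tblB2.neg (8 - 1) = 0 := by decide +kernel
  rw [e0] at hne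
  interval_cases g <;> first
    | exact absurd rfl hne
    | exact absurd hl (by decide +kernel)
    | exact b2_good_three C K (p := p) hB hO hy h
    | exact b2_good_four C K (p := p) hB hO hy h
    | exact good_of_top C K hB σ hO (by rw [b2_n C K]) hy h

end Cfsg.Lib.Chev.Ovg
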