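import Mathlib
import Cfsg.Agent.Lib.Chev.Overgroup.Basic

/-!
An element that maps one rational root element to another is rational.
-/

set_option autoImplicit false
set_option linter.unusedSectionVars false
set_option linter.unusedVariables false

namespace Cfsg.Lib.Chev.Ovg

open Cfsg.Lie

variable {D : ChevalleyDatum} {T : Tbl} {F : Type*} [Field F] (C : Cert D T) (K : FullCert D T) {L : ℕ}
  (hB : chkBase T L = true) (σ : F →+* F) {H : Subgroup (GL D.Idx F)}
include C K hB

/-- Every root off the lowest root gives rational elements. -/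
def Rat (_C : Cert D T) (L : ℕ) (σ : F →+* F) (H : Subgroup (GL D.Idx F)) : Prop :=
  ∀ g < D.nroots, lg L g = true → g ≠ T.neg (D.nroots - 1) → ∀ y ∈ H, RootEl _C g y → Good _C σ y

theorem comm_top_inner (hn : 0 < D.nroots) {γ : ℕ} {u : GL D.Idx F} (hu : u ∈ D.posUnipotent F) {ν t : F}
    (h : Commute (u * xg C γ ν * u⁻¹) (xg C (D.nroots - 1) t)) :
    Commute (xg C γ ν) (xg C (D.nroots - 1) t) := by
  have h2 := top_comm C K hn hu t
  have h3 : Commute (u⁻¹ * (u * xg C γ ν * u⁻¹) * u) (xg C (D.nroots - 1) t) :=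
    (h2.inv_left.mul_left h).mul_left h2
  simpa [mul_assoc] using h3

theorem top_neg_not_comm' (hn : 0 < D.nroots) {t ν : F} (ht : t ≠ 0) (hν : ν ≠ 0) :
    ¬ Commute (xg C (T.neg (D.nroots - 1)) ν) (xg C (D.nroots - 1) t) := fun h => by
  have hθ : D.nroots - 1 < D.nroots := by omega
  have hy := (rootRel C (F := F) hθ).y_eq hν
  change xg C (T.neg (D.nroots - 1)) ν = xg C (D.nroots - 1) ν⁻¹ * ng C (D.nroots - 1) (-ν⁻¹) *
    xg C (D.nroots - 1) ν⁻¹ at hy
  have hc : ∀ a : F, Commute (xg C (D.nroots - 1) t) (xg C (D.nroots - 1) a) := fun a =>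
    show _ = _ by rw [xg_add, xg_add, add_comm]
  have e0 : ng C (D.nroots - 1) (-ν⁻¹) = (xg C (D.nroots - 1) ν⁻¹)⁻¹ * xg C (T.neg (D.nroots - 1)) ν *
      (xg C (D.nroots - 1) ν⁻¹)⁻¹ := by rw [hy]; group
  have hn' : Commute (xg C (D.nroots - 1) t) (ng C (D.nroots - 1) (-ν⁻¹)) := by
    rw [e0]; exact ((hc _).inv_right.mul_right h.symm).mul_right (hc _).inv_right
  have e := ng_conj_xg C hθ (neg_ne_zero.2 (inv_ne_zero hν)) t
  rw [← hn'.eq, mul_inv_cancel_right] at e
  exact C.spec.neg_ne _ hθ (xg_index C hθ (C.spec.neg_lt _ hθ) ht e).symm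

variable (hO : Over C σ H) (hR : Rat C L σ H)
include hO hR

/-- A root element of the finite group that commutes with a rational one is rational. -/
theorem good_of_commute {y r : GL D.Idx F} (hy : y ∈ H) (hyL : IsLR C L y) (hr : Good C σ r)
    (hc : Commute y r) : Good C σ y := by
  obtain ⟨m, hm, t, ht, ht0, rfl⟩ := hr
  refine Good.of_conj C σ (inv_mem hm) ?_
  obtain ⟨g, hg, hgl, hy'⟩ := hyL.conj C K hB hO.pos (inv_mem (fixedRoots_le_group C σ hm))
  refine hR g hg hgl (fun e => ?_) _
    (mul_mem (mul_mem (hO.fixed (inv_mem hm)) hy) (inv_mem (hO.fixed (inv_mem hm)))) hy'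
  subst e
  obtain ⟨u, hu, ν, hν, hy'⟩ := hy'
  have h := hc.map (MulAut.conj m⁻¹).toMonoidHom
  have h' : Commute (u * xg C (T.neg (D.nroots - 1)) ν * u⁻¹) (xg C (D.nroots - 1) t) := by
    rw [← hy']
    simpa [MulAut.conj_apply, mul_assoc] using h
  exact top_neg_not_comm' C K hB hO.pos ht0 hν (comm_top_inner C K hB hO.pos hu h')

/-- Two rational root elements with the same behaviour in the finite group. -/
def Rel (_C : Cert D T) (σ : F →+* F) (H : Subgroup (GL D.Idx F)) (r r' : GL D.Idx F) : Prop :=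
  ∀ h ∈ H, (Good _C σ (h * r * h⁻¹) ↔ Good _C σ (h * r' * h⁻¹))

theorem rel_comm {r r' : GL D.Idx F} (h1 : Good C σ r) (h2 : Good C σ r') (hc : Commute r r') :
    Rel C σ H r r' := by
  have key : ∀ a b, Good C σ a → Good C σ b → Commute a b → ∀ h ∈ H,
      Good C σ (h * a * h⁻¹) → Good C σ (h * b * h⁻¹) := fun a b ha hb hab h hh hG =>
    good_of_commute C K hB σ hO hR (mul_mem (mul_mem hh (hO.fixed hb.mem)) (inv_mem hh))
      ((hb.isLR C K hB σ hO.pos).conj C K hB hO.pos (hO.le hh)) hG
      (hab.symm.map (MulAut.conj h).toMonoidHom)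
  exact fun h hh => ⟨key r r' h1 h2 hc h hh, key r' r h2 h1 hc.symm h hh⟩

theorem rel_conj {r r' l : GL D.Idx F} (hl : l ∈ fixedRoots C σ) (h : Rel C σ H r r') :
    Rel C σ H (l * r * l⁻¹) (l * r' * l⁻¹) := fun g hg => by
  have := h (g * l) (mul_mem hg (hO.fixed hl))
  simpa [mul_assoc] using this

theorem rel_long {r : ℕ} (hr : r < D.nroots) (hl : lg L r = true) :
    Rel C σ H (xg C (D.nroots - 1) (1 : F)) (xg C r (1 : F)) := by
  induction hN : (2 - pr T r).toNat using Nat.strong_induction_on generalizing r with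
  | _ N ih =>
  by_cases he : r = D.nroots - 1
  · subst he; exact fun _ _ => Iff.rfl
  obtain ⟨s, hs, hsl, hsp, hcm⟩ := (base C K hB r hr).2.2.2.1 hl he
  have h2 : Rel C σ H (xg C (D.nroots - 1) (1 : F)) (xg C s (1 : F)) := by
    rcases hsp with rfl | hlt
    · exact fun _ _ => Iff.rfl
    · obtain ⟨-, hb, -⟩ := (base C K hB s hs).1
      exact ih (2 - pr T s).toNat (by omega) hs hsl rfl
  have h3 := rel_comm C K hB σ hO hR (good_root C K hB σ hr hl (map_one σ) one_ne_zero)
    (good_root C K hB σ hs hsl (map_one σ) one_ne_zero) (cm_commute C K hr hs hcm 1 1)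
  exact fun h hh => (h2 h hh).trans (h3 h hh).symm

theorem rel_fixed {l : GL D.Idx F} (hl : l ∈ fixedRoots C σ) :
    Rel C σ H (xg C (D.nroots - 1) (1 : F)) (l * xg C (D.nroots - 1) (1 : F) * l⁻¹) := by
  induction hl using Subgroup.closure_induction with
  | mem x hx =>
    obtain ⟨a, t, ht, rfl⟩ := hx
    by_cases ha : a < D.nroots
    · obtain ⟨s, hs, hsl, hcm⟩ := (base C K hB a ha).2.2.2.2.1
      have h := rel_long C K hB σ hO hR hs hsl
      have h' := rel_conj C K hB σ hO hR (xg_mem_fixedRoots C σ (r := a) ht) h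
      rw [(cm_commute C K ha hs hcm t 1).eq, mul_inv_cancel_right] at h'
      exact fun g hg => (h g hg).trans (h' g hg).symm
    · intro g hg
      simp [xg_out C ha]
  | one => intro g hg; simp
  | mul a b ha hb iha ihb =>
    have h := rel_conj C K hB σ hO hR ha ihb
    intro g hg
    refine (iha g hg).trans ?_
    have := h g hg
    simpa [mul_assoc] using this
  | inv a ha iha =>
    have h := rel_conj C K hB σ hO hR (inv_mem ha) iha
    intro g hg
    have := h g hg
    simp only [mul_assoc, inv_inv, inv_mul_cancel_left, inv_mul_cancel, mul_one] at this ⊢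
    exact this.symm

theorem rel_good {r : GL D.Idx F} (hr : Good C σ r) : Rel C σ H (xg C (D.nroots - 1) (1 : F)) r := by
  obtain ⟨l, hl, t, ht, ht0, rfl⟩ := hr
  have h1 := rel_comm C K hB σ hO hR (good_top C σ (map_one σ) one_ne_zero) (good_top C σ ht ht0)
    (show _ = _ by rw [xg_add, xg_add, add_comm])
  have h2 := rel_conj C K hB σ hO hR hl h1
  exact fun g hg => (rel_fixed C K hB σ hO hR hl g hg).trans (h2 g hg)

omit hO hR

theorem prod_terms_split {α : ℕ} (hα : α < D.rank) (f : ℕ × ℤ × ℕ × ℕ → F) :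
    ∀ l : List (ℕ × ℤ × ℕ × ℕ), (∀ c ∈ l, c.1 < D.nroots ∧ D.nroots ≤ 2 * c.1) →
      ∃ v ∈ D.unipotentRadical F {α}, (l.map fun c => xg C c.1 (f c)).prod =
        v * xg C (T.simp' α) ((l.filter fun c => Nat.beq c.1 (T.simp' α)).map f).sum
  | [], _ => ⟨1, one_mem _, by simp [xg_zero]⟩
  | c :: l, h => by
    obtain ⟨v, hv, e⟩ := prod_terms_split hα f l fun x hx => h x (List.mem_cons_of_mem _ hx)
    obtain ⟨hc, hcp⟩ := h c (List.mem_cons_self ..)
    rw [List.map_cons, List.prod_cons, e]
    by_cases hcα : c.1 = T.simp' α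
    · rw [List.filter_cons_of_pos (by simp [hcα]), List.map_cons, List.sum_cons, ← xg_add, ← hcα]
      refine ⟨xg C c.1 (f c) * v * (xg C c.1 (f c))⁻¹, ?_, by group⟩
      exact (Subgroup.mem_normalizer_iff.1 (levi_le_normalizer C K _ (xg_mem_levi C (by
        rw [hcα]; exact inRootSub_simple C hα (Set.mem_singleton α)) _)) v).1 hv
    · rw [List.filter_cons_of_neg (by simpa using hcα)]
      exact ⟨xg C c.1 (f c) * v, mul_mem (xg_mem_radical C hc hcp
        (fun hJ => hcα (inRootSub_singleton C K hα hJ hcp)) _) hv, (mul_assoc _ _ _).symm⟩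

theorem exists_test {α : ℕ} (hα : α < D.rank) :
    ∃ v ∈ D.unipotentRadical F {α}, ∃ c : F, c ≠ 0 ∧ ∀ e : GL D.Idx F,
      (∀ r, Good C σ r → Commute e r) → Commute e (v * xg C (T.simp' α) c) := by
  have hsα := C.spec.simp_lt α hα
  have h := hB
  simp only [chkBase, Bool.and_eq_true, allBelow_iff, C.spec.shape.rank_eq, C.spec.shape.nroots_eq] at h
  have h' := h.2 α hα
  rw [Bool.or_eq_true] at h'
  rcases h' with h' | h'
  · exact ⟨1, one_mem _, 1, one_ne_zero, fun e he => by
      rw [one_mul]; exact he _ (good_root C K hB σ hsα h' (map_one σ) one_ne_zero)⟩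
  obtain ⟨r, hr, h'⟩ := exists_of_anyBelow h'
  rw [Bool.and_eq_true] at h'
  obtain ⟨hrl, h'⟩ := h'
  obtain ⟨d, hd, h'⟩ := exists_of_anyBelow h'
  simp only [Bool.and_eq_true, List.all_eq_true, Nat.ble_eq] at h'
  obtain ⟨hnc, hpos, hm⟩ := h'
  split at hm
  rotate_left
  · exact absurd hm Bool.false_ne_true
  rename_i x hx
  simp only [sgnB, Bool.or_eq_true, decide_eq_true_eq] at hm
  set f : ℕ × ℤ × ℕ × ℕ → F := fun c => (c.2.1 : F) * 1 ^ c.2.2.1 * 1 ^ c.2.2.2 with hf
  obtain ⟨v, hv, e⟩ := prod_terms_split C K hB hα f (tTerms T r d)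
    fun c hc => ⟨(pr_term C K hB hr hd hc).1, hpos c hc⟩
  rw [hx, List.map_cons, List.map_nil, List.sum_cons, List.sum_nil, add_zero] at e
  refine ⟨v, hv, f x, ?_, fun g hg => ?_⟩
  · simp only [hf, one_pow, mul_one]
    rcases hm with h | h <;> simp [h]
  rw [← e]
  have hd1 := xg_mem_fixedRoots C σ (r := d) (t := (1 : F)) (map_one σ)
  have hgr := good_root C K hB σ hr hrl (map_one σ) one_ne_zero
  have h1 := hg _ (hgr.conj C σ (inv_mem hd1))
  have h2 := (hg _ hgr).inv_right
  have := h1.mul_right h2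
  rw [inv_inv] at this
  have e2 := conj_prod C (F := F) K hr hd hnc 1 1
  have e3 : ((tTerms T r d).map fun c => xg C c.1 (f c)).prod =
      (xg C d (1 : F))⁻¹ * xg C r (1 : F) * xg C d (1 : F) * (xg C r (1 : F))⁻¹ := by
    calc _ = (xg C d (1 : F))⁻¹ * (xg C d (1 : F) *
        ((tTerms T r d).map fun c => xg C c.1 ((c.2.1 : F) * 1 ^ c.2.2.1 * 1 ^ c.2.2.2)).prod) := by
          rw [inv_mul_cancel_left]
      _ = _ := by rw [← e2]; group
  rw [e3]
  exact this

/-- An element commuting with the rational root elements lies in the Borel subgroup. -/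
theorem mem_borel_of_good {e : GL D.Idx F} (he : e ∈ D.group F) (hc : ∀ r, Good C σ r → Commute e r) :
    e ∈ D.borelSubgroup F := by
  obtain ⟨w, hw, b, hb, c0, hc0, rfl⟩ := bruhat_normal C K he
  by_cases hneg : ∃ α < D.rank, 2 * wperm T w (T.simp' α) < D.nroots
  · exfalso
    obtain ⟨α, hα, hn⟩ := hneg
    have hev := nroots_even C
    have hsα := C.spec.simp_lt α hα
    have hαJ := inRootSub_simple C hα (Set.mem_singleton α)
    have hnorm : ∀ (t : F) (v : GL D.Idx F), v ∈ D.unipotentRadical F {α} →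
        xg C (T.simp' α) t * v * (xg C (T.simp' α) t)⁻¹ ∈ D.unipotentRadical F {α} := fun t v hv =>
      (Subgroup.mem_normalizer_iff.1 (levi_le_normalizer C K _ (xg_mem_levi C hαJ t)) v).1 hv
    obtain ⟨v, hv, c, hc', hP⟩ := exists_test C K hB σ hα
    have hP' := hP _ hc
    have hcp : c0 ∈ D.posUnipotent F := (posUnipotent_eq C (F := F)) ▸ signPart_le_upper C K w true _ hc0
    obtain ⟨v0, hv0, t0, rfl⟩ := pos_decomp C K hα hcp
    set P' := (v0 * xg C (T.simp' α) t0) * (v * xg C (T.simp' α) c) * (v0 * xg C (T.simp' α) t0)⁻¹ with hP'def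
    set v' := v0 * (xg C (T.simp' α) t0 * v * (xg C (T.simp' α) t0)⁻¹) *
      (xg C (T.simp' α) c * v0⁻¹ * (xg C (T.simp' α) c)⁻¹) with hv'def
    have hv' : v' ∈ D.unipotentRadical F {α} :=
      mul_mem (mul_mem hv0 (hnorm _ _ hv)) (hnorm _ _ (inv_mem hv0))
    have eP : P' = v' * xg C (T.simp' α) c := by
      rw [hP'def, hv'def]
      have : Commute (xg C (T.simp' α) c) (xg C (T.simp' α) t0) := show _ = _ by rw [xg_add, xg_add, add_comm]
      calc _ = v0 * (xg C (T.simp' α) t0 * v) * (xg C (T.simp' α) c * (xg C (T.simp' α) t0)⁻¹) * v0⁻¹ := by group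
        _ = _ := by rw [this.inv_right.eq]; group
    have hPpos : P' ∈ upper C F (D.nroots / 2) := by
      rw [← posUnipotent_eq C, eP]
      exact mul_mem (radical_le_pos C _ hv') (xg_mem_pos C hsα (K.simple_pos hα) c)
    obtain ⟨a, ha, c', hc'', eac⟩ := upper_split C K w (D.nroots / 2) (k := D.nroots / 2) (by omega) (by omega) hPpos
    have haB : wnu C F w * a * (wnu C F w)⁻¹ ∈ D.borelSubgroup F :=
      Subgroup.mem_sup_left ((signPart_conj C K hw).2 ha)
    have hPB : v * xg C (T.simp' α) c ∈ D.borelSubgroup F :=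
      Subgroup.mem_sup_left (mul_mem (radical_le_pos C _ hv) (xg_mem_pos C hsα (K.simple_pos hα) c))
    have e1 : b * (wnu C F w * a * (wnu C F w)⁻¹) * wnu C F w * c' = v * xg C (T.simp' α) c * b * wnu C F w * 1 := by
      calc _ = b * wnu C F w * (a * c') := by group
        _ = b * wnu C F w * (v0 * xg C (T.simp' α) t0) * (v * xg C (T.simp' α) c) *
              (v0 * xg C (T.simp' α) t0)⁻¹ := by rw [← eac, hP'def]; group
        _ = v * xg C (T.simp' α) c * (b * wnu C F w * (v0 * xg C (T.simp' α) t0)) *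
              (v0 * xg C (T.simp' α) t0)⁻¹ := by rw [hP'.eq]
        _ = _ := by group
    obtain ⟨-, hc1⟩ := cell_unique C (mul_mem hb haB) (mul_mem hPB hb) (by
      rw [one_mul]
      exact (signPart_conj C K hw).1 (inv_mem hc'')) e1
    rw [hc1, mul_one] at eac
    have haR : a ∈ D.unipotentRadical F {α} := by
      suffices h : signPart C K F w false (D.nroots / 2) ≤ D.unipotentRadical F {α} from h ha
      refine (Subgroup.closure_le _).2 ?_
      rintro x ⟨r, t, h1, h2, h3, rfl⟩
      refine xg_mem_radical C h2 (by omega) (fun hJ => ?_) t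
      rw [inRootSub_singleton C K hα hJ (by omega)] at h3
      have := of_decide_eq_false h3
      exact this hn
    have hx : xg C (T.simp' α) c ∈ D.unipotentRadical F {α} ⊓ D.leviSubgroup F {α} := by
      refine ⟨?_, xg_mem_levi C hαJ c⟩
      have := mul_mem (inv_mem hv') (eac ▸ haR : P' ∈ D.unipotentRadical F {α})
      rwa [eP, inv_mul_cancel_left] at this
    rw [radical_inf_levi C K, Subgroup.mem_bot] at hx
    exact hc' (xg_eq_one C hsα hx)
  · push Not at hneg
    exact mul_mem (mul_mem hb (Subgroup.mem_sup_right (word_kernel C K _ rfl hw hneg)))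
      (signPart_le_borel C K w true hc0)

theorem diag_of_good {e : GL D.Idx F} (he : e ∈ D.group F) (hc : ∀ r, Good C σ r → Commute e r) :
    e ∈ D.diagonalSubgroup F := by
  obtain ⟨w, hw, hl⟩ := exists_long C K
  have hev := nroots_even C
  have hn := wnu_mem_fixedRoots C σ w
  have hB' : wnu C F w * e * (wnu C F w)⁻¹ ∈ D.borelSubgroup F := by
    refine mem_borel_of_good C K hB σ (mul_mem (mul_mem (wnu_mem_group C hw) he) (inv_mem (wnu_mem_group C hw)))
      fun r hr => ?_
    have := (hc _ (hr.conj C σ (inv_mem hn))).map (MulAut.conj (wnu C F w)).toMonoidHom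
    simpa [MulAut.conj_apply, mul_assoc] using this
  obtain ⟨u, hu, d, hd, e'⟩ := (mem_borel C).1 (mem_borel_of_good C K hB σ he hc)
  have hmap : wnu C F w * u * (wnu C F w)⁻¹ ∈ D.negUnipotent F := by
    have : u ∈ signPart C K F w true (D.nroots / 2) := by
      rw [posUnipotent_eq C] at hu
      suffices h : upper C F (D.nroots / 2) ≤ signPart C K F w true (D.nroots / 2) from h hu
      refine (Subgroup.closure_le _).2 ?_
      rintro x ⟨r, t, h1, h2, rfl⟩
      exact xg_mem_signPart C K h1 h2 (by simp [hl r h2 (by omega)]) t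
    exact (signPart_conj C K hw).1 this
  have hd' := (conj_mem_diag C (F := F) (wnu_mem C hw) hd).1
  have hu1 : wnu C F w * u * (wnu C F w)⁻¹ = 1 := (Subgroup.eq_bot_iff_forall _).1 (borel_inf_neg C) _ ⟨by
    have : wnu C F w * u * (wnu C F w)⁻¹ = wnu C F w * e * (wnu C F w)⁻¹ * (wnu C F w * d * (wnu C F w)⁻¹)⁻¹ := by
      rw [e']; group
    rw [this]
    exact Subgroup.mul_mem _ hB' (Subgroup.inv_mem _ (Subgroup.mem_sup_right hd')), hmap⟩
  obtain rfl : u = 1 := by simpa using hu1
  rw [e', one_mul]; exact hd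

theorem eq_one_of_good {e : GL D.Idx F} (he : e ∈ D.group F) (hc : ∀ r, Good C σ r → Commute e r) : e = 1 := by
  refine diag_eq_one_of_comm C (diag_of_good C K hB σ he hc) fun r hr => ?_
  refine C.root_induction (P := fun r => ∀ e : GL D.Idx F, e ∈ D.diagonalSubgroup F →
    (∀ x, Good C σ x → Commute e x) → Commute e (xg C r (1 : F))) ?_ ?_ r hr e
    (diag_of_good C K hB σ he hc) hc
  · intro α hα e hd hc
    have hsα := C.spec.simp_lt α hα
    obtain ⟨v, hv, c, hc0, hP⟩ := exists_test C K hB σ hα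
    obtain ⟨χ, hχ⟩ := diag_conj_xg C hd
    have h1 : e * v * e⁻¹ * xg C (T.simp' α) (χ (T.simp' α) * c) = v * xg C (T.simp' α) c := by
      rw [← (hχ _ hsα).2]
      calc _ = e * (v * xg C (T.simp' α) c) * e⁻¹ := by group
        _ = _ := by rw [(hP e hc).eq, mul_inv_cancel_right]
    have h2 : xg C (T.simp' α) (χ (T.simp' α) * c + -c) ∈
        D.unipotentRadical F {α} ⊓ D.leviSubgroup F {α} := by
      refine Subgroup.mem_inf.2 ⟨?_, xg_mem_levi C (inRootSub_simple C hα (Set.mem_singleton α)) _⟩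
      have : xg C (T.simp' α) (χ (T.simp' α) * c + -c) = (e * v * e⁻¹)⁻¹ * v := by
        rw [← xg_add, ← xg_inv, eq_inv_mul_iff_mul_eq, ← mul_assoc, h1, mul_inv_cancel_right]
      rw [this]
      exact mul_mem (inv_mem (diag_conj_radical C K hd hv)) hv
    rw [radical_inf_levi C K, Subgroup.mem_bot] at h2
    have h3 : χ (T.simp' α) = 1 :=
      mul_right_cancel₀ hc0 (by linear_combination xg_eq_one C hsα h2)
    have h4 := (hχ _ hsα).2 (1 : F)
    rw [h3, mul_one] at h4
    exact mul_inv_eq_iff_eq_mul.1 h4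
  · intro i hi r hr ih e hd hc
    have hn : (nu C i : GL D.Idx F) ∈ fixedRoots C σ := ng_mem_fixedRoots C σ (map_one σ)
    have hd' := (conj_mem_diag C (F := F) (nu_mem C i hi) hd).2
    have h1 := ih _ hd' (fun x hx => by
      have := (hc _ (hx.conj C σ hn)).map (MulAut.conj (nu C i : GL D.Idx F)⁻¹).toMonoidHom
      simpa [MulAut.conj_apply, mul_assoc] using this)
    have h2 := h1.map (MulAut.conj (nu C i : GL D.Idx F)).toMonoidHom
    have e2 := nu_conj_xg C (F := F) hi hr 1
    have h3 : Commute e (xg C (T.refl' i r) ((T.eta' i r : ℤ) : F)) := by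
      rw [mul_one] at e2
      rw [← e2]
      simpa [MulAut.conj_apply, mul_assoc] using h2
    rcases eta_cases T i r with h | h <;> rw [h] at h3
    · simpa using h3
    · rw [Int.cast_neg, Int.cast_one, ← xg_inv] at h3
      exact Commute.inv_right_iff.1 h3

include hO hR

/-- An element of the finite group mapping one rational root element to another is fixed. -/
theorem fixed_of_good {g r : GL D.Idx F} (hg : g ∈ H) (hr : Good C σ r) (hgr : Good C σ (g * r * g⁻¹)) :
    Matrix.GeneralLinearGroup.map σ g = g := by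
  have hall : ∀ r', Good C σ r' → Good C σ (g * r' * g⁻¹) := fun r' hr' =>
    (rel_good C K hB σ hO hR hr' g hg).1 ((rel_good C K hB σ hO hR hr g hg).2 hgr)
  have hgG := hO.le hg
  have h := eq_one_of_good C K hB σ (mul_mem (inv_mem hgG) (map_group_le C σ hgG)) fun x hx => by
    have e := map_fixedRoots C σ (hall x hx).mem
    rw [map_mul, map_mul, map_inv, map_fixedRoots C σ hx.mem] at e
    show _ = _
    symm
    calc x * (g⁻¹ * Matrix.GeneralLinearGroup.map σ g)
        = g⁻¹ * (g * x * g⁻¹) * Matrix.GeneralLinearGroup.map σ g := by group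
      _ = _ := by rw [← e]; group
  exact (inv_mul_eq_one.1 h).symm

/-- If all root elements of the finite group are rational, so is the group. -/
theorem fixed_of_all (h : ∀ y ∈ H, IsLR C L y → Good C σ y) {g : GL D.Idx F} (hg : g ∈ H) :
    Matrix.GeneralLinearGroup.map σ g = g := by
  have hx := good_top C σ (map_one σ) (one_ne_zero (α := F))
  exact fixed_of_good C K hB σ hO hR hg hx (h _ (mul_mem (mul_mem hg (hO.fixed hx.mem)) (inv_mem hg))
    ((hx.isLR C K hB σ hO.pos).conj C K hB hO.pos (hO.le hg)))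

end Cfsg.Lib.Chev.Ovg
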