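import Mathlib
import Cfsg.Agent.Lib.Chev.Overgroup.Rel
import Cfsg.Agent.Lib.Linear.DicksonTwo

/-!
The group generated by a rational and a non-rational opposite root element.
-/

set_option autoImplicit false
set_option linter.unusedSectionVars false
set_option linter.unusedVariables false

namespace Cfsg.Lib.Chev.Ovg

open Cfsg.Lie
open scoped MatrixGroups

section Abstract

theorem conj_pow_involution {G : Type*} [Group G] {a b : G} (ha : a * a = 1) (hb : b * b = 1) {m : ℕ}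
    (h : (a * b) ^ (2 * m + 1) = 1) : (a * b) ^ m * a * ((a * b) ^ m)⁻¹ = b := by
  have hP : a * (a * b) * a⁻¹ = (a * b)⁻¹ := by
    rw [mul_inv_rev, inv_eq_of_mul_eq_one_right ha, inv_eq_of_mul_eq_one_right hb, ← mul_assoc, ha, one_mul]
  have h1 : (a * b)⁻¹ ^ m = a * (a * b) ^ m * a⁻¹ := by rw [← hP, conj_pow]
  have h2 : (a * b) ^ (2 * m) = (a * b)⁻¹ := by
    rw [pow_succ] at h; exact eq_inv_of_mul_eq_one_left h
  calc (a * b) ^ m * a * ((a * b) ^ m)⁻¹ = (a * b) ^ m * (a * (a * b)⁻¹ ^ m * a⁻¹) * a := by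
        rw [inv_pow]; group
    _ = (a * b) ^ m * (a * b) ^ m * a := by
        rw [h1, inv_eq_of_mul_eq_one_right ha]
        simp only [mul_assoc, ha, mul_one]
        rw [← mul_assoc a a, ha, one_mul]
    _ = _ := by
        rw [← pow_add, ← two_mul, h2, mul_inv_rev, inv_eq_of_mul_eq_one_right ha, inv_eq_of_mul_eq_one_right hb,
          mul_assoc, ha, mul_one]

variable {F : Type*} [Field F]

open Cfsg.Lib.Linear.Dickson in
/-- In characteristic two two opposite root elements generate an element of odd order. -/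
theorem odd_order_upr_lwr [CharP F 2] {a b : F} (ha : a ≠ 0) (hb : b ≠ 0)
    (hf : IsOfFinOrder (SLTwoRel.upr a * SLTwoRel.lwr b)) :
    ∃ m : ℕ, (SLTwoRel.upr a * SLTwoRel.lwr b) ^ (2 * m + 1) = 1 := by
  set x := SLTwoRel.upr a * SLTwoRel.lwr b with hx
  have htr : tr2 x = a * b := by
    simp only [hx, tr2, mul_apply']
    simp [SLTwoRel.upr, SLTwoRel.lwr]
    linear_combination (CharTwo.add_self_eq_zero (1 : F))
  rcases Nat.even_or_odd (orderOf x) with ⟨k, hk⟩ | ⟨m, hm⟩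
  · exfalso
    have hpos := hf.orderOf_pos
    set z := x ^ k with hzdef
    have hzz : z * z = 1 := by rw [hzdef, ← pow_add, ← hk, pow_orderOf_eq_one]
    have hz1 : z ≠ 1 := fun e => by
      have := orderOf_le_of_pow_eq_one (by omega : 0 < k) e
      omega
    obtain ⟨c00, c01, c10, c11⟩ := sq_entries z
    rw [hzz] at c00 c01 c10 c11
    simp at c00 c01 c10 c11
    have hc : z ∉ Subgroup.center SL(2, F) := fun hmem => by
      obtain ⟨h01, h10, h⟩ := isScalar_of_mem_center hmem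
      have hd := det_eq z
      rw [h01, h10, ← h] at hd
      have h00 : z 0 0 = 1 := by
        have : (z 0 0 - 1) * (z 0 0 - 1) = 0 := by
          linear_combination hd + (1 - z 0 0) * (CharTwo.add_self_eq_zero (1 : F))
        simpa [sub_eq_zero] using this
      exact hz1 (ext_two (by simp [h00]) (by simp [h01]) (by simp [h10]) (by simp [← h, h00]))
    have ht : tr2 z = 0 := by
      by_contra ht
      exact hc (mem_center_of_scalar (c01.resolve_left ht) (c10.resolve_left ht)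
        (mul_left_cancel₀ ht (by linear_combination c11 - c00)))
    obtain ⟨r, s, h00, -, -, h11⟩ := exists_param hc ((Commute.refl x).pow_right k)
    refine mul_ne_zero ha hb ?_
    rw [← htr]
    simp only [tr2] at ht ⊢
    linear_combination h00 + h11 + s * ht + r * (CharTwo.add_self_eq_zero (1 : F))
  · exact ⟨m, by rw [← hm, pow_orderOf_eq_one]⟩

end Abstract

variable {D : ChevalleyDatum} {T : Tbl} {F : Type*} [Field F] (C : Cert D T) (K : FullCert D T) {L : ℕ}
  (hB : chkBase T L = true) (σ : F →+* F) {H : Subgroup (GL D.Idx F)}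
include C K hB

theorem map_qup {k : ℕ} {x : GL D.Idx F} (hx : x ∈ qup C F k) :
    Matrix.GeneralLinearGroup.map σ x ∈ qup C F k := by
  suffices h : qup C F k ≤ (qup C F k).comap (Matrix.GeneralLinearGroup.map (n := D.Idx) σ) from h hx
  refine (Subgroup.closure_le _).2 ?_
  rintro y ⟨r, t, hr, h1, hk, rfl⟩
  show Matrix.GeneralLinearGroup.map σ (xg C r t) ∈ qup C F k
  rw [map_xg]
  exact xg_mem_qup C hr h1 hk _

theorem pos_zero_comm (hn : 0 < D.nroots) {r : ℕ} (hr : r < D.nroots) (hp : D.nroots ≤ 2 * r) (h0 : pr T r = 0) :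
    cm T r (D.nroots - 1) = true ∧ cm T r (T.neg (D.nroots - 1)) = true := by
  have hθ : D.nroots - 1 < D.nroots := by omega
  have h2 := top_pr C K hB hn
  have h2' : pr T (T.neg (D.nroots - 1)) = -2 := by rw [pr_neg C hθ, h2]
  have hf := fun'_pos C hr hp
  have hθn := C.spec.neg_lt _ hθ
  have key : ∀ s, s < D.nroots → (pr T s = 2 ∨ pr T s = -2) → cm T r s = true := by
    intro s hs hs2
    have e1 : s ≠ T.neg r := fun e => by
      have := pr_neg C (T := T) hr
      rw [← e, h0] at this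
      omega
    by_contra hcm
    simp only [cm, Bool.or_eq_true, Bool.and_eq_true, Bool.not_eq_true', ← Bool.not_eq_true, Nat.beq_eq,
      List.isEmpty_iff] at hcm
    push Not at hcm
    obtain ⟨c, hc⟩ := List.exists_mem_of_ne_nil _ (hcm.2 e1)
    obtain ⟨c1, c2, c3, c4, c5⟩ := pr_term C K hB hr hs hc
    obtain ⟨hl, hu, htop, hbot, -⟩ := (base C K hB _ c1).1
    obtain ⟨-, -, htop', hbot', -⟩ := (base C K hB s hs).1
    rw [h0, mul_zero, zero_add] at c4
    have hc1 : (c.2.2.2 : ℤ) = 1 := by rcases hs2 with h | h <;> rw [h] at c4 <;> omega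
    rw [hc1, one_mul] at c4 c5
    have hcs : c.1 = s := by
      rcases hs2 with h | h
      · rw [htop (by omega), htop' h]
      · rw [hbot (by omega), hbot' h]
    rw [hcs] at c5
    have : (c.2.2.1 : ℤ) * fun' C r = 0 := by omega
    rcases mul_eq_zero.1 this with h | h <;> omega
  exact ⟨key _ hθ (Or.inl h2), key _ hθn (Or.inr h2')⟩

/-- A positive unipotent element is a Heisenberg element times one commuting with the two extreme root groups. -/
theorem pos_split (hn : 0 < D.nroots) {u : GL D.Idx F} (hu : u ∈ D.posUnipotent F) :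
    ∃ q ∈ qup C F 0, ∃ m ∈ D.posUnipotent F,
      (∀ t, Commute m (xg C (T.neg (D.nroots - 1)) t)) ∧ u = q * m := by
  induction hu using Subgroup.closure_induction with
  | mem g hg =>
    obtain ⟨r, t, hr, e⟩ := hg
    rw [eq_xg C e]
    have hp := (C.isPos_iff hr.1).1 hr
    by_cases h1 : 1 ≤ pr T r
    · exact ⟨_, xg_mem_qup C hr.1 h1 (Nat.zero_le _) t, 1, one_mem _, fun _ => Commute.one_left _,
        (mul_one _).symm⟩
    · have h0 : pr T r = 0 := by
        have := (base C K hB r hr.1).1.2.2.2.2.2 hp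
        omega
      refine ⟨1, one_mem _, _, xg_mem_pos C hr.1 hp t, fun s => ?_, (one_mul _).symm⟩
      exact cm_commute C K hr.1 (C.spec.neg_lt _ (by omega)) (pos_zero_comm C K hB hn hr.1 hp h0).2 t s
  | one => exact ⟨1, one_mem _, 1, one_mem _, fun _ => Commute.one_left _, (one_mul _).symm⟩
  | mul a b _ _ iha ihb =>
    obtain ⟨q, hq, m, hm, hmc, rfl⟩ := iha
    obtain ⟨q', hq', m', hm', hmc', rfl⟩ := ihb
    exact ⟨q * (m * q' * m⁻¹), mul_mem hq (conj_qup C K hB hm hq'), m * m', mul_mem hm hm',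
      fun s => (hmc s).mul_left (hmc' s), by group⟩
  | inv a _ iha =>
    obtain ⟨q, hq, m, hm, hmc, rfl⟩ := iha
    exact ⟨m⁻¹ * q⁻¹ * m⁻¹⁻¹, conj_qup C K hB (inv_mem hm) (inv_mem hq), m⁻¹, inv_mem hm,
      fun s => (hmc s).inv_left, by group⟩

theorem ng_not_pos (hn : 0 < D.nroots) {v : F} (hv : v ≠ 0) : ng C (D.nroots - 1) v ∉ D.posUnipotent F := fun h => by
  have hθ : D.nroots - 1 < D.nroots := by omega
  have e := ng_conj_xg C hθ hv (1 : F)
  rw [(top_comm C K hn h (1 : F)).eq, mul_inv_cancel_right] at e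
  exact C.spec.neg_ne _ hθ (xg_index C hθ (C.spec.neg_lt _ hθ) one_ne_zero e).symm

/-- The root `SL₂` of the highest root. -/
noncomputable def psi (hn : 0 < D.nroots) : SL(2, F) →* GL D.Idx F :=
  (rootRel C (F := F) (Nat.sub_lt hn Nat.one_pos)).hom

theorem psi_upr (hn : 0 < D.nroots) (b : F) :
    psi C hn (SLTwoRel.upr b) = xg C (D.nroots - 1) b :=
  (rootRel C (F := F) (Nat.sub_lt hn Nat.one_pos)).toFun'_upr b

theorem psi_lwr (hn : 0 < D.nroots) (b : F) :
    psi C hn (SLTwoRel.lwr b) = xg C (T.neg (D.nroots - 1)) b :=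
  (rootRel C (F := F) (Nat.sub_lt hn Nat.one_pos)).toFun'_lwr b

theorem psi_low {A : SL(2, F)} (hn : 0 < D.nroots) (h : psi C hn A ∈ D.posUnipotent F) : A.1 1 0 = 0 := by
  classical
  by_contra hc
  have hθ : D.nroots - 1 < D.nroots := by omega
  change (rootRel C (F := F) (Nat.sub_lt hn Nat.one_pos)).toFun' A ∈ _ at h
  simp only [SLTwoRel.toFun', if_neg hc] at h
  change xg C _ _ * ng C _ _ * xg C _ _ ∈ _ at h
  have hp : ∀ t : F, xg C (D.nroots - 1) t ∈ D.posUnipotent F := fun t => by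
    have := nroots_even C
    exact xg_mem_pos C hθ (by omega) t
  refine ng_not_pos C K hB hn (neg_ne_zero.2 (inv_ne_zero hc)) ?_
  rwa [Subgroup.mul_mem_cancel_right _ (hp _), Subgroup.mul_mem_cancel_left _ (hp _)] at h

theorem psi_tri {A : SL(2, F)} (hn : 0 < D.nroots) (h : A.1 1 0 = 0) :
    A.1 0 0 ≠ 0 ∧ psi C hn A = xg C (D.nroots - 1) (A.1 0 0 * A.1 0 1) * hg C (D.nroots - 1) (A.1 0 0) := by
  classical
  refine ⟨fun e => ?_, ?_⟩
  · have := A.2
    rw [Matrix.det_fin_two, e, h] at this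
    simp at this
  · change (rootRel C (F := F) (Nat.sub_lt hn Nat.one_pos)).toFun' A = _
    simp only [SLTwoRel.toFun', if_pos h]
    rfl

theorem hg_top_conj (hn : 0 < D.nroots) {s : ℕ} (hs : s < D.nroots) {v : F} (hv : v ≠ 0) (t : F) :
    hg C (D.nroots - 1) v * xg C s t * (hg C (D.nroots - 1) v)⁻¹ = xg C s (v ^ pr T s * t) := by
  rw [hg_conj C (by omega) hs hv, pr, C.spec.shape.nroots_eq]

theorem psi_injective (hn : 0 < D.nroots) {ρ : ℕ} (hρ : ρ < D.nroots) (hρ1 : pr T ρ = 1) :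
    Function.Injective (psi C (F := F) hn) := by
  refine (injective_iff_map_eq_one _).2 fun A hA => ?_
  have h10 := psi_low C K hB hn (A := A) (hA ▸ one_mem _)
  obtain ⟨h00, e⟩ := psi_tri C K hB hn h10
  rw [hA] at e
  set a := A.1 0 0
  have hρp := (base C K hB ρ hρ).1.2.2.2.2.1 (by omega)
  have h1 : hg C (D.nroots - 1) a = xg C (D.nroots - 1) (-(a * A.1 0 1)) := by
    rw [← xg_inv]; exact eq_inv_of_mul_eq_one_right e.symm
  have h2 := hg_top_conj C K hB hn hρ h00 (1 : F)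
  rw [hρ1, zpow_one, mul_one, h1, (top_comm C K hn (xg_mem_pos C hρ hρp 1) _).symm.eq, mul_inv_cancel_right] at h2
  have ha : a = 1 := (xg_injective C hρ h2).symm
  rw [ha, one_mul] at h1
  have hg1 : hg C (D.nroots - 1) (1 : F) = 1 := by
    rw [hg, ← ng_inv C (by omega : D.nroots - 1 < D.nroots) one_ne_zero, mul_inv_cancel]
  rw [hg1] at h1
  have hb := xg_eq_one C (by omega : D.nroots - 1 < D.nroots) h1.symm
  rw [neg_eq_zero] at hb
  have hd := A.2
  rw [Matrix.det_fin_two, h10, mul_zero, sub_zero, show A.1 0 0 = 1 from ha, one_mul] at hd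
  refine Subtype.ext ?_
  ext i j
  fin_cases i <;> fin_cases j
  · simpa using ha
  · simpa using hb
  · simpa using h10
  · simpa using hd

variable (hO : Over C σ H) (hR : Rat C L σ H)
include hO hR

/-- The part of the root `SL₂` carried by `q` into the finite group. -/
noncomputable def part (H : Subgroup (GL D.Idx F)) (hn : 0 < D.nroots) (q : GL D.Idx F) : Subgroup SL(2, F) :=
  H.comap ((MulAut.conj q).toMonoidHom.comp (psi C hn))

theorem part_finite {ρ : ℕ} (hρ : ρ < D.nroots) (hρ1 : pr T ρ = 1) (q : GL D.Idx F) :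
    Finite (part C H hO.pos q) := by
  haveI := hO.fin
  refine Finite.of_injective
    (fun x : part C H hO.pos q => (⟨_, x.2⟩ : H)) fun a b h => Subtype.ext ?_
  have e := congrArg Subtype.val h
  exact psi_injective C K hB hO.pos hρ hρ1 ((MulAut.conj q).injective e)

/-- A root element that is not rational has the lowest position, with a Heisenberg parameter. -/
theorem not_good_form {y : GL D.Idx F} (hy : y ∈ H) (hyL : IsLR C L y) (hng : ¬ Good C σ y) :
    ∃ q ∈ qup C F 0, ∃ ν : F, ν ≠ 0 ∧ y = q * xg C (T.neg (D.nroots - 1)) ν * q⁻¹ := by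
  obtain ⟨g, hg, hgl, hy'⟩ := hyL
  have he : g = T.neg (D.nroots - 1) := by
    by_contra hne
    exact hng (hR g hg hgl hne y hy hy')
  subst he
  obtain ⟨u, hu, ν, hν, rfl⟩ := hy'
  obtain ⟨q, hq, m, hm, hmc, rfl⟩ := pos_split C K hB hO.pos hu
  refine ⟨q, hq, ν, hν, ?_⟩
  calc q * m * xg C (T.neg (D.nroots - 1)) ν * (q * m)⁻¹
      = q * (m * xg C (T.neg (D.nroots - 1)) ν * m⁻¹) * q⁻¹ := by group
    _ = _ := by rw [(hmc ν).eq, mul_inv_cancel_right]

variable {p : ℕ} [Fact p.Prime] [CharP F p]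
include p

open Cfsg.Lib.Linear.Dickson in
/-- In odd characteristic the parameter of a non-rational root element is rational modulo the centre. -/
theorem odd_param (hp2 : p ≠ 2) {ρ : ℕ} (hρ : ρ < D.nroots) (hρ1 : pr T ρ = 1) {q : GL D.Idx F}
    (hq : q ∈ qup C F 0) {ν : F} (hν : ν ≠ 0) (hy : q * xg C (T.neg (D.nroots - 1)) ν * q⁻¹ ∈ H) :
    ∃ q₀ ∈ fixedRoots C σ, ∃ c : F, q = q₀ * xg C (D.nroots - 1) c := by
  have hn := hO.pos
  have hθ : D.nroots - 1 < D.nroots := by omega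
  haveI := part_finite C K hB σ hO hR hρ hρ1 q
  set P := part C H hn q with hPdef
  have hqp := qup_le_pos C K hB 0 hq
  have hu1 : SLTwoRel.upr (1 : F) ∈ P := by
    show q * psi C hn (SLTwoRel.upr 1) * q⁻¹ ∈ H
    rw [psi_upr C K hB hn, (top_comm C K hn hqp (1 : F)).eq, mul_inv_cancel_right]
    exact hO.fixed (xg_mem_fixedRoots C σ (map_one σ))
  have hl1 : SLTwoRel.lwr ν ∈ P := by
    show q * psi C hn (SLTwoRel.lwr ν) * q⁻¹ ∈ H
    rwa [psi_lwr C K hB hn]
  have hup : ∀ b : F, SLTwoRel.upr b ^ p ^ 1 = 1 := fun b => by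
    rw [pow_one, show SLTwoRel.upr b = tU b from rfl, tU_pow, CharP.cast_eq_zero, zero_mul, tU_zero]
  have hlp : ∀ b : F, SLTwoRel.lwr b ^ p ^ 1 = 1 := fun b => by
    rw [pow_one, show SLTwoRel.lwr b = tL b from rfl, tL_pow, CharP.cast_eq_zero, zero_mul, tL_zero]
  have hne : ¬ Commute (SLTwoRel.upr (1 : F)) (SLTwoRel.lwr ν) := fun h => by
    have h' := congrArg (fun x : SL(2, F) => x 0 0) h.eq
    simp only [mul_apply'] at h'
    simp [SLTwoRel.upr, SLTwoRel.lwr] at h'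
    exact hν h'
  obtain ⟨g, hg'⟩ := exists_SL2_map_le (p := p) hp2 P hu1 hl1 (hup 1) (hlp ν) hne
  set N : SL(2, F) := ⟨-1, by simp [Matrix.det_fin_two]⟩ with hN
  have hNP : N ∈ P := by
    have h := hg' ⟨-1, by simp [Matrix.det_fin_two]⟩
    have e : conjGL g (Matrix.SpecialLinearGroup.map (ZMod.castHom (dvd_refl p) F) ⟨-1, by simp [Matrix.det_fin_two]⟩) = N := by
      refine Subtype.ext ?_
      rw [conjGL_coe]
      have : ((Matrix.SpecialLinearGroup.map (ZMod.castHom (dvd_refl p) F)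
          (⟨-1, by simp [Matrix.det_fin_two]⟩ : SL(2, ZMod p)) : SL(2, F)) : Matrix (Fin 2) (Fin 2) F) = -1 := by
        show (ZMod.castHom (dvd_refl p) F).mapMatrix (-1 : Matrix (Fin 2) (Fin 2) (ZMod p)) = -1
        rw [map_neg, map_one]
      rw [this]
      simp [hN]
    rwa [e] at h
  set h := hg C (D.nroots - 1) (-1 : F) with hh
  have hψN : psi C hn N = h := by
    obtain ⟨-, e⟩ := psi_tri C K hB hn (A := N) (by simp [hN])
    rw [e]
    simp [hN, hh, xg_zero]
  have hs : q * h * q⁻¹ ∈ H := by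
    have : q * psi C hn N * q⁻¹ ∈ H := hNP
    rwa [hψN] at this
  have hgood := good_top C σ (t := (1 : F)) (map_one σ) one_ne_zero
  have hsx : q * h * q⁻¹ * xg C (D.nroots - 1) (1 : F) * (q * h * q⁻¹)⁻¹ = xg C (D.nroots - 1) (1 : F) := by
    calc _ = q * (h * (q⁻¹ * xg C (D.nroots - 1) (1 : F) * q) * h⁻¹) * q⁻¹ := by group
      _ = q * xg C (D.nroots - 1) (1 : F) * q⁻¹ := by
        rw [((top_comm C K hn hqp (1 : F)).inv_left).eq, inv_mul_cancel_right, hh,
          hg_top_conj C K hB hn hθ (neg_ne_zero.2 one_ne_zero), top_pr C K hB hn]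
        simp
      _ = _ := by rw [(top_comm C K hn hqp (1 : F)).eq, mul_inv_cancel_right]
  have hfix := fixed_of_good C K hB σ hO hR hs hgood (by rw [hsx]; exact hgood)
  set q' := Matrix.GeneralLinearGroup.map σ q with hq'
  have hq'm : q' ∈ qup C F 0 := map_qup C K hB σ hq
  rw [map_mul, map_mul, map_inv, hh, map_hg, map_neg, map_one, ← hh, ← hq'] at hfix
  have hcomm : Commute (q'⁻¹ * q) h := by
    show _ = _
    calc q'⁻¹ * q * h = q'⁻¹ * (q * h * q⁻¹) * q := by group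
      _ = _ := by rw [← hfix]; group
  have h2 : (2 : F) ≠ 0 := two_ne_zero' hp2
  have strip : ∀ (N : ℕ) (k : ℕ) (e : GL D.Idx F), D.nroots - 1 - k = N → e ∈ qup C F k → Commute e h →
      ∃ c, e = xg C (D.nroots - 1) c := by
    intro N
    induction N using Nat.strong_induction_on with
    | _ N ih =>
      intro k e hN he hc
      by_cases hk : D.nroots - 1 ≤ k
      · exact qup_top C K hB (qup_anti C hk he)
      obtain ⟨t, b, hb, ht, rfl⟩ := qup_step C K hB he
      by_cases hk1 : 1 ≤ pr T k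
      · obtain ⟨-, hk2, hk3, -, hk5, -⟩ := (base C K hB k (by omega)).1
        have hprk : pr T k = 1 := by
          by_contra hne
          have := hk3 (by omega)
          omega
        have e1 : xg C k (-t) * (h * b * h⁻¹) = xg C k t * b := by
          have := hc.symm.eq
          calc _ = h * xg C k t * h⁻¹ * (h * b * h⁻¹) := by
                rw [hh, hg_top_conj C K hB hn (by omega) (neg_ne_zero.2 one_ne_zero), hprk]; simp
            _ = h * (xg C k t * b) * h⁻¹ := by group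
            _ = _ := by rw [this, mul_inv_cancel_right]
        obtain ⟨h4, h5⟩ := upper_unique C (hk5 hk1) (by omega)
          (qup_le_upper C _ (diag_normalizes_qup C K hB (hg_mem C hθ (neg_ne_zero.2 one_ne_zero)) hb))
          (qup_le_upper C _ hb) e1
        have ht0 : t = 0 := mul_left_cancel₀ h2 (by linear_combination -h4)
        rw [ht0, xg_zero, one_mul] at hc ⊢
        exact ih _ (by omega) (k + 1) b rfl hb hc
      · rw [ht (by omega), xg_zero, one_mul] at hc ⊢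
        exact ih _ (by omega) (k + 1) b rfl hb hc
  obtain ⟨c1, hc1⟩ := strip _ 0 _ rfl (mul_mem (inv_mem hq'm) hq) hcomm
  have split : ∀ (N : ℕ) (k : ℕ) (e : GL D.Idx F), D.nroots - 1 - k = N → e ∈ qup C F k →
      (∃ c, (Matrix.GeneralLinearGroup.map σ e) = e * xg C (D.nroots - 1) c) →
      ∃ e₀ ∈ fixedRoots C σ, ∃ c, e = e₀ * xg C (D.nroots - 1) c := by
    intro N
    induction N using Nat.strong_induction_on with
    | _ N ih =>
      intro k e hN he hce
      by_cases hk : D.nroots - 1 ≤ k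
      · obtain ⟨c, rfl⟩ := qup_top C K hB (qup_anti C hk he)
        exact ⟨1, one_mem _, c, (one_mul _).symm⟩
      obtain ⟨t, b, hb, ht, rfl⟩ := qup_step C K hB he
      obtain ⟨c, hc⟩ := hce
      by_cases hk1 : 1 ≤ pr T k
      · rw [map_mul, map_xg, mul_assoc] at hc
        obtain ⟨h4, h5⟩ := upper_unique C ((base C K hB k (by omega)).1.2.2.2.2.1 hk1) (by omega)
          (qup_le_upper C _ (map_qup C K hB σ hb))
          (mul_mem (qup_le_upper C _ hb) (xg_mem_upper C (by omega) c)) hc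
        obtain ⟨e₀, he₀, c', hc'⟩ := ih _ (by omega) (k + 1) b rfl hb ⟨c, h5⟩
        exact ⟨xg C k t * e₀, mul_mem (xg_mem_fixedRoots C σ h4) he₀, c', by rw [hc', mul_assoc]⟩
      · rw [ht (by omega), xg_zero, one_mul] at hc ⊢
        exact ih _ (by omega) (k + 1) b rfl hb ⟨c, hc⟩
  refine split _ 0 q rfl hq ⟨-c1, ?_⟩
  rw [← hq', ← xg_inv, ← hc1]
  group

omit p

/-- The rational element that scales the Heisenberg group, in characteristic two. -/
theorem even_frame [CharP F 2] {ρ : ℕ} (hρ : ρ < D.nroots) (hρ1 : pr T ρ = 1) {q : GL D.Idx F}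
    (hq : q ∈ qup C F 0) {ν : F} (hν : ν ≠ 0) (hy : q * xg C (T.neg (D.nroots - 1)) ν * q⁻¹ ∈ H)
    {M Z : Subgroup (GL D.Idx F)} {l : GL D.Idx F} (hl : l ∈ M) (hZ : Z ≤ D.posUnipotent F)
    (hM1 : ∀ (t : F), ∀ x ∈ M, xg C (D.nroots - 1) t * x * (xg C (D.nroots - 1) t)⁻¹ ∈ M ∧
      xg C (T.neg (D.nroots - 1)) t * x * (xg C (T.neg (D.nroots - 1)) t)⁻¹ ∈ M)
    (hM2 : ∀ x ∈ M, ∀ w : F, ∃ z ∈ Z, x * xg C (D.nroots - 1) w * x⁻¹ = xg C (D.nroots - 1) w * z)
    (hM3 : ∀ a b : F, ∀ z ∈ Z, xg C (D.nroots - 1) a = xg C (D.nroots - 1) b * z → a = b)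
    (hM4 : ∀ x ∈ M, ∀ z ∈ Z, x * z * x⁻¹ ∈ Z)
    (hlν : Commute l (xg C (T.neg (D.nroots - 1)) ν)) {ω : F} (hω : ω ≠ 0) {r : GL D.Idx F} (hr : Good C σ r)
    (hrl : q⁻¹ * r * q = l * xg C (D.nroots - 1) ω * l⁻¹) :
    ∃ k, Matrix.GeneralLinearGroup.map σ k = k ∧ ∃ lam ∈ M, ∃ μ : F, μ ≠ 0 ∧ μ ^ 2 = ω ∧ ∃ a : F,
      k = q * (lam * (xg C (D.nroots - 1) a * hg C (D.nroots - 1) μ)) * q⁻¹ := by
  have hn := hO.pos
  have hθ : D.nroots - 1 < D.nroots := by omega
  have hqp := qup_le_pos C K hB 0 hq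
  have sq_u : ∀ b : F, SLTwoRel.upr b * SLTwoRel.upr b = 1 := fun b => by
    rw [show SLTwoRel.upr b = Cfsg.Lib.Linear.Dickson.tU b from rfl, Cfsg.Lib.Linear.Dickson.tU_mul,
      CharTwo.add_self_eq_zero, Cfsg.Lib.Linear.Dickson.tU_zero]
  have sq_l : ∀ b : F, SLTwoRel.lwr b * SLTwoRel.lwr b = 1 := fun b => by
    rw [show SLTwoRel.lwr b = Cfsg.Lib.Linear.Dickson.tL b from rfl, Cfsg.Lib.Linear.Dickson.tL_mul,
      CharTwo.add_self_eq_zero, Cfsg.Lib.Linear.Dickson.tL_zero]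
  have mk : ∀ (g : GL D.Idx F) (w : F), w ≠ 0 → g * xg C (D.nroots - 1) w * g⁻¹ ∈ H →
      g * xg C (T.neg (D.nroots - 1)) ν * g⁻¹ ∈ H →
      ∃ B : SL(2, F), g * psi C hn B * g⁻¹ ∈ H ∧
        B * SLTwoRel.upr w * B⁻¹ = SLTwoRel.lwr ν := by
    intro g w hw h1 h2
    haveI := part_finite C K hB σ hO hR hρ hρ1 g
    have hu : SLTwoRel.upr w ∈ part C H hn g := by
      show g * psi C hn (SLTwoRel.upr w) * g⁻¹ ∈ H
      rwa [psi_upr C K hB hn]
    have hl' : SLTwoRel.lwr ν ∈ part C H hn g := by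
      show g * psi C hn (SLTwoRel.lwr ν) * g⁻¹ ∈ H
      rwa [psi_lwr C K hB hn]
    have hP := mul_mem hu hl'
    obtain ⟨m, hm⟩ := odd_order_upr_lwr hw hν (by
      have := isOfFinOrder_of_finite (⟨_, hP⟩ : part C H hn g)
      simpa using (MonoidHom.isOfFinOrder (part C H hn g).subtype this))
    exact ⟨_, pow_mem hP m, conj_pow_involution (sq_u w) (sq_l ν) hm⟩
  have e0 : q * xg C (D.nroots - 1) (1 : F) * q⁻¹ = xg C (D.nroots - 1) (1 : F) := by
    rw [(top_comm C K hn hqp (1 : F)).eq, mul_inv_cancel_right]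
  have hgood1 := good_top C σ (t := (1 : F)) (map_one σ) one_ne_zero
  obtain ⟨B1, hB1, eB1⟩ := mk q 1 one_ne_zero (e0.symm ▸ hO.fixed hgood1.mem) hy
  have er : (q * l) * xg C (D.nroots - 1) ω * (q * l)⁻¹ = r := by
    calc _ = q * (q⁻¹ * r * q) * q⁻¹ := by rw [hrl]; group
      _ = _ := by group
  have eyl : (q * l) * xg C (T.neg (D.nroots - 1)) ν * (q * l)⁻¹ = q * xg C (T.neg (D.nroots - 1)) ν * q⁻¹ := by
    calc _ = q * (l * xg C (T.neg (D.nroots - 1)) ν * l⁻¹) * q⁻¹ := by group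
      _ = _ := by rw [hlν.eq, mul_inv_cancel_right]
  obtain ⟨B2, hB2, eB2⟩ := mk (q * l) ω hω (er.symm ▸ hO.fixed hr.mem) (eyl.symm ▸ hy)
  set ψ := psi C (F := F) hn with hψ
  set k := (q * l * ψ B2 * (q * l)⁻¹)⁻¹ * (q * ψ B1 * q⁻¹) with hk
  have hkH : k ∈ H := mul_mem (inv_mem hB2) hB1
  have ex1 : q * ψ B1 * q⁻¹ * xg C (D.nroots - 1) (1 : F) * (q * ψ B1 * q⁻¹)⁻¹ =
      q * xg C (T.neg (D.nroots - 1)) ν * q⁻¹ := by
    calc _ = q * ψ B1 * (q⁻¹ * xg C (D.nroots - 1) (1 : F) * q) * (ψ B1)⁻¹ * q⁻¹ := by group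
      _ = q * ψ (B1 * SLTwoRel.upr 1 * B1⁻¹) * q⁻¹ := by
        rw [((top_comm C K hn hqp (1 : F)).inv_left).eq, inv_mul_cancel_right, map_mul, map_mul, map_inv,
          hψ, psi_upr C K hB hn]
        group
      _ = _ := by rw [eB1, hψ, psi_lwr C K hB hn]
  have ex2 : q * l * ψ B2 * (q * l)⁻¹ * r * (q * l * ψ B2 * (q * l)⁻¹)⁻¹ =
      q * xg C (T.neg (D.nroots - 1)) ν * q⁻¹ := by
    rw [← er, ← eyl]
    calc _ = q * l * (ψ B2 * xg C (D.nroots - 1) ω * (ψ B2)⁻¹) * (q * l)⁻¹ := by group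
      _ = q * l * ψ (B2 * SLTwoRel.upr ω * B2⁻¹) * (q * l)⁻¹ := by
        rw [map_mul, map_mul, map_inv, hψ, psi_upr C K hB hn]
      _ = _ := by rw [eB2, hψ, psi_lwr C K hB hn]
  have hkr : k * xg C (D.nroots - 1) (1 : F) * k⁻¹ = r := by
    calc _ = (q * l * ψ B2 * (q * l)⁻¹)⁻¹ * (q * ψ B1 * q⁻¹ * xg C (D.nroots - 1) (1 : F) *
          (q * ψ B1 * q⁻¹)⁻¹) * (q * l * ψ B2 * (q * l)⁻¹) := by rw [hk]; group
      _ = _ := by rw [ex1, ← ex2]; group
  have hkf := fixed_of_good C K hB σ hO hR hkH hgood1 (by rw [hkr]; exact hr)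
  have hnorm : ∀ A : SL(2, F), ∀ x ∈ M, ψ A * x * (ψ A)⁻¹ ∈ M := by
    intro A
    have hA : ψ A ∈ (psi C (F := F) hn).range := ⟨A, rfl⟩
    rw [psi, SLTwoRel.hom_range] at hA
    generalize ψ A = g at hA
    induction hA using Subgroup.closure_induction_left with
    | one => intro x hx; simpa using hx
    | mul_left a ha b hb ih =>
      intro x hx
      rcases ha with ⟨t, rfl⟩ | ⟨t, rfl⟩
      · simpa [mul_assoc, rootRel] using (hM1 t _ (ih x hx)).1
      · simpa [mul_assoc, rootRel] using (hM1 t _ (ih x hx)).2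
    | inv_mul_cancel a ha b hb ih =>
      intro x hx
      rcases ha with ⟨t, rfl⟩ | ⟨t, rfl⟩
      · have := (hM1 (-t) _ (ih x hx)).1
        rw [← xg_inv] at this
        simpa [mul_assoc, rootRel] using this
      · have := (hM1 (-t) _ (ih x hx)).2
        rw [← xg_inv] at this
        simpa [mul_assoc, rootRel] using this
  set A := B2⁻¹ * B1 with hA
  set lam := l * (ψ B2⁻¹ * l⁻¹ * (ψ B2⁻¹)⁻¹) with hlam
  have hlamM : lam ∈ M := mul_mem hl (hnorm _ _ (inv_mem hl))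
  have hkg : k = q * (lam * ψ A) * q⁻¹ := by
    rw [hk, hlam, hA, map_mul, map_inv]
    group
  obtain ⟨z1, hz1, e1⟩ := hM2 (lam⁻¹ * l) (mul_mem (inv_mem hlamM) hl) ω
  have hSU : ψ (A * SLTwoRel.upr 1 * A⁻¹) = xg C (D.nroots - 1) ω * z1 := by
    rw [← e1, map_mul, map_mul, map_inv, hψ, psi_upr C K hB hn, ← hψ]
    calc _ = lam⁻¹ * (q⁻¹ * (k * (q * xg C (D.nroots - 1) (1 : F) * q⁻¹) * k⁻¹) * q) * lam := by rw [hkg]; group
      _ = _ := by rw [e0, hkr, hrl]; group
  have hSpos : ψ (A * SLTwoRel.upr 1 * A⁻¹) ∈ D.posUnipotent F := by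
    rw [hSU]
    have := nroots_even C
    exact mul_mem (xg_mem_pos C hθ (by omega) _) (hZ hz1)
  have hS := psi_low C K hB hn hSpos
  have hA10 : A.1 1 0 = 0 := by
    have : (A * SLTwoRel.upr 1 * A⁻¹).1 1 0 = -(A.1 1 0 * A.1 1 0) := by
      simp only [Cfsg.Lib.Linear.Dickson.mul_apply', (Cfsg.Lib.Linear.Dickson.inv_apply00 A).1,
        (Cfsg.Lib.Linear.Dickson.inv_apply00 A).2.1, (Cfsg.Lib.Linear.Dickson.inv_apply00 A).2.2.1]
      simp [SLTwoRel.upr]
      ring
    rw [this, neg_eq_zero, mul_self_eq_zero] at hS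
    exact hS
  obtain ⟨hμ, eA⟩ := psi_tri C K hB hn hA10
  refine ⟨k, hkf, lam, hlamM, A.1 0 0, hμ, ?_, _, by rw [hkg, hψ, eA]⟩
  refine hM3 _ _ z1 hz1 ?_
  rw [← hSU, map_mul, map_mul, map_inv, hψ, psi_upr C K hB hn, eA]
  calc xg C (D.nroots - 1) (A.1 0 0 ^ 2) =
      hg C (D.nroots - 1) (A.1 0 0) * xg C (D.nroots - 1) 1 * (hg C (D.nroots - 1) (A.1 0 0))⁻¹ := by
        rw [hg_top_conj C K hB hn hθ hμ, top_pr C K hB hn, zpow_ofNat, mul_one]
    _ = xg C (D.nroots - 1) (A.1 0 0 * A.1 0 1) * (hg C (D.nroots - 1) (A.1 0 0) * xg C (D.nroots - 1) 1 *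
        (hg C (D.nroots - 1) (A.1 0 0))⁻¹) * (xg C (D.nroots - 1) (A.1 0 0 * A.1 0 1))⁻¹ := by
        rw [hg_top_conj C K hB hn hθ hμ, xg_inv, xg_add, xg_add]; congr 1; ring
    _ = _ := by group

end Cfsg.Lib.Chev.Ovg
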