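import Mathlib
import Cfsg.Agent.Lib.Chev.Overgroup.High

/-!
Root elements of level zero and minus one in a finite overgroup are rational.
-/

set_option autoImplicit false
set_option linter.unusedSectionVars false
set_option linter.unusedVariables false

namespace Cfsg.Lib.Chev.Ovg

open Cfsg.Lie

variable {D : ChevalleyDatum} {T : Tbl} {F : Type*} [Field F] (C : Cert D T) (K : FullCert D T) {L : ℕ}
  (hB : chkBase T L = true) (σ : F →+* F) {H : Subgroup (GL D.Idx F)}
include C K hB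

theorem top_neg_not_comm (hn : 0 < D.nroots) {t ν : F} (ht : t ≠ 0) (hν : ν ≠ 0) :
    ¬ Commute (xg C (D.nroots - 1) t) (xg C (T.neg (D.nroots - 1)) ν) := fun h => by
  have hθ : D.nroots - 1 < D.nroots := by omega
  have hy := (rootRel C (F := F) hθ).y_eq hν
  change xg C (T.neg (D.nroots - 1)) ν = xg C (D.nroots - 1) ν⁻¹ * ng C (D.nroots - 1) (-ν⁻¹) *
    xg C (D.nroots - 1) ν⁻¹ at hy
  have hc : ∀ a : F, Commute (xg C (D.nroots - 1) t) (xg C (D.nroots - 1) a) := fun a =>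
    show _ = _ by rw [xg_add, xg_add, add_comm]
  have e0 : ng C (D.nroots - 1) (-ν⁻¹) = (xg C (D.nroots - 1) ν⁻¹)⁻¹ * xg C (T.neg (D.nroots - 1)) ν *
      (xg C (D.nroots - 1) ν⁻¹)⁻¹ := by rw [hy]; group
  have hn' : Commute (xg C (D.nroots - 1) t) (ng C (D.nroots - 1) (-ν⁻¹)) := by
    rw [e0]; exact ((hc _).inv_right.mul_right h).mul_right (hc _).inv_right
  have hne : -ν⁻¹ ≠ 0 := neg_ne_zero.2 (inv_ne_zero hν)
  have e := ng_conj_xg C hθ hne t
  rw [← hn'.eq, mul_inv_cancel_right] at e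
  exact C.spec.neg_ne _ hθ (xg_index C hθ (C.spec.neg_lt _ hθ) ht e).symm

theorem comm_inner (hn : 0 < D.nroots) {γ : ℕ} {u : GL D.Idx F} (hu : u ∈ D.posUnipotent F) {ν t : F}
    (h : Commute (u * xg C γ ν * u⁻¹) (xg C (D.nroots - 1) t)) :
    Commute (xg C γ ν) (xg C (D.nroots - 1) t) := by
  have h2 := top_comm C K hn hu t
  have h3 : Commute (u⁻¹ * (u * xg C γ ν * u⁻¹) * u) (xg C (D.nroots - 1) t) :=
    (h2.inv_left.mul_left h).mul_left h2
  simpa [mul_assoc] using h3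

/-- A root element commuting with the highest root group has non-negative level. -/
theorem nonneg_of_comm (hn : 0 < D.nroots)
    (hm1 : ∀ g < D.nroots, lg L g = true → pr T g = -1 → oneLong T L (D.nroots - 1) g = true)
    {γ : ℕ} (hγ : γ < D.nroots) (hl : lg L γ = true) {y : GL D.Idx F} (h : RootEl C γ y) {t : F} (ht : t ≠ 0)
    (hc : Commute y (xg C (D.nroots - 1) t)) : 0 ≤ pr T γ := by
  obtain ⟨u, hu, ν, hν, rfl⟩ := h
  have hc' := comm_inner C K hB hn hu hc
  obtain ⟨h1, h2, h3, h4, -⟩ := (base C K hB γ hγ).1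
  by_contra hneg
  by_cases hm : pr T γ = -1
  · have := hm1 γ hγ hl hm
    simp only [oneLong, Bool.and_eq_true] at this
    obtain ⟨hnc, hx⟩ := this
    have hθ : D.nroots - 1 < D.nroots := by omega
    have e := conj_prod C (F := F) K hθ hγ hnc t ν
    rw [hc'.symm.eq, mul_inv_cancel_right, left_eq_mul] at e
    split at hx
    · rename_i x hxe
      rw [hxe] at e
      simp only [unit1, sgnB, Bool.and_eq_true, Bool.or_eq_true, decide_eq_true_eq, Nat.beq_eq] at hx
      obtain ⟨⟨⟨⟨hs, ha, hb⟩, -⟩, -⟩, -⟩ := hx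
      have hx1 := (pr_term C K hB hθ hγ (c := x) (by rw [hxe]; simp)).1
      simp only [List.map_cons, List.map_nil, List.prod_cons, List.prod_nil, mul_one, ha, hb, pow_one] at e
      have := xg_eq_one C hx1 e
      rcases hs with hs | hs <;> simp [hs, ht, hν] at this
    · exact absurd hx Bool.false_ne_true
  · have he : γ = T.neg (D.nroots - 1) := h4 (by omega)
    subst he
    exact top_neg_not_comm C K hB hn ht hν hc'.symm

variable {d : ℕ} (hO : Over C σ H) (hG : chkTop T L d = true) (hS : chkStep T L = true)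
  (hZ : chkZero T L = true) {p : ℕ} [Fact p.Prime] [CharP F p]
include hO hG hS hZ

theorem zero_facts {g : ℕ} (hg : g < D.nroots) (hl : lg L g = true) :
    (pr T g = -1 → oneLong T L (D.nroots - 1) g = true) ∧
    (pr T g = 0 → cm T (D.nroots - 1) g = true ∧ (∀ r < D.nroots, pr T r = 1 → cm T r g = true ∨ (nc T r g = true ∧ ∃ x l, tTerms T r g = x :: l ∧
        unit1 x = true ∧ pr T x.1 = 1 ∧ ∀ c ∈ l, c.1 = D.nroots - 1)) ∧
      (∃ r < D.nroots, pr T r = 1 ∧ cm T r g = false) ∧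
      (cm T (D.nroots - 2) g = true ∨ oneLong T L (D.nroots - 2) g = true) ∧
      ∀ r < D.nroots, pr T r = 1 → lg L r = false → ∃ e < D.nroots, lg L e = true ∧ pr T e = 1 ∧
        ∃ d < D.nroots, pr T d = 0 ∧ nc T d e = true ∧
          (∀ c ∈ tTerms T d e, (lg L c.1 = true ∧ 1 ≤ pr T c.1) ∨ (c.1 = r ∧ (c.2.1 = 1 ∨ c.2.1 = -1))) ∧
          ∃ x, (tTerms T d e).filter (fun c => Nat.beq c.1 r) = [x]) := by
  simp only [chkZero, allBelow_iff, C.spec.shape.nroots_eq] at hZ
  have h := hZ g hg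
  simp only [hl, Bool.not_true, Bool.false_or, Bool.and_eq_true, Bool.or_eq_true, Bool.not_eq_true',
    decide_eq_false_iff_not] at h
  obtain ⟨h1, h2⟩ := h
  refine ⟨fun e => h1.resolve_left fun k => k e, fun e => ?_⟩
  obtain ⟨hθg, hall, hex, hβ, hshort⟩ := h2.resolve_left fun k => k e
  simp only [allBelow_iff, C.spec.shape.nroots_eq] at hall hshort
  refine ⟨hθg, fun r hr hr1 => ?_, ?_, hβ, fun r hr hr1 hrl => ?_⟩
  · have := hall r hr
    simp only [hr1, decide_true, Bool.not_true, Bool.false_or, Bool.or_eq_true, Bool.and_eq_true] at this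
    rcases this with h | ⟨hn, hm⟩
    · exact Or.inl h
    · split at hm
      · rename_i x l hx
        simp only [Bool.and_eq_true, List.all_eq_true, Nat.beq_eq, decide_eq_true_eq] at hm
        exact Or.inr ⟨hn, x, l, hx, hm.1, hm.2.1, hm.2.2⟩
      · exact absurd hm Bool.false_ne_true
  · obtain ⟨r, hr, h⟩ := exists_of_anyBelow hex
    simp only [Bool.and_eq_true, decide_eq_true_eq, Bool.not_eq_true'] at h
    exact ⟨r, hr, h⟩
  · have := hshort r hr
    simp only [hr1, decide_true, Bool.not_true, Bool.false_or, hrl] at this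
    obtain ⟨e', he, h⟩ := exists_of_anyBelow this
    simp only [Bool.and_eq_true, decide_eq_true_eq] at h
    obtain ⟨hel, he1, h⟩ := h
    obtain ⟨d', hd, h⟩ := exists_of_anyBelow h
    simp only [Bool.and_eq_true, decide_eq_true_eq, List.all_eq_true, Bool.or_eq_true, Nat.beq_eq, sgnB] at h
    exact ⟨e', he, hel, he1, d', hd, h.1, h.2.1, h.2.2.1, List.length_eq_one_iff.1 h.2.2.2⟩

theorem comm_root_q {r : ℕ} (hr : r < D.nroots) (hr1 : 1 ≤ pr T r) (t : F) {q : GL D.Idx F}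
    (hq : q ∈ qup C F 0) : ∃ z, xg C r t * q * (xg C r t)⁻¹ = q * xg C (D.nroots - 1) z := by
  have hrp := (base C K hB r hr).1.2.2.2.2.1 hr1
  have hxp := xg_mem_pos C (F := F) hr hrp t
  induction hq using Subgroup.closure_induction with
  | mem g hg =>
    obtain ⟨s, b, hs, hs1, -, rfl⟩ := hg
    have hsp := (base C K hB s hs).1.2.2.2.2.1 hs1
    by_cases hsr : s = r
    · subst hsr
      exact ⟨0, by rw [xg_zero, mul_one, xg_inv, xg_add, xg_add]; congr 1; ring⟩
    suffices hz : ∃ z, ((tTerms T r s).map fun c => xg C c.1 ((c.2.1 : F) * t ^ c.2.2.1 * b ^ c.2.2.2)).prod =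
        xg C (D.nroots - 1) z by
      obtain ⟨z, hz⟩ := hz
      refine ⟨z, ?_⟩
      rw [conj_prod C K hr hs (by
        simp only [nc, Bool.and_eq_true, Bool.not_eq_true', ← Bool.not_eq_true, Nat.beq_eq]
        exact ⟨hsr, by rw [C.neg_eq hr]; omega⟩) t b, hz]
    have : ∀ l : List (ℕ × ℤ × ℕ × ℕ), (∀ c ∈ l, c.1 = D.nroots - 1) →
        ∃ z, (l.map fun c => xg C c.1 ((c.2.1 : F) * t ^ c.2.2.1 * b ^ c.2.2.2)).prod = xg C (D.nroots - 1) z := by
      intro l
      induction l with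
      | nil => exact fun _ => ⟨0, by simp [xg_zero]⟩
      | cons c l ih =>
        intro h
        obtain ⟨z, hz⟩ := ih fun x hx => h x (List.mem_cons_of_mem _ hx)
        exact ⟨_, by rw [List.map_cons, List.prod_cons, hz, h c (List.mem_cons_self ..), xg_add]⟩
    refine this _ fun c hc => ?_
    obtain ⟨c1, c2, c3, c4, -⟩ := pr_term C K hB hr hs hc
    obtain ⟨-, h2, h3, -⟩ := (base C K hB _ c1).1
    exact h3 (by nlinarith)
  | one => exact ⟨0, by simp [xg_zero]⟩
  | mul a b ha hb iha ihb =>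
    obtain ⟨za, ea⟩ := iha
    obtain ⟨zb, eb⟩ := ihb
    refine ⟨za + zb, ?_⟩
    have hc := (top_comm C K hO.pos (qup_le_pos C K hB _ hb) za).symm.eq
    calc xg C r t * (a * b) * (xg C r t)⁻¹ = (xg C r t * a * (xg C r t)⁻¹) * (xg C r t * b * (xg C r t)⁻¹) := by group
      _ = a * (xg C (D.nroots - 1) za * b) * xg C (D.nroots - 1) zb := by rw [ea, eb]; group
      _ = _ := by rw [hc, ← xg_add]; group
  | inv a ha iha =>
    obtain ⟨za, ea⟩ := iha
    refine ⟨-za, ?_⟩
    have hc := (top_comm C K hO.pos (qup_le_pos C K hB _ ha) za).inv_left.eq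
    calc xg C r t * a⁻¹ * (xg C r t)⁻¹ = (xg C r t * a * (xg C r t)⁻¹)⁻¹ := by group
      _ = (xg C (D.nroots - 1) za)⁻¹ * a⁻¹ := by rw [ea, mul_inv_rev]
      _ = _ := by rw [← xg_inv, (top_comm C K hO.pos (qup_le_pos C K hB _ ha) za).inv_inv.eq]

/-- The leading term of the commutator with a root of level zero. -/
theorem head_not_top {g r : ℕ} (hg : g < D.nroots) (hr : r < D.nroots) (hn : nc T r g = true) {x : ℕ × ℤ × ℕ × ℕ}
    {l : List (ℕ × ℤ × ℕ × ℕ)} (hx : tTerms T r g = x :: l) (hu : unit1 x = true) (hx1 : pr T x.1 = 1)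
    (hrest : ∀ c ∈ l, c.1 = D.nroots - 1) {ν : F} (hν : ν ≠ 0) (z : F) :
    xg C r (1 : F) * xg C g ν * (xg C r (1 : F))⁻¹ ≠ xg C g ν * xg C (D.nroots - 1) z := fun hz => by
  rw [conj_prod C K hr hg hn, mul_right_inj, hx, List.map_cons, List.prod_cons] at hz
  obtain ⟨hx0, -, -, -⟩ := pr_term C K hB hr hg (c := x) (by rw [hx]; simp)
  have hxp := (base C K hB _ hx0).1.2.2.2.2.1 (by omega)
  have hne : x.1 ≠ D.nroots - 1 := fun e => by
    rw [e, top_pr C K hB hO.pos] at hx1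
    omega
  have hmem : ∀ a : F, xg C (D.nroots - 1) a ∈ upper C F (x.1 + 1) := fun a => xg_mem_upper C (by omega) a
  have ht : (l.map fun c => xg C c.1 ((c.2.1 : F) * (1 : F) ^ c.2.2.1 * ν ^ c.2.2.2)).prod ∈ upper C F (x.1 + 1) :=
    list_prod_mem fun y hy => by
      obtain ⟨c, hc, rfl⟩ := List.mem_map.1 hy
      rw [hrest c hc]; exact hmem _
  have := (upper_unique C (k := x.1) hxp hx0 ht (hmem z)
    (u := 0) (hz.trans (by rw [xg_zero, one_mul]))).1
  simp only [unit1, sgnB, Bool.and_eq_true, Bool.or_eq_true, decide_eq_true_eq, Nat.beq_eq] at hu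
  rw [hu.2.1, hu.2.2] at this
  rcases hu.1 with h | h <;> simp [h, hν] at this

/-- A root element of level zero does not lie in the Heisenberg group. -/
theorem zero_not_qup {g : ℕ} (hg : g < D.nroots) (hl : lg L g = true) (h0 : pr T g = 0) {ν : F} (hν : ν ≠ 0) :
    xg C g ν ∉ qup C F 0 := fun hq => by
  obtain ⟨-, hall, ⟨r, hr, hr1, hrc⟩, -⟩ := (zero_facts C K hB σ hO hG hS hZ hg hl).2 h0
  obtain ⟨hn, x, l, hx, hu, hx1, hrest⟩ := (hall r hr hr1).resolve_left (by simp [hrc])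
  obtain ⟨z, hz⟩ := comm_root_q C K hB σ hO hG hS hZ hr (by omega) (1 : F) hq
  exact head_not_top C K hB σ hO hG hS hZ hg hr hn hx hu hx1 hrest hν z hz

theorem minus_one : ∀ g < D.nroots, lg L g = true → pr T g = -1 → oneLong T L (D.nroots - 1) g = true :=
  fun g hg hl => (zero_facts C K hB σ hO hG hS hZ hg hl).1

theorem int_root (c : ℕ) (m : ℤ) : xg C c (m : F) = xg C c (1 : F) ^ m := by
  induction m using Int.induction_on with
  | zero => simp [xg_zero]
  | succ n ih => rw [zpow_add_one, ← ih, xg_add]; push_cast; rfl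
  | pred n ih => rw [zpow_sub_one, ← ih, xg_inv, xg_add, ← sub_eq_add_neg]; push_cast; rfl

omit hB hO hG hS hZ in
theorem filtered_mem {G ι : Type*} [Group G] (S : Subgroup G) (f : ι → G) (p : ι → Bool) (x : ι) :
    ∀ l : List ι, l.filter p = [x] → (∀ c ∈ l, p c = false → f c ∈ S) → (l.map f).prod ∈ S → f x ∈ S
  | [], h, _, _ => by simp at h
  | c :: l, h, h1, h2 => by
    rw [List.map_cons, List.prod_cons] at h2
    cases hc : p c
    · rw [List.filter_cons_of_neg (by simp [hc])] at h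
      exact filtered_mem S f p x l h (fun c' hc' => h1 c' (List.mem_cons_of_mem _ hc'))
        ((S.mul_mem_cancel_left (h1 c (List.mem_cons_self ..) hc)).1 h2)
    · rw [List.filter_cons_of_pos hc] at h
      obtain ⟨rfl, hl⟩ := List.cons.inj h
      refine (S.mul_mem_cancel_right (list_prod_mem fun y hy => ?_)).1 h2
      obtain ⟨c', hc', rfl⟩ := List.mem_map.1 hy
      exact h1 c' (List.mem_cons_of_mem _ hc') (by
        have := List.filter_eq_nil_iff.1 hl c' hc'
        simpa using this)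

/-- An element mapping the highest root group into itself normalises the Heisenberg group. -/
theorem top_stab_qup {g : GL D.Idx F} (hg : g ∈ D.group F) {c t : F} (hc : c ≠ 0)
    (he : g * xg C (D.nroots - 1) c * g⁻¹ = xg C (D.nroots - 1) t) {x : GL D.Idx F} (hx : x ∈ qup C F 0) :
    g * x * g⁻¹ ∈ qup C F 0 := by
  have hn := hO.pos
  obtain ⟨w, hw, b, hb, e, hem, rfl⟩ := bruhat_normal C K hg
  obtain ⟨u, hu, h, hh, rfl⟩ := (mem_borel C).1 hb
  have hep : e ∈ D.posUnipotent F := (posUnipotent_eq C (F := F)) ▸ signPart_le_upper C K w true _ hem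
  have hθ : D.nroots - 1 < D.nroots := by omega
  obtain ⟨d', hd, hdt⟩ := wnu_conj_xg C (F := F) hw hθ
  obtain ⟨χ, hχ⟩ := diag_conj_xg C hh
  have hwn := wperm_lt C hw hθ
  have e1 : xg C (D.nroots - 1) t = xg C (wperm T w (D.nroots - 1)) (χ (wperm T w (D.nroots - 1)) * (d' * c)) := by
    rw [← (hχ _ hwn).2, ← hdt]
    have h1 := (top_comm C K hn hu t).inv_left.eq
    have h2 := (top_comm C K hn hep c).eq
    calc xg C (D.nroots - 1) t = u⁻¹ * xg C (D.nroots - 1) t * u := by rw [h1, inv_mul_cancel_right]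
      _ = h * wnu C F w * (e * xg C (D.nroots - 1) c * e⁻¹) * (wnu C F w)⁻¹ * h⁻¹ := by rw [← he]; group
      _ = _ := by rw [h2, mul_inv_cancel_right]; group
  have hne : χ (wperm T w (D.nroots - 1)) * (d' * c) ≠ 0 :=
    mul_ne_zero (hχ _ hwn).1 (mul_ne_zero (sq_one_ne C hd) hc)
  have hwθ : wperm T w (D.nroots - 1) = D.nroots - 1 := xg_index C hwn hθ hne e1.symm
  have hwQ : ∀ x ∈ qup C F 0, wnu C F w * x * (wnu C F w)⁻¹ ∈ qup C F 0 := fun x hx => by
    refine conj_mem_closure ?_ hx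
    rintro y ⟨r, a, hr, hr1, -, rfl⟩
    obtain ⟨a', -, ha⟩ := wnu_conj_xg C (F := F) hw hr
    rw [ha]
    refine xg_mem_qup C (wperm_lt C hw hr) ?_ (Nat.zero_le _) _
    have h := corPair_wperm C hw hθ hr
    rw [hwθ] at h
    simp only [pr, C.spec.shape.nroots_eq] at hr1 ⊢
    omega
  have := conj_qup C K hB hu (diag_normalizes_qup C K hB hh (hwQ _ (conj_qup C K hB hep hx)))
  simpa [mul_assoc] using this

include p

theorem good_from_second {y : GL D.Idx F} (hy : y ∈ H) (hyLR : IsLR C L y)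
    (hc : Commute y (xg C (D.nroots - 1) (1 : F))) (hnc : ¬ Commute y (xg C (D.nroots - 2) (1 : F))) :
    Good C σ y := by
  have hn := hO.pos
  obtain ⟨g, hg, hgl, hy'⟩ := hyLR
  have h0 := nonneg_of_comm C K hB hn (minus_one C K hB σ hO hG hS hZ) hg hgl hy' one_ne_zero hc
  rcases h0.lt_or_eq with h0 | h0
  · exact good_high C K hB σ hO hG hS (p := p) hg hgl (by omega) hy hy'
  obtain ⟨hθg, -, -, hβg, -⟩ := (zero_facts C K hB σ hO hG hS hZ hg hgl).2 h0.symm
  obtain ⟨u, hu, ν, hν, rfl⟩ := hy'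
  obtain ⟨-, -, hlβ, hprβ, -⟩ := top_facts C K hB σ hO hG hS
  have hβ : D.nroots - 2 < D.nroots := by omega
  obtain ⟨v, hv, ev⟩ := conj_qup_root C K hB (inv_mem hu) hβ (by omega) (1 : F)
  obtain ⟨a, rfl⟩ := qup_top C K hB (qup_anti C (by omega) hv)
  have hθg' := cm_commute C K (by omega : D.nroots - 1 < D.nroots) hg hθg a ν
  have ecomm : u⁻¹ * (xg C (D.nroots - 2) (1 : F) * (u * xg C g ν * u⁻¹) * (xg C (D.nroots - 2) (1 : F))⁻¹) * u =
      xg C (D.nroots - 2) (1 : F) * xg C g ν * (xg C (D.nroots - 2) (1 : F))⁻¹ := by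
    calc _ = (u⁻¹ * xg C (D.nroots - 2) (1 : F) * u⁻¹⁻¹) * xg C g ν *
          (u⁻¹ * xg C (D.nroots - 2) (1 : F) * u⁻¹⁻¹)⁻¹ := by group
      _ = xg C (D.nroots - 2) (1 : F) * (xg C (D.nroots - 1) a * xg C g ν * (xg C (D.nroots - 1) a)⁻¹) *
            (xg C (D.nroots - 2) (1 : F))⁻¹ := by rw [ev]; group
      _ = _ := by rw [hθg'.eq, mul_inv_cancel_right]
  rcases hβg with h | h
  · refine absurd ?_ hnc
    rw [(cm_commute C K hβ hg h (1 : F) ν).eq, mul_inv_cancel_right] at ecomm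
    show _ = _
    symm
    calc xg C (D.nroots - 2) (1 : F) * (u * xg C g ν * u⁻¹)
        = u * (u⁻¹ * (xg C (D.nroots - 2) (1 : F) * (u * xg C g ν * u⁻¹) * (xg C (D.nroots - 2) (1 : F))⁻¹) * u) *
            u⁻¹ * xg C (D.nroots - 2) (1 : F) := by group
      _ = _ := by rw [ecomm]
  simp only [oneLong, Bool.and_eq_true] at h
  obtain ⟨hnc', hm⟩ := h
  split at hm
  rotate_left
  · exact absurd hm Bool.false_ne_true
  rename_i x hx
  simp only [unit1, sgnB, Bool.and_eq_true, Bool.or_eq_true, decide_eq_true_eq, Nat.beq_eq] at hm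
  obtain ⟨⟨⟨⟨hs, he1, he2⟩, hμl, hμ1⟩, hμg⟩, hcor⟩ := hm
  have hμ := (pr_term C K hB hβ hg (c := x) (by rw [hx]; simp)).1
  rw [conj_prod C K hβ hg hnc', hx, List.map_cons, List.map_nil, List.prod_cons, List.prod_nil, mul_one,
    one_pow, mul_one, he2, pow_one] at ecomm
  set c' : F := (x.2.1 : F) * ν with hc'
  have hc0 : c' ≠ 0 := by rw [hc']; rcases hs with h | h <;> simp [h, hν]
  set z := xg C (D.nroots - 2) (1 : F) * (u * xg C g ν * u⁻¹) * (xg C (D.nroots - 2) (1 : F))⁻¹ *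
    (u * xg C g ν * u⁻¹)⁻¹ with hz
  have hzu : z = u * xg C x.1 c' * u⁻¹ := by
    calc z = u * (u⁻¹ * (xg C (D.nroots - 2) (1 : F) * (u * xg C g ν * u⁻¹) * (xg C (D.nroots - 2) (1 : F))⁻¹) * u) *
          (xg C g ν)⁻¹ * u⁻¹ := by rw [hz]; group
      _ = u * (xg C g ν * xg C x.1 c') * (xg C g ν)⁻¹ * u⁻¹ := by rw [ecomm]
      _ = _ := by rw [(cm_commute C K hμ hg hμg c' ν).symm.eq]; group
  have hx1 := hO.fixed (xg_mem_fixedRoots C σ (r := D.nroots - 2) (map_one σ))
  have hzH : z ∈ H := mul_mem (mul_mem (mul_mem hx1 hy) (inv_mem hx1)) (inv_mem hy)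
  obtain ⟨m, hm, t, ht, ht0, hzm⟩ := good_high C K hB σ hO hG hS (p := p) hμ hμl (by omega) hzH
    ⟨u, hu, c', hc0, hzu⟩
  obtain ⟨w, hw, hwμ⟩ := long_to_top C K hB hμ hμl
  obtain ⟨e, he, hew⟩ := wnu_conj_xg C (F := F) hw hμ
  obtain ⟨e', he', hew'⟩ := wnu_conj_xg C (F := F) hw hg
  have hmG := fixedRoots_le_group C σ hm
  have hg2 : m⁻¹ * u * (wnu C F w)⁻¹ ∈ D.group F :=
    mul_mem (mul_mem (inv_mem hmG) (pos_le_group C hu)) (inv_mem (wnu_mem_group C hw))
  have he2' : m⁻¹ * u * (wnu C F w)⁻¹ * xg C (D.nroots - 1) (e * c') * (m⁻¹ * u * (wnu C F w)⁻¹)⁻¹ =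
      xg C (D.nroots - 1) t := by
    rw [← hwμ, ← hew c', hwμ]
    calc _ = m⁻¹ * z * m := by rw [hzu]; group
      _ = _ := by rw [hzm]; group
  have hf : 1 ≤ pr T (wperm T w g) := by
    have h := corPair_wperm C hw hμ hg
    rw [hwμ] at h
    simp only [pr, C.spec.shape.nroots_eq] at h0 hcor ⊢
    rcases hcor with hcor | hcor <;> omega
  have hq := top_stab_qup C K hB σ hO hG hS hZ hg2 (mul_ne_zero (sq_one_ne C he) hc0) he2'
    (xg_mem_qup C (wperm_lt C hw hg) hf (Nat.zero_le _) (e' * ν))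
  rw [← hew' ν] at hq
  have eq2 : m⁻¹ * u * (wnu C F w)⁻¹ * (wnu C F w * xg C g ν * (wnu C F w)⁻¹) *
      (m⁻¹ * u * (wnu C F w)⁻¹)⁻¹ = m⁻¹ * (u * xg C g ν * u⁻¹) * m⁻¹⁻¹ := by group
  rw [eq2] at hq
  obtain ⟨g', hg', hgl', hy''⟩ := IsLR.conj C K hB hn (inv_mem hmG) (y := u * xg C g ν * u⁻¹)
    ⟨g, hg, hgl, u, hu, ν, hν, rfl⟩
  refine Good.of_conj C σ (inv_mem hm) (good_high C K hB σ hO hG hS (p := p) hg' hgl' ?_
    (mul_mem (mul_mem (hO.fixed (inv_mem hm)) hy) (inv_mem (hO.fixed (inv_mem hm)))) hy'')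
  obtain ⟨u', hu', ν', hν', hy''⟩ := hy''
  rw [hy''] at hq
  have hxq : xg C g' ν' ∈ qup C F 0 := by
    simpa [mul_assoc] using conj_qup C K hB (inv_mem hu') hq
  obtain ⟨h1, -, -, -, -, h6⟩ := (base C K hB g' hg').1
  by_contra hneg
  have hpos : D.nroots ≤ 2 * g' := by
    by_contra hng
    exact hν' (xg_neg_not_borel C hg' (by omega) (Subgroup.mem_sup_left (qup_le_pos C K hB 0 hxq)))
  exact zero_not_qup C K hB σ hO hG hS hZ hg' hgl' (by have := h6 hpos; omega) hν' hxq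

theorem good_from_long {r : ℕ} (hr : r < D.nroots) (hl : lg L r = true) (hr1 : pr T r = 1) {y : GL D.Idx F}
    (hy : y ∈ H) (hyLR : IsLR C L y) (hc : Commute y (xg C (D.nroots - 1) (1 : F)))
    (hnc : ¬ Commute y (xg C r (1 : F))) : Good C σ y := by
  induction hN : D.nroots - r using Nat.strong_induction_on generalizing r y with
  | _ N ih =>
  have hn := hO.pos
  by_cases he : r = D.nroots - 2
  · exact good_from_second C K hB σ hO hG hS hZ (p := p) hy hyLR hc (he ▸ hnc)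
  simp only [chkStep, allBelow_iff, Bool.or_eq_true, Bool.not_eq_true', Nat.beq_eq, C.spec.shape.nroots_eq] at hS
  obtain ⟨s, -, hh⟩ := exists_of_anyBelow (((hS r hr).resolve_left (by simp [hl, hr1])).resolve_left he)
  simp only [Bool.and_eq_true] at hh
  obtain ⟨δ, hδ, hh⟩ := exists_of_anyBelow hh.2.2
  simp only [Bool.and_eq_true, Nat.beq_eq, Nat.blt_eq, C.spec.shape.rank_eq] at hh hδ
  obtain ⟨hfix, hlt, -⟩ := hh
  have hν : (nu C δ : GL D.Idx F) ∈ fixedRoots C σ := ng_mem_fixedRoots C σ (map_one σ)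
  have hνH := hO.fixed hν
  refine Good.of_conj C σ hν ?_
  have hsign : ∀ (k : ℕ), k < D.nroots →
      (Commute y (xg C k (1 : F)) ↔ Commute (nu C δ * y * (nu C δ)⁻¹) (xg C (T.refl' δ k) (1 : F))) := by
    intro k hk
    have e := nu_conj_xg C (F := F) hδ hk 1
    rw [mul_one] at e
    have key : Commute y (xg C k (1 : F)) ↔
        Commute (nu C δ * y * (nu C δ)⁻¹) (xg C (T.refl' δ k) ((T.eta' δ k : ℤ) : F)) := by
      rw [← e]
      exact ⟨fun h => h.map (MulAut.conj (nu C δ)).toMonoidHom, fun h => by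
        have := h.map (MulAut.conj (nu C δ : GL D.Idx F)⁻¹).toMonoidHom
        simpa [MulAut.conj_apply, mul_assoc] using this⟩
    rw [key]
    rcases eta_cases T δ k with h | h <;> rw [h]
    · rw [Int.cast_one]
    · rw [Int.cast_neg, Int.cast_one, ← xg_inv, Commute.inv_right_iff]
  have hθ : D.nroots - 1 < D.nroots := by omega
  refine ih (D.nroots - T.refl' δ r) (by omega) (C.spec.refl_lt δ hδ r hr)
    (((base C K hB r hr).2.1 δ hδ).symm.trans hl) ?_ (mul_mem (mul_mem hνH hy) (inv_mem hνH))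
    (hyLR.conj C K hB hn (fixedRoots_le_group C σ hν)) ?_ (fun h => hnc ((hsign r hr).2 h)) rfl
  · rw [pr_refl C K hB σ hO hδ hfix hr, hr1]
  · have := (hsign _ hθ).1 hc
    rwa [hfix] at this

/-- A root element of level zero is rational. -/
theorem good_zero {g : ℕ} (hg : g < D.nroots) (hl : lg L g = true) (h0 : pr T g = 0) {y : GL D.Idx F}
    (hy : y ∈ H) (h : RootEl C g y) : Good C σ y := by
  classical
  have hn := hO.pos
  obtain ⟨hθg, hall, ⟨r0, hr0, hr01, hrc0⟩, -, hshort⟩ := (zero_facts C K hB σ hO hG hS hZ hg hl).2 h0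
  obtain ⟨u, hu, ν, hν, rfl⟩ := h
  have hyLR : IsLR C L (u * xg C g ν * u⁻¹) := ⟨g, hg, hl, u, hu, ν, hν, rfl⟩
  have hθ : D.nroots - 1 < D.nroots := by omega
  have hcθ : Commute (u * xg C g ν * u⁻¹) (xg C (D.nroots - 1) (1 : F)) := by
    have h1 := top_comm C K hn hu (1 : F)
    exact (h1.mul_left (cm_commute C K hθ hg hθg 1 ν).symm).mul_left h1.inv_left
  set S := (Finset.range D.nroots).filter fun r => pr T r = 1 ∧ cm T r g = false with hS'
  have hne : S.Nonempty := ⟨r0, by simp [hS', hr0, hr01, hrc0]⟩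
  obtain ⟨hr, hr1, hrc⟩ : S.max' hne < D.nroots ∧ pr T (S.max' hne) = 1 ∧ cm T (S.max' hne) g = false := by
    simpa [hS'] using S.max'_mem hne
  have hnr : ¬ Commute (u * xg C g ν * u⁻¹) (xg C (S.max' hne) (1 : F)) := by
    intro hc
    obtain ⟨v, hv, ev⟩ := conj_qup_root C K hB (inv_mem hu) hr (by omega) (1 : F)
    have hvc : Commute v (xg C g ν) := by
      suffices hh : qup C F (S.max' hne + 1) ≤ Subgroup.centralizer {xg C g ν} from
        (Subgroup.mem_centralizer_iff.1 (hh hv) _ rfl).symm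
      refine (Subgroup.closure_le _).2 ?_
      rintro x ⟨k, b, hk, hk1, hkr, rfl⟩
      refine Subgroup.mem_centralizer_iff.2 ?_
      rintro _ rfl
      refine (cm_commute C K hk hg ?_ b ν).symm.eq
      by_contra hcm
      have hk2 : k ≠ D.nroots - 1 := fun e => hcm (e ▸ hθg)
      have hk3 : pr T k = 1 := by
        obtain ⟨-, h2, h3, -⟩ := (base C K hB k hk).1
        by_contra h'
        exact hk2 (h3 (by omega))
      have := S.le_max' k (by simp [hS', hk, hk3, Bool.not_eq_true _ ▸ hcm])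
      omega
    have h1 : Commute (xg C g ν) (u⁻¹ * xg C (S.max' hne) (1 : F) * u⁻¹⁻¹) := by
      have := hc.map (MulAut.conj u⁻¹).toMonoidHom
      simpa [MulAut.conj_apply, mul_assoc] using this
    rw [ev] at h1
    have h2 := h1.mul_right hvc.symm.inv_right
    rw [mul_inv_cancel_right] at h2
    obtain ⟨hnc, x, l, hx, hxu, hx1, hrest⟩ := (hall _ hr hr1).resolve_left (by simp [hrc])
    refine head_not_top C K hB σ hO hG hS hZ hg hr hnc hx hxu hx1 hrest hν 0 ?_
    rw [xg_zero, mul_one, h2.symm.eq, mul_inv_cancel_right]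
  by_cases hlong : ∃ r < D.nroots, lg L r = true ∧ pr T r = 1 ∧
      ¬ Commute (u * xg C g ν * u⁻¹) (xg C r (1 : F))
  · obtain ⟨r, h1, h2, h3, h4⟩ := hlong
    exact good_from_long C K hB σ hO hG hS hZ (p := p) h1 h2 h3 hy hyLR hcθ h4
  push Not at hlong
  cases hlr : lg L (S.max' hne)
  swap
  · exact absurd (hlong _ hr hlr hr1) hnr
  obtain ⟨e, he, hel, he1, d', hd, hd0, hnc, hterms, x, hx⟩ := hshort _ hr hr1 hlr
  set y := u * xg C g ν * u⁻¹ with hydef
  set xd := xg C d' (1 : F) with hxd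
  have hxdF : xd ∈ fixedRoots C σ := xg_mem_fixedRoots C σ (map_one σ)
  have hxdθ : Commute xd (xg C (D.nroots - 1) (1 : F)) := by
    by_cases hnd : cm T d' (D.nroots - 1) = true
    · exact cm_commute C K hd hθ hnd 1 1
    simp only [cm, Bool.or_eq_true, Bool.and_eq_true, Bool.not_eq_true', Nat.beq_eq, List.isEmpty_iff] at hnd
    push Not at hnd
    have h2 : pr T (D.nroots - 1) = 2 := top_pr C K hB hn
    have hne1 : D.nroots - 1 ≠ T.neg d' := fun e' => by
      have := pr_neg C (T := T) hd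
      rw [← e', h2, hd0] at this; omega
    obtain ⟨c, hc⟩ := List.exists_mem_of_ne_nil _ (hnd.2 (Bool.not_eq_true _ ▸ fun h' => hne1 (Nat.beq_eq.mp h')))
    obtain ⟨c1, c2, c3, c4, c5⟩ := pr_term C K hB hd hθ hc
    obtain ⟨-, h2', h3', -⟩ := (base C K hB _ c1).1
    have hc2 : (c.2.2.2 : ℤ) = 1 := by rw [hd0, h2] at c4; omega
    have hcθ' : c.1 = D.nroots - 1 := h3' (by rw [hd0, h2, hc2] at c4; omega)
    rw [hcθ', hc2, one_mul] at c5
    have hf : fun' C d' = 0 := by
      rcases mul_eq_zero.1 (show (c.2.2.1 : ℤ) * fun' C d' = 0 by omega) with h' | h'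
      · omega
      · exact h'
    rcases isPos_or_isNeg (D := D) (T := T) C d' with hp | hp
    · exact absurd hf (fun'_pos C hd hp).ne'
    · have := fun'_pos C (C.spec.neg_lt _ hd) ((K.neg_pos_iff hd).2 hp)
      have := isLin_neg C (isLin_fun C) hd
      omega
  refine Good.of_conj C σ (inv_mem hxdF) (good_from_long C K hB σ hO hG hS hZ (p := p) he hel he1
    (mul_mem (mul_mem (hO.fixed (inv_mem hxdF)) hy) (inv_mem (hO.fixed (inv_mem hxdF))))
    (hyLR.conj C K hB hn (fixedRoots_le_group C σ (inv_mem hxdF))) ?_ ?_)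
  · rw [inv_inv]
    exact (hxdθ.inv_left.mul_left hcθ).mul_left hxdθ
  intro hcon
  have h3 : y ∈ Subgroup.centralizer {xd * xg C e (1 : F) * xd⁻¹} := by
    have := hcon.map (MulAut.conj xd).toMonoidHom
    refine Subgroup.mem_centralizer_iff.2 ?_
    rintro _ rfl
    have := this.symm.eq
    simpa [MulAut.conj_apply, mul_assoc] using this
  have hcy : ∀ (c : ℕ), c < D.nroots → lg L c = true → 1 ≤ pr T c → ∀ m : ℤ, Commute y (xg C c (m : F)) := by
    intro c hc hcl hc1 m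
    rw [int_root C K hB σ hO hG hS hZ]
    refine Commute.zpow_right ?_ m
    obtain ⟨-, h2, h3', -⟩ := (base C K hB c hc).1
    by_cases h : pr T c = 2
    · rw [h3' h]; exact hcθ
    · exact hlong c hc hcl (by omega)
  have hP : xg C e (1 : F) * ((tTerms T d' e).map fun c => xg C c.1 ((c.2.1 : F) * 1 ^ c.2.2.1 * 1 ^ c.2.2.2)).prod ∈
      Subgroup.centralizer {y} := by
    rw [← conj_prod C K hd he hnc]
    refine Subgroup.mem_centralizer_iff.2 ?_
    rintro _ rfl
    exact (Subgroup.mem_centralizer_iff.1 h3 _ rfl).symm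
  rw [Subgroup.mul_mem_cancel_left _ (Subgroup.mem_centralizer_iff.2 (by
    rintro _ rfl
    simpa using (hcy e he hel (by omega) 1).eq))] at hP
  have hxm : x ∈ tTerms T d' e ∧ x.1 = S.max' hne := by
    have := (List.mem_filter.1 (hx ▸ List.mem_singleton_self x : x ∈ (tTerms T d' e).filter _))
    exact ⟨this.1, by simpa using this.2⟩
  have hxc := filtered_mem C K (Subgroup.centralizer {y}) _ _ x _ hx (fun c hc hcf => by
    rcases hterms c hc with ⟨h1, h2⟩ | ⟨h1, -⟩
    · refine Subgroup.mem_centralizer_iff.2 ?_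
      rintro _ rfl
      simpa using (hcy c.1 (pr_term C K hB hd he hc).1 h1 h2 c.2.1).eq
    · simp [h1] at hcf) hP
  have hxy := Subgroup.mem_centralizer_iff.1 hxc _ rfl
  rw [hxm.2, one_pow, one_pow, mul_one, mul_one] at hxy
  rcases hterms x hxm.1 with ⟨h1, -⟩ | ⟨-, h1 | h1⟩
  · rw [hxm.2, hlr] at h1; exact absurd h1 Bool.false_ne_true
  · rw [h1, Int.cast_one] at hxy; exact hnr hxy
  · rw [h1, Int.cast_neg, Int.cast_one, ← xg_inv] at hxy
    exact hnr (Commute.inv_right_iff.1 hxy)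

/-- Root elements off the lowest root are rational. -/
theorem good_rat {g : ℕ} (hg : g < D.nroots) (hl : lg L g = true) (hne : g ≠ T.neg (D.nroots - 1))
    {y : GL D.Idx F} (hy : y ∈ H) (h : RootEl C g y) : Good C σ y := by
  have hn := hO.pos
  obtain ⟨h1, h2, -, h4, -⟩ := (base C K hB g hg).1
  by_cases hpos : 1 ≤ pr T g
  · exact good_high C K hB σ hO hG hS (p := p) hg hl hpos hy h
  by_cases h0 : pr T g = 0
  · exact good_zero C K hB σ hO hG hS hZ (p := p) hg hl h0 hy h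
  have hm : pr T g = -1 := by
    by_contra h'
    exact hne (h4 (by omega))
  have hone := minus_one C K hB σ hO hG hS hZ g hg hl hm
  simp only [oneLong, Bool.and_eq_true] at hone
  obtain ⟨hnc, hx⟩ := hone
  split at hx
  rotate_left
  · exact absurd hx Bool.false_ne_true
  rename_i x hxe
  simp only [unit1, sgnB, Bool.and_eq_true, Bool.or_eq_true, decide_eq_true_eq, Nat.beq_eq] at hx
  obtain ⟨⟨⟨⟨hs, ha, hb⟩, hμl, hμ1⟩, hμg⟩, -⟩ := hx
  have hθ : D.nroots - 1 < D.nroots := by omega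
  have hμ := (pr_term C K hB hθ hg (c := x) (by rw [hxe]; simp)).1
  obtain ⟨u, hu, ν, hν, rfl⟩ := h
  have hyLR : IsLR C L (u * xg C g ν * u⁻¹) := ⟨g, hg, hl, u, hu, ν, hν, rfl⟩
  set c' : F := (x.2.1 : F) * ν with hc'
  have hc0 : c' ≠ 0 := by rw [hc']; rcases hs with h | h <;> simp [h, hν]
  have e := conj_prod C (F := F) K hθ hg hnc 1 ν
  rw [hxe, List.map_cons, List.map_nil, List.prod_cons, List.prod_nil, mul_one, one_pow, mul_one, hb, pow_one] at e
  have hx1 := hO.fixed (xg_mem_fixedRoots C σ (r := D.nroots - 1) (map_one σ))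
  have hzu : xg C (D.nroots - 1) (1 : F) * (u * xg C g ν * u⁻¹) * (xg C (D.nroots - 1) (1 : F))⁻¹ *
      (u * xg C g ν * u⁻¹)⁻¹ = u * xg C x.1 c' * u⁻¹ := by
    have h1 := (top_comm C K hn hu (1 : F)).eq
    calc _ = xg C (D.nroots - 1) (1 : F) * u * xg C g ν * (xg C (D.nroots - 1) (1 : F) * u)⁻¹ *
          u * (xg C g ν)⁻¹ * u⁻¹ := by group
      _ = u * (xg C (D.nroots - 1) (1 : F) * xg C g ν * (xg C (D.nroots - 1) (1 : F))⁻¹) * (xg C g ν)⁻¹ * u⁻¹ := by
        rw [← h1]; group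
      _ = u * (xg C g ν * xg C x.1 c') * (xg C g ν)⁻¹ * u⁻¹ := by rw [e]
      _ = _ := by rw [(cm_commute C K hμ hg hμg c' ν).symm.eq]; group
  obtain ⟨m, hm', t, ht, ht0, hzm⟩ := good_high C K hB σ hO hG hS (p := p) hμ hμl (by omega)
    (show u * xg C x.1 c' * u⁻¹ ∈ H from hzu ▸ mul_mem (mul_mem (mul_mem hx1 hy) (inv_mem hx1)) (inv_mem hy))
    ⟨u, hu, c', hc0, rfl⟩
  have hmH := hO.fixed (inv_mem hm')
  refine Good.of_conj C σ (inv_mem hm') ?_
  obtain ⟨g', hg', hgl', hy''⟩ := hyLR.conj C K hB hn (fixedRoots_le_group C σ (inv_mem hm'))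
  have hcom : Commute (m⁻¹ * (u * xg C g ν * u⁻¹) * m⁻¹⁻¹) (xg C (D.nroots - 1) t) := by
    have h1 : Commute (u * xg C g ν * u⁻¹) (u * xg C x.1 c' * u⁻¹) :=
      (cm_commute C K hμ hg hμg c' ν).symm.map (MulAut.conj u).toMonoidHom
    rw [hzm] at h1
    have := h1.map (MulAut.conj m⁻¹).toMonoidHom
    simpa [MulAut.conj_apply, mul_assoc] using this
  have h0' := nonneg_of_comm C K hB hn (minus_one C K hB σ hO hG hS hZ) hg' hgl' hy'' ht0 hcom
  have hyH := mul_mem (mul_mem hmH hy) (inv_mem hmH)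
  rcases h0'.lt_or_eq with h | h
  · exact good_high C K hB σ hO hG hS (p := p) hg' hgl' (by omega) hyH hy''
  · exact good_zero C K hB σ hO hG hS hZ (p := p) hg' hgl' h.symm hyH hy''

end Cfsg.Lib.Chev.Ovg
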