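import Mathlib
import Cfsg.Agent.Lib.Chev.Overgroup.Frame
import Cfsg.Agent.Lib.Chev.Overgroup.Low
import Cfsg.Agent.Lib.Chev.Overgroup.B2

/-!
All root elements of a finite overgroup are rational, so the overgroup is rational.
-/

set_option autoImplicit false
set_option linter.unusedSectionVars false
set_option linter.unusedVariables false

namespace Cfsg.Lib.Chev.Ovg

open Cfsg.Lie

theorem closure_conj_mem {G : Type*} [Group G] (S : Set G) (g : G)
    (h : ∀ s ∈ S, g * s * g⁻¹ ∈ Subgroup.closure S) : ∀ x ∈ Subgroup.closure S, g * x * g⁻¹ ∈ Subgroup.closure S :=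
  fun x hx => conj_mem_closure h hx

section Gen

variable {D : ChevalleyDatum} {T : Tbl} {F : Type*} [Field F] (C : Cert D T) (K : FullCert D T) {L : ℕ}
  (hB : chkBase T L = true) (σ : F →+* F) {H : Subgroup (GL D.Idx F)} {d : ℕ} (hO : Over C σ H)
  (hG : chkTop T L d = true) (hS : chkStep T L = true) (hZ : chkZero T L = true)
  {p : ℕ} [Fact p.Prime] [CharP F p]
include C K hB hO hG hS hZ p

theorem rat_gen : Rat C L σ H := fun g hg hl hne y hy h =>
  good_rat C K hB σ hO hG hS hZ (p := p) hg hl hne hy h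

theorem no_fixed_frame {q : GL D.Idx F} (hq : q ∈ qup C F 0) {ν : F} (hν : ν ≠ 0)
    (hy : q * xg C (T.neg (D.nroots - 1)) ν * q⁻¹ ∈ H)
    (hng : ¬ Good C σ (q * xg C (T.neg (D.nroots - 1)) ν * q⁻¹)) {r : GL D.Idx F} (hr : r ∈ fixedRoots C σ)
    (hrq : q⁻¹ * r * q = xg C (D.nroots - 2) (1 : F)) : False := by
  obtain ⟨hd, -, -, -, -, hlδ, -, -, hfθ, hβθ, hfn, -⟩ := top_facts C K hB σ hO hG hS
  have hn := hO.pos
  have hsd := C.spec.simp_lt d hd
  set f := T.neg (T.simp' d) with hf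
  have hfn' : f < D.nroots := C.spec.neg_lt _ hsd
  have hθn := C.spec.neg_lt (D.nroots - 1) (by omega)
  obtain ⟨κ, hκ, hc⟩ := comm_oneRoot C (F := F) K (by omega : D.nroots - 2 < D.nroots) hθn hβθ
  have hfl : lg L f = true := by
    rw [hf, ← C.spec.refl_simple d hd, ← (base C K hB _ hsd).2.1 d hd, hlδ]
  set z := r * (q * xg C (T.neg (D.nroots - 1)) ν * q⁻¹) * r⁻¹ *
    (q * xg C (T.neg (D.nroots - 1)) ν * q⁻¹)⁻¹ with hz
  have hcf := cm_commute C K hfn' hθn hfn (κ * 1 * ν) ν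
  have hzq : z = q * xg C f (κ * 1 * ν) * q⁻¹ := by
    calc z = q * ((q⁻¹ * r * q) * xg C (T.neg (D.nroots - 1)) ν * (q⁻¹ * r * q)⁻¹ *
          (xg C (T.neg (D.nroots - 1)) ν)⁻¹) * q⁻¹ := by rw [hz]; group
      _ = q * (xg C (T.neg (D.nroots - 1)) ν * xg C f (κ * 1 * ν) * (xg C (T.neg (D.nroots - 1)) ν)⁻¹) * q⁻¹ := by
        rw [hrq, hc]
      _ = _ := by rw [hcf.symm.eq, mul_inv_cancel_right]
  have hzH : z ∈ H := mul_mem (mul_mem (mul_mem (hO.fixed hr) hy) (inv_mem (hO.fixed hr))) (inv_mem hy)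
  have hκν : κ * 1 * ν ≠ 0 := mul_ne_zero (mul_ne_zero (sq_one_ne C hκ) one_ne_zero) hν
  have hne : f ≠ T.neg (D.nroots - 1) := fun e => by
    simp only [oneRoot, nc, Bool.and_eq_true, Bool.not_eq_true'] at hfθ
    have h2 := ne_of_beq_false hfθ.1.2
    rw [e, C.spec.neg_neg _ (by omega)] at h2
    exact h2 rfl
  have hzG : Good C σ z := good_rat C K hB σ hO hG hS hZ (p := p) hfn' hfl hne hzH
    ⟨q, qup_le_pos C K hB 0 hq, _, hκν, hzq⟩
  refine hng (good_of_commute C K hB σ hO (rat_gen C K hB σ hO hG hS hZ (p := p)) hy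
    ⟨_, hθn, ?_, q, qup_le_pos C K hB 0 hq, ν, hν, rfl⟩ hzG ?_)
  · obtain ⟨w, hw, hwf⟩ := long_to_top C K hB hfn' hfl
    have h2 := lg_wperm C K hB (w := w) hw hfn'
    have hθ : D.nroots - 1 < D.nroots := by omega
    obtain ⟨w', hw', hwn⟩ : ∃ w', IsWord D w' ∧ wperm T w' (D.nroots - 1) = T.neg (D.nroots - 1) := by
      obtain ⟨v, hv, hvs⟩ := long_to_top C K hB hsd hlδ
      refine ⟨v ++ [d] ++ v.reverse, (hv.append (IsWord.cons hd fun i hi => absurd hi List.not_mem_nil)).append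
        hv.reverse, ?_⟩
      rw [wperm_append, wperm_append, ← hvs, wperm_reverse C hv hsd]
      show wperm T v (T.refl' d (T.simp' d)) = _
      rw [C.spec.refl_simple d hd, wperm_neg C hv hsd]
    rw [← hwn, lg_wperm C K hB hw' hθ, lg_top C K hB]
  · rw [hzq]
    exact (hcf.symm).map (MulAut.conj q).toMonoidHom

/-- All root elements of the finite overgroup are rational. -/
theorem all_good_gen {y : GL D.Idx F} (hy : y ∈ H) (hyL : IsLR C L y) : Good C σ y := by
  by_contra hng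
  have hR := rat_gen C K hB σ hO hG hS hZ (p := p)
  obtain ⟨q, hq, ν, hν, rfl⟩ := not_good_form C K hB σ hO hR hy hyL hng
  obtain ⟨hd, hρp, hlβ, hprβ, hρ1, -, -, -, hfθ, hβθ, hfn, hfβ, hfρ, hβρ, hθρ, hβcθ⟩ :=
    top_facts C K hB σ hO hG hS
  have hn := hO.pos
  have hρn : D.nroots - 3 < D.nroots := by omega
  have hβn : D.nroots - 2 < D.nroots := by omega
  have hθ : D.nroots - 1 < D.nroots := by omega
  by_cases hp2 : p = 2
  swap
  · obtain ⟨q₀, hq₀, c, rfl⟩ := odd_param C K hB σ hO hR (p := p) hp2 hρn hρ1 hq hν hy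
    refine no_fixed_frame C K hB σ hO hG hS hZ (p := p) hq hν hy hng
      (r := q₀ * xg C (D.nroots - 2) 1 * q₀⁻¹)
      (mul_mem (mul_mem hq₀ (xg_mem_fixedRoots C σ (map_one σ))) (inv_mem hq₀)) ?_
    have := (cm_commute C K hβn hθ hβcθ (1 : F) c).eq
    calc _ = (xg C (D.nroots - 1) c)⁻¹ * (xg C (D.nroots - 2) (1 : F) * xg C (D.nroots - 1) c) := by group
      _ = _ := by rw [this, inv_mul_cancel_left]
  subst hp2
  have hqp := qup_le_pos C K hB 0 hq
  obtain ⟨v, hv, ev⟩ := conj_qup_root C K hB (inv_mem hqp) hβn (by omega) (1 : F)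
  obtain ⟨ω, rfl⟩ := qup_top C K hB (qup_anti C (by omega) hv)
  rw [inv_inv] at ev
  by_cases hωf : σ ω = ω
  · refine no_fixed_frame C K hB σ hO hG hS hZ (p := 2) hq hν hy hng
      (r := xg C (D.nroots - 2) 1 * xg C (D.nroots - 1) (-ω))
      (mul_mem (xg_mem_fixedRoots C σ (map_one σ)) (xg_mem_fixedRoots C σ (by rw [map_neg, hωf]))) ?_
    have := ((top_comm C K hn hqp (-ω)).inv_left).eq
    calc _ = (q⁻¹ * xg C (D.nroots - 2) (1 : F) * q) * (q⁻¹ * xg C (D.nroots - 1) (-ω) * q) := by group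
      _ = _ := by rw [ev, this, inv_mul_cancel_right, mul_assoc, xg_add, add_neg_cancel, xg_zero, mul_one]
  have hω0 : ω ≠ 0 := fun e => hωf (by rw [e, map_zero])
  have hsd := C.spec.simp_lt d hd
  have hfn' : T.neg (T.simp' d) < D.nroots := C.spec.neg_lt _ hsd
  have hθn := C.spec.neg_lt (D.nroots - 1) hθ
  obtain ⟨κ, hκ, hfc⟩ := comm_oneRoot C (F := F) K hfn' hθ hfθ
  obtain ⟨κ', hκ', hβc⟩ := comm_oneRoot C (F := F) K hβn hθn hβθ
  have cfβ : ∀ a b : F, Commute (xg C (T.neg (T.simp' d)) a) (xg C (D.nroots - 2) b) :=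
    fun a b => cm_commute C K hfn' hβn hfβ a b
  have cff : ∀ (r : ℕ) (a b : F), Commute (xg C r a) (xg C r b) := fun r a b =>
    show _ = _ by rw [xg_add, xg_add, add_comm]
  set S : Set (GL D.Idx F) := Set.range (xg C (T.neg (T.simp' d))) ∪ Set.range (xg C (D.nroots - 2)) with hSdef
  set M := Subgroup.closure S with hM
  have hfM : ∀ a : F, xg C (T.neg (T.simp' d)) a ∈ M := fun a => Subgroup.subset_closure (Or.inl ⟨a, rfl⟩)
  have hβM : ∀ a : F, xg C (D.nroots - 2) a ∈ M := fun a => Subgroup.subset_closure (Or.inr ⟨a, rfl⟩)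
  have hMZ : ∀ x ∈ M, ∀ b : F, Commute x (xg C (D.nroots - 2) b) := fun x hx b => by
    have hle : M ≤ Subgroup.centralizer {xg C (D.nroots - 2) b} := (Subgroup.closure_le _).2 (by
      rintro _ (⟨a, rfl⟩ | ⟨a, rfl⟩) <;>
        exact Subgroup.mem_centralizer_iff.2 fun _ h => by
          rw [Set.mem_singleton_iff.1 h]
          first
            | exact (cfβ a b).symm.eq
            | exact (cff _ a b).symm.eq)
    exact (Subgroup.mem_centralizer_iff.1 (hle hx) _ rfl).symm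
  have hM2 : ∀ x ∈ M, ∀ w : F, ∃ c : F,
      x * xg C (D.nroots - 1) w * x⁻¹ = xg C (D.nroots - 1) w * xg C (D.nroots - 2) c := by
    intro x hx w
    induction hx using Subgroup.closure_induction generalizing w with
    | mem y hy =>
      rcases hy with ⟨a, rfl⟩ | ⟨a, rfl⟩
      · exact ⟨_, hfc a w⟩
      · exact ⟨0, by rw [(cm_commute C K hβn hθ hβcθ a w).eq, mul_inv_cancel_right, xg_zero, mul_one]⟩
    | one => exact ⟨0, by rw [xg_zero]; group⟩
    | mul a b ha hb iha ihb =>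
      obtain ⟨c1, e1⟩ := ihb w
      obtain ⟨c2, e2⟩ := iha w
      refine ⟨c2 + c1, ?_⟩
      calc a * b * xg C (D.nroots - 1) w * (a * b)⁻¹ = a * (b * xg C (D.nroots - 1) w * b⁻¹) * a⁻¹ := by group
        _ = a * xg C (D.nroots - 1) w * a⁻¹ * (a * xg C (D.nroots - 2) c1 * a⁻¹) := by rw [e1]; group
        _ = _ := by rw [e2, (hMZ a ha c1).eq, mul_inv_cancel_right, mul_assoc, xg_add]
    | inv a ha iha =>
      obtain ⟨c, e⟩ := iha w
      refine ⟨-c, ?_⟩
      calc a⁻¹ * xg C (D.nroots - 1) w * a⁻¹⁻¹ = a⁻¹ * (a * xg C (D.nroots - 1) w * a⁻¹ *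
            (xg C (D.nroots - 2) c)⁻¹) * a := by rw [e]; group
        _ = xg C (D.nroots - 1) w * (a⁻¹ * (xg C (D.nroots - 2) c)⁻¹ * a) := by group
        _ = _ := by rw [((hMZ a ha c).inv_inv).eq, inv_mul_cancel_right, xg_inv]
  have hM1 : ∀ (t : F), ∀ x ∈ M, xg C (D.nroots - 1) t * x * (xg C (D.nroots - 1) t)⁻¹ ∈ M ∧
      xg C (T.neg (D.nroots - 1)) t * x * (xg C (T.neg (D.nroots - 1)) t)⁻¹ ∈ M := by
    intro t x hx
    constructor <;> refine closure_conj_mem _ _ ?_ x hx <;> rintro _ (⟨a, rfl⟩ | ⟨a, rfl⟩)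
    · obtain ⟨c, hc⟩ : ∃ c, c = κ * a * t := ⟨_, rfl⟩
      have e : xg C (D.nroots - 1) t * xg C (T.neg (T.simp' d)) a * (xg C (D.nroots - 1) t)⁻¹ =
          (xg C (D.nroots - 2) c)⁻¹ * xg C (T.neg (T.simp' d)) a := by
        have h := hfc a t
        have hct := (cm_commute C K hβn hθ hβcθ c t).eq
        rw [← hc, ← hct] at h
        calc _ = (xg C (D.nroots - 2) c)⁻¹ * (xg C (D.nroots - 2) c * xg C (D.nroots - 1) t) *
              xg C (T.neg (T.simp' d)) a * (xg C (D.nroots - 1) t)⁻¹ := by group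
          _ = _ := by rw [← h]; group
      rw [e]
      exact mul_mem (inv_mem (hβM c)) (hfM a)
    · rw [← (cm_commute C K hβn hθ hβcθ a t).eq, mul_inv_cancel_right]; exact hβM a
    · rw [← (cm_commute C K hfn' hθn hfn a t).eq, mul_inv_cancel_right]; exact hfM a
    · obtain ⟨c, hc⟩ : ∃ c, c = κ' * a * t := ⟨_, rfl⟩
      have h := hβc a t
      rw [← hc, ← (cm_commute C K hfn' hθn hfn c t).eq] at h
      have e : xg C (T.neg (D.nroots - 1)) t * xg C (D.nroots - 2) a * (xg C (T.neg (D.nroots - 1)) t)⁻¹ =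
          (xg C (T.neg (T.simp' d)) c)⁻¹ * xg C (D.nroots - 2) a := by
        calc _ = (xg C (T.neg (T.simp' d)) c)⁻¹ *
              (xg C (T.neg (T.simp' d)) c * xg C (T.neg (D.nroots - 1)) t) * xg C (D.nroots - 2) a *
              (xg C (T.neg (D.nroots - 1)) t)⁻¹ := by group
          _ = _ := by rw [← h]; group
      rw [e]
      exact mul_mem (inv_mem (hfM c)) (hβM a)
  set e := κ * ω⁻¹ with he
  have hrl : q⁻¹ * xg C (D.nroots - 2) (1 : F) * q =
      xg C (T.neg (T.simp' d)) e * xg C (D.nroots - 1) ω * (xg C (T.neg (T.simp' d)) e)⁻¹ := by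
    rw [ev, hfc, show κ * e * ω = 1 by rw [he]; field_simp; linear_combination hκ,
      (cm_commute C K hβn hθ hβcθ (1 : F) ω).eq]
  have hZp : D.rootSubgroup F (D.nroots - 2) ≤ D.posUnipotent F := fun g hg => by
    obtain ⟨c, rfl⟩ := (mem_rootSubgroup C).1 hg
    have := nroots_even C
    exact xg_mem_pos C hβn ((base C K hB _ hβn).1.2.2.2.2.1 (by omega)) c
  obtain ⟨k, hkf, lam, hlam, μ, hμ0, hμ, a, hk⟩ := even_frame C K hB σ hO hR hρn hρ1 hq hν hy (M := M)
    (Z := D.rootSubgroup F (D.nroots - 2)) (l := xg C (T.neg (T.simp' d)) e) (hfM e) hZp hM1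
    (fun x hx w => by
      obtain ⟨c, hc⟩ := hM2 x hx w
      exact ⟨_, (mem_rootSubgroup C).2 ⟨c, rfl⟩, hc⟩)
    (fun a b z hz h => by
      obtain ⟨c, rfl⟩ := (mem_rootSubgroup C).1 hz
      rw [← (cm_commute C K hβn hθ hβcθ c b).eq] at h
      have hp := (base C K hB _ hβn).1.2.2.2.2.1 (by omega)
      obtain ⟨-, h2⟩ := upper_unique C (t := (0 : F)) (u := c) hp hβn
        (xg_mem_upper C (r := D.nroots - 1) (by omega) a) (xg_mem_upper C (r := D.nroots - 1) (by omega) b)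
        (by rw [xg_zero, one_mul]; exact h)
      exact xg_injective C hθ h2)
    (fun x hx z hz => by
      obtain ⟨c, rfl⟩ := (mem_rootSubgroup C).1 hz
      rw [(hMZ x hx c).eq, mul_inv_cancel_right]
      exact hz)
    (cm_commute C K hfn' hθn hfn e ν) hω0 (good_root C K hB σ hβn hlβ (map_one σ) one_ne_zero) hrl
  -- the scalar on the third highest root
  have hρMc : ∀ x ∈ M, ∀ b : F, Commute x (xg C (D.nroots - 3) b) := fun x hx b => by
    have hle : M ≤ Subgroup.centralizer {xg C (D.nroots - 3) b} := (Subgroup.closure_le _).2 (by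
      rintro _ (⟨a, rfl⟩ | ⟨a, rfl⟩) <;>
        exact Subgroup.mem_centralizer_iff.2 fun _ h => by
          rw [Set.mem_singleton_iff.1 h]
          first
            | exact (cm_commute C K hfn' hρn hfρ a b).symm.eq
            | exact (cm_commute C K hβn hρn hβρ a b).symm.eq)
    exact (Subgroup.mem_centralizer_iff.1 (hle hx) _ rfl).symm
  obtain ⟨b, hb, eb⟩ := conj_qup_root C K hB (inv_mem hqp) hρn (by omega) (1 : F)
  rw [inv_inv] at eb
  have hgb : ∀ x ∈ qup C F (D.nroots - 2), lam * x * lam⁻¹ ∈ qup C F (D.nroots - 2) := by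
    intro x hx
    refine conj_mem_closure ?_ hx
    rintro _ ⟨r, t, hr, hr1, hr2, rfl⟩
    rcases (show r = D.nroots - 2 ∨ r = D.nroots - 1 by omega) with rfl | rfl
    · rw [(hMZ lam hlam t).eq, mul_inv_cancel_right]
      exact xg_mem_qup C hr hr1 le_rfl t
    · obtain ⟨c, hc⟩ := hM2 lam hlam t
      rw [hc]
      exact mul_mem (xg_mem_qup C hr hr1 hr2 t) (xg_mem_qup C hβn (by omega) le_rfl c)
  set g := lam * (xg C (D.nroots - 1) a * hg C (D.nroots - 1) μ) with hg_def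
  have e1 : g * xg C (D.nroots - 3) (1 : F) * g⁻¹ = xg C (D.nroots - 3) μ := by
    calc _ = lam * (xg C (D.nroots - 1) a * (hg C (D.nroots - 1) μ * xg C (D.nroots - 3) (1 : F) *
          (hg C (D.nroots - 1) μ)⁻¹) * (xg C (D.nroots - 1) a)⁻¹) * lam⁻¹ := by rw [hg_def]; group
      _ = _ := by
        rw [hg_top_conj C K hB hn hρn hμ0, hρ1, zpow_one, mul_one, (cm_commute C K hθ hρn hθρ a μ).eq,
          mul_inv_cancel_right, (hρMc lam hlam μ).eq, mul_inv_cancel_right]
  have e2 : g * b * g⁻¹ ∈ qup C F (D.nroots - 2) := by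
    have h1 := diag_normalizes_qup C K hB (hg_mem C hθ hμ0) (qup_anti C (by omega) hb :
      b ∈ qup C F (D.nroots - 2))
    have hθp : D.nroots ≤ 2 * (D.nroots - 1) := by have := nroots_even C; omega
    have h2 := hgb _ (conj_qup C K hB (xg_mem_pos C hθ hθp a) h1)
    simpa [hg_def, mul_assoc] using h2
  obtain ⟨b', hb', eb'⟩ := conj_qup_root C K hB hqp hρn (by omega) μ
  have hb2 : b' ∈ qup C F (D.nroots - 2) := qup_anti C (by omega) hb'
  have e3 : k * xg C (D.nroots - 3) (1 : F) * k⁻¹ = xg C (D.nroots - 3) μ * (b' * (q * (g * b * g⁻¹) * q⁻¹)) := by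
    calc _ = q * (g * (q⁻¹ * xg C (D.nroots - 3) (1 : F) * q) * g⁻¹) * q⁻¹ := by rw [hk]; group
      _ = (q * (g * xg C (D.nroots - 3) (1 : F) * g⁻¹) * q⁻¹) * (q * (g * b * g⁻¹) * q⁻¹) := by rw [eb]; group
      _ = _ := by rw [e1, eb', mul_assoc]
  set B := b' * (q * (g * b * g⁻¹) * q⁻¹) with hBdef
  have hBm : B ∈ qup C F (D.nroots - 2) := mul_mem hb2 (conj_qup C K hB hqp e2)
  have e4 : Matrix.GeneralLinearGroup.map σ (k * xg C (D.nroots - 3) (1 : F) * k⁻¹) =
      k * xg C (D.nroots - 3) (1 : F) * k⁻¹ := by simp only [map_mul, map_inv, hkf, map_xg, map_one]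
  rw [e3, map_mul, map_xg] at e4
  obtain ⟨h5, -⟩ := upper_unique C hρp hρn
    (upper_anti C (by omega) (qup_le_upper C _ (map_qup C K hB σ hBm)))
    (upper_anti C (by omega) (qup_le_upper C _ hBm)) e4
  exact hωf (by rw [← hμ, map_pow, h5])

end Gen

section TypeB2

variable {F : Type*} [Field F] (C : Cert chevB2 tblB2) (K : FullCert chevB2 tblB2) (σ : F →+* F)
  {H : Subgroup (GL chevB2.Idx F)} (hB : chkBase tblB2 0x99 = true) (hO : Over C σ H)
  {p : ℕ} [Fact p.Prime] [CharP F p]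
include C K hB hO p

/-- All root elements of the finite overgroup are rational, type `B₂`. -/
theorem all_good_b2 {y : GL chevB2.Idx F} (hy : y ∈ H) (hyL : IsLR C 0x99 y) : Good C σ y := by
  by_contra hng
  have hn := b2_n C K
  have hR : Rat C 0x99 σ H := fun g hg hl hne y hy h => b2_good_rat C K (p := p) hB hO hg hl hne hy h
  obtain ⟨q, hq, ν, hν, rfl⟩ := not_good_form C K hB σ hO hR hy hyL hng
  have e7 : chevB2.nroots - 1 = 7 := by rw [hn]
  have eneg : tblB2.neg (chevB2.nroots - 1) = 0 := by rw [e7]; decide +kernel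
  rw [eneg] at hy hyL hng
  have hlt : ∀ i : ℕ, i < 8 → i < chevB2.nroots := fun i hi => by rw [hn]; exact hi
  have h6 : pr tblB2 6 = 1 := by decide +kernel
  have hpos : ∀ i : ℕ, 4 ≤ i → i < 8 → ∀ t : F, xg C i t ∈ chevB2.posUnipotent F := fun i h4 h8 t =>
    xg_mem_pos C (hlt i h8) (by rw [hn]; omega) t
  have key : ∀ r, Good C σ r → q⁻¹ * r * q = xg C 4 (1 : F) → False := by
    intro r hr hrq
    refine hng (good_of_commute C K hB σ hO hR hy hyL hr ?_)
    have h := ((b2_cm C K 0 4 (by norm_num) (by norm_num) (by decide +kernel) ν (1 : F))).map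
      (MulAut.conj q).toMonoidHom
    have e : q * xg C 4 (1 : F) * q⁻¹ = r := by rw [← hrq]; group
    simpa [MulAut.conj_apply, e] using h
  have hgood4 : Good C σ (xg C 4 (1 : F)) :=
    good_root C K hB σ (hlt 4 (by norm_num)) (by decide +kernel) (map_one σ) one_ne_zero
  by_cases hp2 : p = 2
  swap
  · obtain ⟨q₀, hq₀, c, rfl⟩ := odd_param C K hB σ hO hR (p := p) hp2 (hlt 6 (by norm_num)) h6 hq hν
      (by rw [eneg]; exact hy)
    refine key _ (hgood4.conj C σ hq₀) ?_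
    have := (b2_cm C K 4 7 (by norm_num) (by norm_num) (by decide +kernel) (1 : F) c).eq
    rw [e7]
    calc _ = (xg C 7 c)⁻¹ * (xg C 4 (1 : F) * xg C 7 c) := by group
      _ = _ := by rw [this, inv_mul_cancel_left]
  subst hp2
  have hq5 : q ∈ qup C F 5 := by
    suffices h : qup C F 0 ≤ qup C F 5 from h hq
    refine (Subgroup.closure_le _).2 ?_
    rintro g ⟨r, t, hr, hr1, -, rfl⟩
    refine xg_mem_qup C hr hr1 ?_ t
    rw [hn] at hr
    by_contra h5
    interval_cases r <;> exact absurd hr1 (by decide +kernel)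
  obtain ⟨s, b, hb, -, rfl⟩ := qup_step C K hB hq5
  have h2 : (2 : F) = 0 := CharTwo.two_eq_zero
  have hb4 : ∀ i : ℕ, i = 4 ∨ i = 6 ∨ i = 7 → ∀ t : F, Commute b (xg C i t) := by
    intro i hi t
    have hle : qup C F (5 + 1) ≤ Subgroup.centralizer {xg C i t} := (Subgroup.closure_le _).2 (by
      rintro _ ⟨r, a, hr, -, hr6, rfl⟩
      refine Subgroup.mem_centralizer_iff.2 fun _ h => ?_
      rw [Set.mem_singleton_iff.1 h]
      rw [hn] at hr
      interval_cases r <;> rcases hi with rfl | rfl | rfl <;>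
        exact (b2_cm C K _ _ (by norm_num) (by norm_num) (by decide +kernel) t a).eq)
    exact (Subgroup.mem_centralizer_iff.1 (hle hb) _ rfl).symm
  have ev : (xg C 5 s * b)⁻¹ * xg C 4 (1 : F) * (xg C 5 s * b) =
      xg C 4 1 * (xg C 6 s * xg C 7 (s ^ 2)) := by
    have hc := ((hb4 4 (by tauto) 1).mul_right ((hb4 6 (by tauto) s).mul_right (hb4 7 (by tauto) (s ^ 2))))
    calc _ = b⁻¹ * (xg C 5 (-s) * xg C 4 (1 : F) * (xg C 5 (-s))⁻¹) * b := by rw [← xg_inv]; group
      _ = _ := by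
        rw [b2_x5x4 C K, mul_one, mul_one, neg_sq, neg_neg, CharTwo.neg_eq (s ^ 2), mul_assoc, ← hc.eq,
          inv_mul_cancel_left]
  by_cases hsf : σ s = s
  · refine key _ (hgood4.conj C σ (xg_mem_fixedRoots C σ (r := 5) hsf)) ?_
    calc _ = b⁻¹ * (xg C 4 (1 : F) * b) := by group
      _ = _ := by rw [← (hb4 4 (by tauto) 1).eq, inv_mul_cancel_left]
  have hs0 : s ≠ 0 := fun e => hsf (by rw [e, map_zero])
  have hs2 : s ^ 2 ≠ 0 := pow_ne_zero 2 hs0
  set S : Set (GL chevB2.Idx F) := Set.range (xg C 2) ∪ (Set.range (xg C 4) ∪ Set.range (xg C 6)) with hSdef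
  set M := Subgroup.closure S with hM
  set Z := Subgroup.closure (Set.range (xg C 4 (F := F)) ∪ Set.range (xg C 6)) with hZ
  have hZM : Z ≤ M := Subgroup.closure_mono Set.subset_union_right
  have h4Z : ∀ a : F, xg C 4 a ∈ Z := fun a => Subgroup.subset_closure (Or.inl ⟨a, rfl⟩)
  have h6Z : ∀ a : F, xg C 6 a ∈ Z := fun a => Subgroup.subset_closure (Or.inr ⟨a, rfl⟩)
  have h2M : ∀ a : F, xg C 2 a ∈ M := fun a => Subgroup.subset_closure (Or.inl ⟨a, rfl⟩)
  have p26 : ∀ a c : F, Commute (xg C 2 a) (xg C 6 c) := by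
    intro a c
    have e := b2_prod C K 2 6 (by norm_num) (by norm_num) (by decide +kernel) _ rfl a c
    have e' : tTerms tblB2 2 6 = [(4, -2, 1, 1)] := by decide +kernel
    rw [e'] at e
    simp only [List.map_cons, List.map_nil, List.prod_cons, List.prod_nil, mul_one, Int.cast_neg, Int.cast_ofNat,
      h2, neg_zero, zero_mul, xg_zero] at e
    exact mul_inv_eq_iff_eq_mul.1 e
  have p27 : ∀ a c : F, xg C 2 a * xg C 7 c * (xg C 2 a)⁻¹ = xg C 7 c * (xg C 6 (a * c) * xg C 4 (a ^ 2 * c)) := by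
    intro a c
    have e' : tTerms tblB2 2 7 = [(6, 1, 1, 1), (4, -1, 2, 1)] := by decide +kernel
    rw [b2_prod C K 2 7 (by norm_num) (by norm_num) (by decide +kernel) _ e']
    simp [CharTwo.neg_eq]
  have hMZ : ∀ x ∈ M, ∀ z ∈ Z, Commute x z := by
    intro x hx z hz
    have key2 : ∀ i : ℕ, i = 4 ∨ i = 6 → ∀ c : F, ∀ y ∈ S, Commute y (xg C i c) := by
      rintro i (rfl | rfl) c y (⟨a, rfl⟩ | ⟨a, rfl⟩ | ⟨a, rfl⟩)
      · exact b2_cm C K 2 4 (by norm_num) (by norm_num) (by decide +kernel) _ _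
      · exact b2_cm C K 4 4 (by norm_num) (by norm_num) (by decide +kernel) _ _
      · exact b2_cm C K 6 4 (by norm_num) (by norm_num) (by decide +kernel) _ _
      · exact p26 a c
      · exact b2_cm C K 4 6 (by norm_num) (by norm_num) (by decide +kernel) _ _
      · exact b2_cm C K 6 6 (by norm_num) (by norm_num) (by decide +kernel) _ _
    have hle : Z ≤ Subgroup.centralizer (M : Set (GL chevB2.Idx F)) := by
      rw [hM, Subgroup.centralizer_closure]
      refine (Subgroup.closure_le _).2 ?_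
      rintro _ (⟨c, rfl⟩ | ⟨c, rfl⟩) <;>
        exact Subgroup.mem_centralizer_iff.2 fun y hy => (key2 _ (by tauto) c y hy).eq
    exact Subgroup.mem_centralizer_iff.1 (hle hz) x hx
  have hM2 : ∀ x ∈ M, ∀ w : F, ∃ z ∈ Z, x * xg C 7 w * x⁻¹ = xg C 7 w * z := by
    intro x hx w
    induction hx using Subgroup.closure_induction generalizing w with
    | mem y hy =>
      rcases hy with ⟨a, rfl⟩ | ⟨a, rfl⟩ | ⟨a, rfl⟩
      · exact ⟨_, mul_mem (h6Z _) (h4Z _), p27 a w⟩
      · exact ⟨1, one_mem _, by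
          rw [(b2_cm C K 4 7 (by norm_num) (by norm_num) (by decide +kernel) a w).eq, mul_inv_cancel_right, mul_one]⟩
      · exact ⟨1, one_mem _, by
          rw [(b2_cm C K 6 7 (by norm_num) (by norm_num) (by decide +kernel) a w).eq, mul_inv_cancel_right, mul_one]⟩
    | one => exact ⟨1, one_mem _, by simp⟩
    | mul a c ha hc iha ihc =>
      obtain ⟨z1, hz1, e1⟩ := ihc w
      obtain ⟨z2, hz2, e2⟩ := iha w
      refine ⟨z2 * z1, mul_mem hz2 hz1, ?_⟩
      calc a * c * xg C 7 w * (a * c)⁻¹ = a * (c * xg C 7 w * c⁻¹) * a⁻¹ := by group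
        _ = a * xg C 7 w * a⁻¹ * (a * z1 * a⁻¹) := by rw [e1]; group
        _ = _ := by rw [e2, (hMZ a ha z1 hz1).eq, mul_inv_cancel_right, mul_assoc]
    | inv a ha iha =>
      obtain ⟨z, hz, e⟩ := iha w
      refine ⟨z⁻¹, inv_mem hz, ?_⟩
      calc a⁻¹ * xg C 7 w * a⁻¹⁻¹ = a⁻¹ * (a * xg C 7 w * a⁻¹ * z⁻¹) * a := by rw [e]; group
        _ = xg C 7 w * (a⁻¹ * z⁻¹ * a) := by group
        _ = _ := by rw [((hMZ a ha z hz).inv_inv).eq, inv_mul_cancel_right]
  have hM1 : ∀ (t : F), ∀ x ∈ M, xg C 7 t * x * (xg C 7 t)⁻¹ ∈ M ∧ xg C 0 t * x * (xg C 0 t)⁻¹ ∈ M := by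
    intro t x hx
    constructor <;> refine closure_conj_mem _ _ ?_ x hx <;> rintro _ (⟨a, rfl⟩ | ⟨a, rfl⟩ | ⟨a, rfl⟩)
    · rw [b2_prod C K 7 2 (by norm_num) (by norm_num) (by decide +kernel) [(6, -1, 1, 1), (4, -1, 1, 2)]
        (by decide +kernel)]
      simp only [List.map_cons, List.map_nil, List.prod_cons, List.prod_nil, mul_one]
      exact mul_mem (h2M a) (hZM (mul_mem (h6Z _) (h4Z _)))
    · rw [← (b2_cm C K 4 7 (by norm_num) (by norm_num) (by decide +kernel) a t).eq, mul_inv_cancel_right]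
      exact hZM (h4Z a)
    · rw [← (b2_cm C K 6 7 (by norm_num) (by norm_num) (by decide +kernel) a t).eq, mul_inv_cancel_right]
      exact hZM (h6Z a)
    · rw [← (b2_cm C K 2 0 (by norm_num) (by norm_num) (by decide +kernel) a t).eq, mul_inv_cancel_right]
      exact h2M a
    · rw [← (b2_cm C K 4 0 (by norm_num) (by norm_num) (by decide +kernel) a t).eq, mul_inv_cancel_right]
      exact hZM (h4Z a)
    · rw [b2_prod C K 0 6 (by norm_num) (by norm_num) (by decide +kernel) [(2, -1, 1, 1), (4, 1, 1, 2)]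
        (by decide +kernel)]
      simp only [List.map_cons, List.map_nil, List.prod_cons, List.prod_nil, mul_one]
      exact mul_mem (hZM (h6Z a)) (mul_mem (h2M _) (hZM (h4Z _)))
  have hZrep : ∀ z ∈ Z, ∃ a c : F, z = xg C 4 a * xg C 6 c := by
    intro z hz
    have c64 : ∀ a c : F, Commute (xg C 6 c) (xg C 4 a) := fun a c =>
      b2_cm C K 6 4 (by norm_num) (by norm_num) (by decide +kernel) _ _
    induction hz using Subgroup.closure_induction with
    | mem y hy =>
      rcases hy with ⟨a, rfl⟩ | ⟨c, rfl⟩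
      · exact ⟨a, 0, by rw [xg_zero, mul_one]⟩
      · exact ⟨0, c, by rw [xg_zero, one_mul]⟩
    | one => exact ⟨0, 0, by rw [xg_zero, xg_zero, one_mul]⟩
    | mul u v hu hv ihu ihv =>
      obtain ⟨a, c, rfl⟩ := ihu
      obtain ⟨a', c', rfl⟩ := ihv
      refine ⟨a + a', c + c', ?_⟩
      calc _ = xg C 4 a * (xg C 6 c * xg C 4 a') * xg C 6 c' := by group
        _ = _ := by rw [(c64 a' c).eq, ← xg_add, ← xg_add]; group
    | inv u hu ihu =>
      obtain ⟨a, c, rfl⟩ := ihu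
      exact ⟨-a, -c, by rw [mul_inv_rev, xg_inv, xg_inv, (c64 (-a) (-c)).eq]⟩
  have hrl : (xg C 5 s * b)⁻¹ * xg C 4 (1 : F) * (xg C 5 s * b) =
      xg C 2 s⁻¹ * xg C (chevB2.nroots - 1) (s ^ 2) * (xg C 2 s⁻¹)⁻¹ := by
    rw [ev, e7, p27]
    have c46 := b2_cm C K 4 6 (by norm_num) (by norm_num) (by decide +kernel) (1 : F) s
    have c67 := b2_cm C K 6 7 (by norm_num) (by norm_num) (by decide +kernel) s (s ^ 2)
    have c47 := b2_cm C K 4 7 (by norm_num) (by norm_num) (by decide +kernel) (1 : F) (s ^ 2)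
    rw [show s⁻¹ * s ^ 2 = s by field_simp, show s⁻¹ ^ 2 * s ^ 2 = 1 by field_simp]
    calc _ = (xg C 4 (1 : F) * xg C 6 s) * xg C 7 (s ^ 2) := by group
      _ = _ := by rw [(c47.mul_left c67).eq, c46.eq]
  obtain ⟨k, hkf, lam, hlam, μ, hμ0, hμ, a, hk⟩ := even_frame C K hB σ hO hR (hlt 6 (by norm_num)) h6 hq hν
    (by rw [eneg]; exact hy) (M := M) (Z := Z) (l := xg C 2 s⁻¹) (h2M _)
    ((Subgroup.closure_le _).2 (by
      rintro _ (⟨c, rfl⟩ | ⟨c, rfl⟩)
      · exact hpos 4 le_rfl (by norm_num) c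
      · exact hpos 6 (by norm_num) (by norm_num) c))
    (fun t x hx => by rw [eneg, e7]; exact hM1 t x hx)
    (fun x hx w => by rw [e7]; exact hM2 x hx w)
    (fun a c z hz h => by
      rw [e7] at h
      obtain ⟨u, v, rfl⟩ := hZrep z hz
      have c47 := (b2_cm C K 7 4 (by norm_num) (by norm_num) (by decide +kernel) c u).eq
      have c67 := (b2_cm C K 7 6 (by norm_num) (by norm_num) (by decide +kernel) c v).eq
      rw [← mul_assoc, c47, mul_assoc, c67] at h
      obtain ⟨-, h2⟩ := upper_unique C (t := (0 : F)) (u := u) (by rw [hn]) (hlt 4 (by norm_num))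
        (xg_mem_upper C (r := 7) (by norm_num) a)
        (mul_mem (xg_mem_upper C (r := 6) (by norm_num) v) (xg_mem_upper C (r := 7) (by norm_num) c))
        (by rw [xg_zero, one_mul]; exact h)
      obtain ⟨-, h3⟩ := upper_unique C (t := (0 : F)) (u := v) (by rw [hn]; norm_num) (hlt 6 (by norm_num))
        (xg_mem_upper C (r := 7) (by norm_num) a) (xg_mem_upper C (r := 7) (by norm_num) c)
        (by rw [xg_zero, one_mul]; exact h2)
      exact xg_injective C (hlt 7 (by norm_num)) h3)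
    (fun x hx z hz => by rw [(hMZ x hx z hz).eq, mul_inv_cancel_right]; exact hz)
    (by rw [eneg]; exact b2_cm C K 2 0 (by norm_num) (by norm_num) (by decide +kernel) _ _)
    hs2 hgood4 hrl
  rw [e7] at hk
  have hμs : μ = s := frobenius_inj F 2 (by simpa [frobenius_def] using hμ)
  have hq6 : ∀ c : F, Commute (xg C 5 s * b) (xg C 6 c) := by
    intro c
    refine Commute.mul_left ?_ (hb4 6 (by tauto) c)
    have e := b2_x5x6 C K s c
    rw [h2, zero_mul, zero_mul, xg_zero, mul_one] at e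
    exact mul_inv_eq_iff_eq_mul.1 e
  have h7 : Commute (xg C 7 a) (xg C 6 μ) := b2_cm C K 7 6 (by norm_num) (by norm_num) (by decide +kernel) _ _
  have e3 : k * xg C 6 (1 : F) * k⁻¹ = xg C 6 μ := by
    rw [hk]
    calc _ = (xg C 5 s * b) * (lam * (xg C 7 a * (hg C 7 μ *
          ((xg C 5 s * b)⁻¹ * xg C 6 (1 : F) * (xg C 5 s * b)) * (hg C 7 μ)⁻¹) * (xg C 7 a)⁻¹) * lam⁻¹) *
          (xg C 5 s * b)⁻¹ := by group
      _ = _ := by
        rw [(hq6 1).inv_left.eq, inv_mul_cancel_right, ← e7,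
          hg_top_conj C K hB hO.pos (hlt 6 (by norm_num)) hμ0, h6, zpow_one, mul_one, e7, h7.eq,
          mul_inv_cancel_right, (hMZ lam hlam _ (h6Z μ)).eq, mul_inv_cancel_right, (hq6 μ).eq, mul_inv_cancel_right]
  have e4 := congrArg (Matrix.GeneralLinearGroup.map σ) e3
  simp only [map_mul, map_inv, hkf, map_xg, map_one] at e4
  rw [e3] at e4
  refine hsf ?_
  rw [← hμs]
  exact (xg_injective C (hlt 6 (by norm_num)) e4).symm

end TypeB2

end Cfsg.Lib.Chev.Ovg
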