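import Mathlib
import Cfsg.Agent.Lib.Chev.Overgroup.Final

/-!
The field of a finite overgroup and the main statement.
-/

set_option autoImplicit false
set_option linter.unusedSectionVars false
set_option linter.unusedVariables false

namespace Cfsg.Lib.Chev.Ovg

open Cfsg.Lie

section Common

variable {D : ChevalleyDatum} {T : Tbl} {F : Type*} [Field F] (C : Cert D T) (K : FullCert D T) {L : ℕ}
  (hB : chkBase T L = true) (σ₀ : F →+* F) {H : Subgroup (GL D.Idx F)} (hfix : fixedRoots C σ₀ ≤ H)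
include C K hB hfix

omit hfix in
theorem lg_neg {r : ℕ} (hr : r < D.nroots) : lg L (T.neg r) = lg L r := by
  refine C.root_induction (P := fun r => lg L (T.neg r) = lg L r) (fun i hi => ?_) (fun i hi s hs ih => ?_) r hr
  · rw [← C.spec.refl_simple i hi, ← (base C K hB _ (C.spec.simp_lt i hi)).2.1 i hi]
  · rw [← C.spec.refl_neg i hi s hs, ← (base C K hB _ (C.spec.neg_lt s hs)).2.1 i hi,
      ← (base C K hB s hs).2.1 i hi, ih]

theorem long_mem_iff {r : ℕ} (hr : r < D.nroots) (hl : lg L r = true) (t : F) :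
    xg C r t ∈ H ↔ xg C (D.nroots - 1) t ∈ H := by
  obtain ⟨w, hw, hwr⟩ := long_to_top C K hB hr hl
  obtain ⟨c, hc, hct⟩ := wnu_conj_xg C (F := F) hw hr
  have hn := hfix (wnu_mem_fixedRoots C σ₀ w)
  have e : xg C r t ∈ H ↔ xg C (D.nroots - 1) (c * t) ∈ H := by
    rw [← hwr, ← hct t]
    exact ⟨fun h => mul_mem (mul_mem hn h) (inv_mem hn), fun h => by
      have := mul_mem (mul_mem (inv_mem hn) h) hn
      simpa [mul_assoc] using this⟩
  rw [e]
  rcases mul_self_eq_one_iff.1 hc with rfl | rfl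
  · rw [one_mul]
  · rw [neg_one_mul, ← xg_inv, inv_mem_iff]

/-- A finite set of parameters closed under the field operations contains the fixed root elements. -/
theorem fixed_le_of_field (σ : F →+* F) (hn : 0 < D.nroots)
    (hσ : ∀ t : F, σ t = t → xg C (D.nroots - 1) t ∈ H) : fixedRoots C σ ≤ H := by
  refine (Subgroup.closure_le _).2 ?_
  rintro _ ⟨r, t, ht, rfl⟩
  by_cases hr : r < D.nroots
  swap
  · rw [xg_out C hr]; exact one_mem _
  cases hl : lg L r
  swap
  · exact (long_mem_iff C K hB σ₀ hfix hr hl t).2 (hσ t ht)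
  by_cases ht0 : t = 0
  · rw [ht0, xg_zero]; exact one_mem _
  obtain ⟨s, hs, hsl, hcor⟩ := (base C K hB r hr).2.2.2.2.2 hl
  have hsn : lg L (T.neg s) = true := (lg_neg C K hB hs).trans hsl
  have hng : ∀ v : F, σ v = v → ng C s v ∈ H := fun v hv => by
    rw [ng, C.spec.shape.neg_eq s hs]
    exact mul_mem (mul_mem ((long_mem_iff C K hB σ₀ hfix hs hsl v).2 (hσ v hv))
      ((long_mem_iff C K hB σ₀ hfix (C.spec.neg_lt s hs) hsn _).2 (hσ _ (by rw [map_neg, map_inv₀, hv]))))
      ((long_mem_iff C K hB σ₀ hfix hs hsl v).2 (hσ v hv))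
  have hhg : ∀ v : F, σ v = v → hg C s v ∈ H := fun v hv =>
    mul_mem (hng v hv) (hng (-1) (by rw [map_neg, map_one]))
  have h1 := hfix (xg_mem_fixedRoots C σ₀ (r := r) (map_one σ₀))
  rcases hcor with h | h
  · have := mul_mem (mul_mem (hhg t ht) h1) (inv_mem (hhg t ht))
    rwa [hg_conj C hs hr ht0, h, zpow_one, mul_one] at this
  · have ht' : σ t⁻¹ = t⁻¹ := by rw [map_inv₀, ht]
    have := mul_mem (mul_mem (hhg _ ht') h1) (inv_mem (hhg _ ht'))
    rwa [hg_conj C hs hr (inv_ne_zero ht0), h, zpow_neg_one, inv_inv, mul_one] at this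

variable {p : ℕ} [Fact p.Prime] [CharP F p]
include p

/-- The parameters of the highest root in a finite overgroup form a field. -/
theorem exists_frobenius [Finite H] (hn : 0 < D.nroots)
    (hmul : ∀ t u : F, xg C (D.nroots - 1) t ∈ H → xg C (D.nroots - 1) u ∈ H → xg C (D.nroots - 1) (t * u) ∈ H) :
    ∃ m : ℕ, 1 ≤ m ∧ ∀ t : F, iterateFrobenius F p m t = t ↔ xg C (D.nroots - 1) t ∈ H := by
  classical
  set A : Set F := {t | xg C (D.nroots - 1) t ∈ H} with hA
  have hAf : A.Finite := by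
    have hi : Function.Injective fun t : A => (⟨xg C (D.nroots - 1) t.1, t.2⟩ : H) := fun a b h =>
      Subtype.ext (xg_injective C (by omega) (congrArg Subtype.val h))
    exact Set.finite_coe_iff.1 (Finite.of_injective _ hi)
  have h1 : (1 : F) ∈ A := hfix (xg_mem_fixedRoots C σ₀ (map_one σ₀))
  let S : Subfield F :=
    { carrier := A
      mul_mem' := fun {a b} ha hb => hmul a b ha hb
      one_mem' := h1
      add_mem' := fun {a b} ha hb => by
        show xg C (D.nroots - 1) (a + b) ∈ H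
        rw [← xg_add]; exact mul_mem ha hb
      zero_mem' := by
        show xg C (D.nroots - 1) 0 ∈ H
        rw [xg_zero]; exact one_mem _
      neg_mem' := fun {a} ha => by
        show xg C (D.nroots - 1) (-a) ∈ H
        rw [← xg_inv]; exact inv_mem ha
      inv_mem' := fun a ha => by
        by_cases h0 : a = 0
        · rw [h0, inv_zero, ← h0]; exact ha
        haveI := hAf.to_subtype
        obtain ⟨⟨y, hy⟩, e⟩ := (Finite.injective_iff_surjective (f := fun x : A => (⟨a * x.1, hmul a x.1 ha x.2⟩ : A))).1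
          (fun x y h => Subtype.ext (mul_left_cancel₀ h0 (congrArg Subtype.val h))) ⟨1, h1⟩
        have e' : a * y = 1 := congrArg Subtype.val e
        rwa [← eq_inv_of_mul_eq_one_right e'] }
  haveI : Finite S := hAf.to_subtype
  haveI : Fintype S := Fintype.ofFinite _
  haveI : CharP S p := Subfield.charP S p
  obtain ⟨m, -, hm⟩ := FiniteField.card S p
  refine ⟨m, m.pos, fun t => ?_⟩
  rw [iterateFrobenius_def]
  constructor
  · intro ht
    have hq : 1 < p ^ (m : ℕ) := Nat.one_lt_pow m.ne_zero (Fact.out : p.Prime).one_lt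
    set P : Polynomial F := Polynomial.X ^ (p ^ (m : ℕ)) - Polynomial.X with hP
    have hdeg : P.natDegree = p ^ (m : ℕ) := FiniteField.X_pow_card_sub_X_natDegree_eq F hq
    have hP0 : P ≠ 0 := fun e => by rw [e, Polynomial.natDegree_zero] at hdeg; omega
    have hsub : hAf.toFinset ⊆ P.roots.toFinset := fun a ha => by
      rw [Set.Finite.mem_toFinset] at ha
      rw [Multiset.mem_toFinset, Polynomial.mem_roots hP0]
      have := FiniteField.pow_card (⟨a, ha⟩ : S)
      rw [hm] at this
      have h' : a ^ p ^ (m : ℕ) = a := (SubmonoidClass.coe_pow (⟨a, ha⟩ : S) _).symm.trans (congrArg Subtype.val this)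
      simp [hP, Polynomial.IsRoot, sub_eq_zero, h']
    have hcard : P.roots.toFinset.card ≤ hAf.toFinset.card := by
      refine ((Multiset.toFinset_card_le _).trans (Polynomial.card_roots' P)).trans ?_
      rw [hdeg, ← hm, ← Nat.card_eq_fintype_card, ← Nat.card_eq_card_finite_toFinset hAf]
      exact le_of_eq rfl
    have : t ∈ P.roots.toFinset := by
      rw [Multiset.mem_toFinset, Polynomial.mem_roots hP0]
      simp [hP, Polynomial.IsRoot, ht]
    rw [← Finset.eq_of_subset_of_card_le hsub hcard, Set.Finite.mem_toFinset] at this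
    exact this
  · intro ht
    have := FiniteField.pow_card (⟨t, ht⟩ : S)
    rw [hm] at this
    simpa using congrArg Subtype.val this

omit p

theorem mul_gen {d : ℕ} (hG : chkTop T L d = true) {t u : F} (ht : xg C (D.nroots - 1) t ∈ H)
    (hu : xg C (D.nroots - 1) u ∈ H) : xg C (D.nroots - 1) (t * u) ∈ H := by
  simp only [chkTop, Bool.and_eq_true, Nat.blt_eq, Nat.ble_eq, C.spec.shape.nroots_eq, C.spec.shape.rank_eq] at hG
  obtain ⟨hd, hρ, hlβ, -, -, hlδ, -, hone, -⟩ := hG
  have hsd := C.spec.simp_lt d hd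
  have hβ : D.nroots - 2 < D.nroots := by omega
  obtain ⟨κ, hκ, hc⟩ := comm_oneRoot C (F := F) K hsd hβ hone
  have h1 := (long_mem_iff C K hB σ₀ hfix hsd hlδ t).2 ht
  have h2 := (long_mem_iff C K hB σ₀ hfix hβ hlβ u).2 hu
  have h3 := mul_mem (inv_mem h2) (mul_mem (mul_mem h1 h2) (inv_mem h1))
  rw [hc, inv_mul_cancel_left] at h3
  rcases mul_self_eq_one_iff.1 hκ with rfl | rfl
  · simpa using h3
  · rw [neg_one_mul, neg_mul, ← xg_inv, inv_mem_iff] at h3
    exact h3

section TypeB2

omit C K hB hfix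

variable {C' : Cert chevB2 tblB2} (K' : FullCert chevB2 tblB2) {H' : Subgroup (GL chevB2.Idx F)}
  (hfix' : fixedRoots C' σ₀ ≤ H') [Fact p.Prime] [CharP F p]
include K' hfix' p

theorem mul_b2 [Finite H'] {t u : F} (ht : xg C' 7 t ∈ H') (hu : xg C' 7 u ∈ H') : xg C' 7 (t * u) ∈ H' := by
  have sq : ∀ x : F, xg C' 7 x ∈ H' → xg C' 7 (x ^ 2) ∈ H' := fun x hx => by
    have := inv_mem (b2_sq C' K' hfix' x 0 (by simpa [xg_zero] using b2_long_short C' K' hfix' hx))
    simpa [xg_inv] using this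
  have add : ∀ x y : F, xg C' 7 x ∈ H' → xg C' 7 y ∈ H' → xg C' 7 (x + y) ∈ H' := fun x y hx hy => by
    rw [← xg_add]; exact mul_mem hx hy
  have neg : ∀ x : F, xg C' 7 x ∈ H' → xg C' 7 (-x) ∈ H' := fun x hx => by
    rw [← xg_inv]; exact inv_mem hx
  by_cases h2 : (2 : F) = 0
  · haveI : CharP F 2 := by
      have hd := (CharP.cast_eq_zero_iff F p 2).1 (by exact_mod_cast h2)
      obtain rfl := (Nat.prime_dvd_prime_iff_eq Fact.out Nat.prime_two).1 hd
      infer_instance
    have scale : ∀ s v : F, xg C' 7 s ∈ H' → xg C' 7 v ∈ H' → xg C' 7 (s ^ 2 * (v + v ^ 2)) ∈ H' := by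
      intro s v hs hv
      have h5 : xg C' 5 s ∈ H' := by
        have := b2_nu1 C' K' hfix' s 0 (by simpa [xg_zero] using b2_long_short C' K' hfix' hs)
        simpa [xg_zero, CharTwo.neg_eq] using this
      have h4 : xg C' 4 v ∈ H' := by
        have := b2_nu0 C' K' hfix' 0 v (by simpa [xg_zero] using hv)
        simpa [xg_zero] using this
      have h := mul_mem (inv_mem h4) (mul_mem (mul_mem h5 h4) (inv_mem h5))
      rw [b2_x5x4 C' K', inv_mul_cancel_left] at h
      have h' := b2_sq C' K' hfix' _ _ h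
      convert h' using 2
      rw [CharTwo.neg_eq, CharTwo.neg_eq, CharTwo.sub_eq_add]; ring
    have hinj : Function.Injective (fun x : F => x ^ 2) := fun a b h =>
      frobenius_inj F 2 (by simpa [frobenius_def] using h)
    haveI : Finite {x : F // xg C' 7 x ∈ H'} := Finite.of_injective
      (fun x : {x : F // xg C' 7 x ∈ H'} => (⟨xg C' 7 x.1, x.2⟩ : H')) fun a b h =>
        Subtype.ext (xg_injective C' (by rw [b2_n C' K']; norm_num) (congrArg Subtype.val h))
    let IsR : F → Prop := fun r => ∀ x, xg C' 7 x ∈ H' → xg C' 7 (r * x) ∈ H'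
    have hone : xg C' 7 (1 : F) ∈ H' := hfix' (xg_mem_fixedRoots C' σ₀ (map_one σ₀))
    have hR0 : ∀ v, xg C' 7 v ∈ H' → IsR (v + v ^ 2) := by
      intro v hv x hx
      obtain ⟨⟨y, hy⟩, e⟩ := (Finite.injective_iff_surjective
        (f := fun y : {x : F // xg C' 7 x ∈ H'} => (⟨y.1 ^ 2, sq y.1 y.2⟩ : {x : F // xg C' 7 x ∈ H'}))).1
        (fun a b h => Subtype.ext (hinj (congrArg Subtype.val h))) ⟨x, hx⟩
      have e' : y ^ 2 = x := congrArg Subtype.val e
      rw [← e', mul_comm]
      exact scale y v hy hv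
    have hRinv : ∀ r, r ≠ 0 → IsR r → IsR r⁻¹ := by
      intro r hr0 hr x hx
      obtain ⟨⟨y, hy⟩, e⟩ := (Finite.injective_iff_surjective
        (f := fun y : {x : F // xg C' 7 x ∈ H'} => (⟨r * y.1, hr y.1 y.2⟩ : {x : F // xg C' 7 x ∈ H'}))).1
        (fun a b h => Subtype.ext (mul_left_cancel₀ hr0 (congrArg Subtype.val h))) ⟨x, hx⟩
      have e' : r * y = x := congrArg Subtype.val e
      rw [← e', inv_mul_cancel_left₀ hr0]
      exact hy
    by_cases hrt : IsR t
    · exact hrt u hu
    have hbin : ∀ r, IsR r → r = 0 ∨ r = 1 := by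
      intro r hr
      by_contra hne
      push Not at hne
      have hne2 : r + r ^ 2 ≠ 0 := fun e => by
        have : r * (1 + r) = 0 := by linear_combination e
        rcases mul_eq_zero.1 this with h | h
        · exact hne.1 h
        · exact hne.2 (CharTwo.add_eq_zero.1 h).symm
      refine hrt fun x hx => ?_
      have hrt' : xg C' 7 (r * t) ∈ H' := hr t ht
      have a1 : ∀ y, xg C' 7 y ∈ H' → xg C' 7 ((r + r ^ 2) * t * y) ∈ H' := fun y hy => by
        have h1 := hR0 _ hrt' y hy
        have h2' := hr _ (hr _ (hR0 _ ht y hy))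
        have e : (r + r ^ 2) * t * y = (r * t + (r * t) ^ 2) * y + r * (r * ((t + t ^ 2) * y)) := by
          linear_combination -(r ^ 2 * t ^ 2 * y) * h2
        rw [e]
        exact add _ _ h1 h2'
      have h3 : xg C' 7 ((r + r ^ 2)⁻¹ * ((r + r ^ 2) * t * x)) ∈ H' :=
        hRinv _ hne2 (hR0 r (by simpa using hr 1 hone)) _ (a1 x hx)
      rwa [mul_assoc, inv_mul_cancel_left₀ hne2] at h3
    have ht01 : t ≠ 0 ∧ t ≠ 1 := ⟨fun e => hrt (fun x hx => by
        rw [e, zero_mul, xg_zero]; exact one_mem _), fun e => hrt (fun x hx => by rw [e, one_mul]; exact hx)⟩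
    have ht2 : t ^ 2 = t + 1 := by
      rcases hbin _ (hR0 t ht) with h | h
      · exfalso
        have : t * (1 + t) = 0 := by linear_combination h
        rcases mul_eq_zero.1 this with h | h
        · exact ht01.1 h
        · exact ht01.2 (CharTwo.add_eq_zero.1 h).symm
      · linear_combination h - t * h2
    rcases hbin _ (hR0 u hu) with h | h
    · have : u * (1 + u) = 0 := by linear_combination h
      rcases mul_eq_zero.1 this with h | h
      · rw [h, mul_zero, xg_zero]; exact one_mem _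
      · rw [← CharTwo.add_eq_zero.1 h, mul_one]; exact ht
    · have : (u + t) * (u + t + 1) = 0 := by linear_combination h + ht2 + (u * t + t + 1) * h2
      rcases mul_eq_zero.1 this with h | h
      · rw [CharTwo.add_eq_zero.1 h, ← pow_two, ht2]; exact add _ _ ht hone
      · have hu' : u = t + 1 := by linear_combination h - (t + 1) * h2
        rw [hu', show t * (t + 1) = 1 by linear_combination ht2 + t * h2]
        exact hone
  · have hp : p ≠ 2 := fun e => h2 (by subst e; exact_mod_cast CharP.cast_eq_zero F 2)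
    have h := add _ _ (add _ _ (sq _ (add _ _ ht hu)) (neg _ (sq _ ht))) (neg _ (sq _ hu))
    obtain ⟨j, hj⟩ := Nat.Prime.odd_of_ne_two (Fact.out : p.Prime) hp
    have e : ((j + 1 : ℕ) : F) * ((t + u) ^ 2 + -(t ^ 2) + -(u ^ 2)) = t * u := by
      have hz : ((2 * j + 1 : ℕ) : F) = 0 := by rw [← hj]; exact CharP.cast_eq_zero F p
      push_cast at hz ⊢
      linear_combination (t * u) * hz
    rw [← e]
    have : ∀ i : ℕ, xg C' 7 ((i : F) * ((t + u) ^ 2 + -(t ^ 2) + -(u ^ 2))) ∈ H' := by
      intro i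
      induction i with
      | zero => rw [Nat.cast_zero, zero_mul, xg_zero]; exact one_mem _
      | succ i ih => rw [Nat.cast_succ, add_mul, one_mul]; exact add _ _ ih h
    exact this _

end TypeB2

end Common

/-- A finite group between a group over a subfield and the whole group is rational over a larger subfield. -/
theorem exists_field {D : ChevalleyDatum} (hD : D ∈ [chevG2, chevB2, chevD4, chevF4, chevE6, chevE7, chevE8])
    {F : Type*} [Field F] (p : ℕ) [Fact p.Prime] [CharP F p] (σ₀ : F →+* F) (H : Subgroup (GL D.Idx F))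
    (hle : H ≤ D.group F) (hfin : Finite H)
    (hfix : ∀ (r : ℕ) (t : F) (g : GL D.Idx F), σ₀ t = t → (g : Matrix D.Idx D.Idx F) = D.x F r t → g ∈ H) :
    ∃ m : ℕ, 1 ≤ m ∧
      (∀ (r : ℕ) (t : F) (g : GL D.Idx F), t ^ p ^ m = t → (g : Matrix D.Idx D.Idx F) = D.x F r t → g ∈ H) ∧
      ∀ g ∈ H, ∀ i j, ((g : Matrix D.Idx D.Idx F) i j) ^ p ^ m = (g : Matrix D.Idx D.Idx F) i j := by
  have gen : ∀ (T : Tbl) (C : Cert D T) (K : FullCert D T) (L : ℕ), chkBase T L = true → 0 < D.nroots →
      (∀ t u : F, xg C (D.nroots - 1) t ∈ H → xg C (D.nroots - 1) u ∈ H →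
        xg C (D.nroots - 1) (t * u) ∈ H) →
      (∀ σ : F →+* F, Over C σ H → ∀ y ∈ H, IsLR C L y → Good C σ y) →
      (∀ σ : F →+* F, Over C σ H → Rat C L σ H) →
      ∃ m : ℕ, 1 ≤ m ∧
      (∀ (r : ℕ) (t : F) (g : GL D.Idx F), t ^ p ^ m = t → (g : Matrix D.Idx D.Idx F) = D.x F r t → g ∈ H) ∧
      ∀ g ∈ H, ∀ i j, ((g : Matrix D.Idx D.Idx F) i j) ^ p ^ m = (g : Matrix D.Idx D.Idx F) i j := by
    intro T C K L hB hn hmul hall hrat
    have hfix' : fixedRoots C σ₀ ≤ H := (Subgroup.closure_le _).2 fun g ⟨r, t, ht, e⟩ =>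
      hfix r t g ht (by rw [e, coe_xg])
    haveI := hfin
    obtain ⟨m, hm1, hm⟩ := exists_frobenius C K hB σ₀ hfix' (p := p) hn hmul
    set σ : F →+* F := iterateFrobenius F p m with hσdef
    have hfix2 : fixedRoots C σ ≤ H := fixed_le_of_field C K hB σ₀ hfix' σ hn fun t ht => (hm t).1 ht
    have hO : Over C σ H := ⟨hle, hfin, hfix2, fun t ht => (hm t).2 ht, hn⟩
    refine ⟨m, hm1, fun r t g ht e => ?_, fun g hg i j => ?_⟩
    · rw [eq_xg C e]
      exact hfix2 (xg_mem_fixedRoots C σ (by rw [hσdef, iterateFrobenius_def]; exact ht))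
    · have h := fixed_of_all C K hB σ hO (hrat σ hO) (hall σ hO) hg
      have := congrFun (congrFun (congrArg (fun y : GL D.Idx F => (y : Matrix D.Idx D.Idx F)) h) i) j
      simpa [hσdef, iterateFrobenius_def] using this
  have gen' : ∀ (T : Tbl) (K : FullCert D T) (L d : ℕ), chkBase T L = true → chkGen T L d = true →
      ∃ m : ℕ, 1 ≤ m ∧
      (∀ (r : ℕ) (t : F) (g : GL D.Idx F), t ^ p ^ m = t → (g : Matrix D.Idx D.Idx F) = D.x F r t → g ∈ H) ∧
      ∀ g ∈ H, ∀ i j, ((g : Matrix D.Idx D.Idx F) i j) ^ p ^ m = (g : Matrix D.Idx D.Idx F) i j := by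
    intro T K L d hB hG
    simp only [chkGen, Bool.and_eq_true] at hG
    obtain ⟨hT, hS, hZ⟩ := hG
    have C := K.comm.cert
    have hfix' : fixedRoots C σ₀ ≤ H := (Subgroup.closure_le _).2 fun g ⟨r, t, ht, e⟩ =>
      hfix r t g ht (by rw [e, coe_xg])
    have hn : 0 < D.nroots := by
      have h := hT
      simp only [chkTop, Bool.and_eq_true, Nat.blt_eq, C.spec.shape.rank_eq] at h
      have := C.spec.simp_lt d h.1
      omega
    exact gen T C K L hB hn (fun t u => mul_gen C K hB σ₀ hfix' hT)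
      (fun σ hO y hy hyL => all_good_gen C K hB σ hO hT hS hZ (p := p) hy hyL)
      (fun σ hO => rat_gen C K hB σ hO hT hS hZ (p := p))
  simp only [List.mem_cons, List.not_mem_nil, or_false] at hD
  rcases hD with rfl | rfl | rfl | rfl | rfl | rfl | rfl
  · exact gen' _ fullCertG2 _ _ base_G2 gen_G2
  · have K := fullCertB2
    have C := K.comm.cert
    have hn := b2_n C K
    have e7 : chevB2.nroots - 1 = 7 := by rw [hn]
    have hfix' : fixedRoots C σ₀ ≤ H := (Subgroup.closure_le _).2 fun g ⟨r, t, ht, e⟩ =>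
      hfix r t g ht (by rw [e, coe_xg])
    haveI := hfin
    refine gen _ C K _ base_B2 (by rw [hn]; norm_num) (fun t u ht hu => ?_)
      (fun σ hO y hy hyL => all_good_b2 C K σ base_B2 hO (p := p) hy hyL)
      (fun σ hO g hg hl hne y hy h => b2_good_rat C K (p := p) base_B2 hO hg hl hne hy h)
    rw [e7] at ht hu ⊢
    exact mul_b2 σ₀ (p := p) K hfix' ht hu
  · exact gen' _ fullCertD4 _ _ base_D4 gen_D4
  · exact gen' _ fullCertF4 _ _ base_F4 gen_F4
  · exact gen' _ fullCertE6 _ _ base_E6 gen_E6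
  · exact gen' _ fullCertE7 _ _ base_E7 gen_E7
  · exact gen' _ fullCertE8 _ _ base_E8 gen_E8

end Cfsg.Lib.Chev.Ovg
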