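import Mathlib
import Cfsg.Agent.Lib.Chev.Overgroup.Main

/-!
Tools for applying the overgroup theorem.
-/

set_option autoImplicit false
set_option linter.unusedSectionVars false

namespace Cfsg.Lib.Chev.Ovg

open Cfsg.Lie

theorem exists_cert {D : ChevalleyDatum} (hD : D ∈ [chevG2, chevB2, chevD4, chevF4, chevE6, chevE7, chevE8]) :
    ∃ T : Tbl, Cert D T ∧ 0 < D.nroots := by
  have key : ∀ T : Tbl, Cert D T → 0 < T.nroots → ∃ T : Tbl, Cert D T ∧ 0 < D.nroots := fun T C h =>
    ⟨T, C, C.spec.shape.nroots_eq ▸ h⟩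
  simp only [List.mem_cons, List.not_mem_nil, or_false] at hD
  rcases hD with rfl | rfl | rfl | rfl | rfl | rfl | rfl
  · exact key _ fullCertG2.comm.cert (by decide)
  · exact key _ fullCertB2.comm.cert (by decide)
  · exact key _ fullCertD4.comm.cert (by decide)
  · exact key _ fullCertF4.comm.cert (by decide)
  · exact key _ fullCertE6.comm.cert (by decide)
  · exact key _ fullCertE7.comm.cert (by decide)
  · exact key _ fullCertE8.comm.cert (by decide)

variable {F : Type*} [Field F] {p : ℕ} [Fact p.Prime] [CharP F p]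

/-- The parameter of a root element with fixed entries is fixed. -/
theorem param_fixed {D : ChevalleyDatum} {T : Tbl} (C : Cert D T) {r : ℕ} (hr : r < D.nroots) {t : F} {m : ℕ}
    (h : ∀ i j, ((xg C r t : GL D.Idx F) : Matrix D.Idx D.Idx F) i j ^ p ^ m =
      ((xg C r t : GL D.Idx F) : Matrix D.Idx D.Idx F) i j) : t ^ p ^ m = t := by
  have e : Matrix.GeneralLinearGroup.map (iterateFrobenius F p m) (xg C r t) = xg C r t := by
    ext i j
    simpa [iterateFrobenius_def] using h i j
  rw [map_xg] at e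
  simpa [iterateFrobenius_def] using xg_injective C hr e

/-- Entries of a root element with fixed parameter are fixed. -/
theorem entry_fixed {D : ChevalleyDatum} {T : Tbl} (C : Cert D T) {r : ℕ} {t : F} {m : ℕ} (ht : t ^ p ^ m = t)
    (i j : D.Idx) : ((xg C r t : GL D.Idx F) : Matrix D.Idx D.Idx F) i j ^ p ^ m =
      ((xg C r t : GL D.Idx F) : Matrix D.Idx D.Idx F) i j := by
  have e := map_xg C (iterateFrobenius F p m) r t
  rw [show iterateFrobenius F p m t = t by rw [iterateFrobenius_def]; exact ht] at e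
  have := congrFun (congrFun (congrArg (fun g : GL D.Idx F => (g : Matrix D.Idx D.Idx F)) e) i) j
  simpa [iterateFrobenius_def] using this

theorem periodic_iff {t : F} {n : ℕ} : Function.IsPeriodicPt (frobenius F p) n t ↔ t ^ p ^ n = t := by
  rw [Function.IsPeriodicPt, Function.IsFixedPt, iterate_frobenius]

theorem fixed_gcd {t : F} {m n : ℕ} (hm : t ^ p ^ m = t) (hn : t ^ p ^ n = t) : t ^ p ^ Nat.gcd m n = t :=
  periodic_iff.1 ((periodic_iff.2 hm).gcd (periodic_iff.2 hn))

theorem fixed_of_dvd {t : F} {m n : ℕ} (hm : t ^ p ^ m = t) (h : m ∣ n) : t ^ p ^ n = t :=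
  periodic_iff.1 ((periodic_iff.2 hm).trans_dvd h)

/-- An element of order `p ^ a - 1` fixed by the `m`-th Frobenius power forces `a ∣ m`. -/
theorem dvd_of_fixed {u : F} {a m : ℕ} (ha : 1 ≤ a) (ho : orderOf u = p ^ a - 1) (h : u ^ p ^ m = u) : a ∣ m := by
  have hp := (Fact.out : p.Prime).one_lt
  have hpa : 1 < p ^ a := Nat.one_lt_pow (by omega) hp
  have hu0 : u ≠ 0 := fun e => by
    subst e
    rw [orderOf_zero] at ho; omega
  have h1 : u ^ p ^ a = u := by
    rw [show p ^ a = p ^ a - 1 + 1 by omega, pow_succ, ← ho, pow_orderOf_eq_one, one_mul]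
  have hg := fixed_gcd h1 h
  have hg0 : 0 < Nat.gcd a m := Nat.gcd_pos_of_pos_left _ (by omega)
  have hpg : 1 < p ^ Nat.gcd a m := Nat.one_lt_pow (by omega) hp
  have h2 : u ^ (p ^ Nat.gcd a m - 1) = 1 := by
    refine mul_right_cancel₀ hu0 ?_
    rw [← pow_succ, Nat.sub_add_cancel hpg.le, one_mul, hg]
  have h3 := Nat.le_of_dvd (by omega) (orderOf_dvd_of_pow_eq_one h2)
  rw [ho] at h3
  have h4 : a ≤ Nat.gcd a m := (Nat.pow_le_pow_iff_right hp).1 (by omega)
  have h5 : Nat.gcd a m = a := le_antisymm (Nat.gcd_le_left _ (by omega)) h4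
  exact h5 ▸ Nat.gcd_dvd_right a m

end Cfsg.Lib.Chev.Ovg
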